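import Mathlib
import Cfsg.Agent.Perm.PGPSL
import Cfsg.Agent.Perm.Basic

/-!
# O'Nan's theorem for an abelian normal subgroup of a point stabiliser
-/

set_option autoImplicit false

namespace Cfsg.Agent.Perm.PG

open Subgroup MulAction Matrix
open scoped LinearAlgebra.Projectivization

variable {G X : Type*} [Group G] [MulAction G X] [Finite G] [Finite X]

theorem exists_elGeom [FaithfulSMul G X]
    (h2 : ∀ x y x' y' : X, x ≠ y → x' ≠ y' → ∃ g : G, g • x = x' ∧ g • y = y') (x : X)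
    (N : Subgroup G) (hNle : ∀ n ∈ N, n • x = x)
    (hNn : ∀ g : G, g • x = x → ∀ n ∈ N, g * n * g⁻¹ ∈ N) (hNab : ∀ a ∈ N, ∀ b ∈ N, a * b = b * a)
    (hnsr : ∃ n ∈ N, n ≠ 1 ∧ ∃ y : X, y ≠ x ∧ n • y = y) :
    ∃ A : X → Subgroup G, ElGeom A ∧ ∀ g : G, ∀ a ∈ A (g • x), g⁻¹ * a * g ∈ N := by
  obtain ⟨n, hn, h1, y, hy, hny⟩ := hnsr
  obtain ⟨p, hp, hpn⟩ := Nat.exists_prime_and_dvd (mt orderOf_eq_one_iff.1 h1)
  have := Fact.mk hp
  have htr : ∀ z, ∃ g : G, g • x = z := fun z => by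
    by_cases hz : z = y
    · obtain ⟨g, e, -⟩ := h2 x y y x hy.symm hy
      exact ⟨g, hz ▸ e⟩
    · obtain ⟨g, e, -⟩ := h2 x y z y hy.symm hz
      exact ⟨g, e⟩
  have hc : ∀ z a b, (∀ g : G, g • x = z → g⁻¹ * a * g ∈ N) →
      (∀ g : G, g • x = z → g⁻¹ * b * g ∈ N) → Commute a b := fun z a b ha hb => by
    obtain ⟨g, e⟩ := htr z
    have := hNab _ (ha g e) _ (hb g e)
    simp only [mul_assoc, mul_inv_cancel_left, mul_right_inj] at this
    simpa [← mul_assoc, commute_iff_eq] using this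
  let A : X → Subgroup G := fun z =>
    { carrier := {a | (∀ g : G, g • x = z → g⁻¹ * a * g ∈ N) ∧ ∃ k, a ^ p ^ k = 1}
      one_mem' := ⟨fun g _ => by simp, 0, by simp⟩
      mul_mem' := by
        rintro a b ⟨ha, k, hk⟩ ⟨hb, l, hl⟩
        refine ⟨fun g e => by simpa [mul_assoc] using mul_mem (ha g e) (hb g e), k + l, ?_⟩
        rw [(hc z a b ha hb).mul_pow, pow_add, pow_mul, hk, mul_comm (p ^ k), pow_mul, hl]
        simp
      inv_mem' := by
        rintro a ⟨ha, k, hk⟩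
        exact ⟨fun g e => by simpa [mul_assoc] using inv_mem (ha g e), k, by simp [hk]⟩ }
  have heqv : ∀ (g : G) (z : X) (a : G), a ∈ A z → g * a * g⁻¹ ∈ A (g • z) := by
    rintro g z a ⟨ha, k, hk⟩
    refine ⟨fun g' e => ?_, k, by rw [conj_pow, hk]; simp⟩
    simpa [mul_assoc] using ha (g⁻¹ * g') (by rw [mul_smul, e, inv_smul_smul])
  have hC : Cen A :=
    { two := h2
      faith := fun g hg => eq_one_of_smul_eq hg
      eqv := heqv
      fix := fun z a ha => by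
        obtain ⟨g, rfl⟩ := htr z
        have := hNle _ (ha.1 g rfl)
        rwa [mul_smul, mul_smul, inv_smul_eq_iff] at this
      comm := fun z a ha b hb => hc z a b ha.1 hb.1
      nsr := fun u v huv => by
        obtain ⟨g, rfl, rfl⟩ := h2 x y u v hy.symm huv
        have ho := orderOf_pow_orderOf_div (orderOf_pos n).ne' hpn
        have hm : n ^ (orderOf n / p) ∈ A x := ⟨fun g e => by
          simpa using hNn g⁻¹ (inv_smul_eq_iff.2 e.symm) _ (pow_mem hn _), 1, by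
          rw [pow_one, ← pow_mul, Nat.div_mul_cancel hpn, pow_orderOf_eq_one]⟩
        refine ⟨_, heqv g x _ hm, fun e => hp.one_lt.ne' ?_, ?_⟩
        · rw [← ho, orderOf_eq_one_iff]
          simpa using e
        · rw [conj_smul_smul, show n ^ (orderOf n / p) • y = y from
            pow_mem (show n ∈ stabilizer G y from hny) _] }
  exact ⟨A, hC.elGeom (p := p) fun z a => by
    obtain ⟨k, hk⟩ := a.2.2
    exact ⟨k, Subtype.ext (by simpa using hk)⟩, fun g a ha => ha.1 g rfl⟩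

/-- O'Nan's theorem (1972), group-theoretic form. -/
theorem onan [FaithfulSMul G X]
    (h2 : ∀ x y x' y' : X, x ≠ y → x' ≠ y' → ∃ g : G, g • x = x' ∧ g • y = y') (x : X)
    (N : Subgroup G) (hNle : ∀ n ∈ N, n • x = x)
    (hNn : ∀ g : G, g • x = x → ∀ n ∈ N, g * n * g⁻¹ ∈ N) (hNab : ∀ a ∈ N, ∀ b ∈ N, a * b = b * a)
    (hnsr : ∃ n ∈ N, n ≠ 1 ∧ ∃ y : X, y ≠ x ∧ n • y = y) :
    ∃ (F : Type) (_ : Field F) (_ : Fintype F) (n : ℕ), 3 ≤ n ∧
      Nat.card X = (Fintype.card F ^ n - 1) / (Fintype.card F - 1) ∧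
      ∃ L : Subgroup G, L.Normal ∧ Nonempty (L ≃* ProjectiveSpecialLinearGroup (Fin n) F) ∧
        centralizer (L : Set G) = ⊥ := by
  obtain ⟨A, h, -⟩ := exists_elGeom h2 x N hNle hNn hNab hnsr
  obtain ⟨-, -, -, y, hy, -⟩ := hnsr
  have : Nontrivial X := ⟨⟨y, x, hy⟩⟩
  obtain ⟨F, _, _, n, ψ, hn, -, e⟩ := h.core
  refine ⟨F, inferInstance, inferInstance, n, hn, ?_, _, h.normal_iSup, e, h.centralizer_iSup⟩
  rw [Nat.card_congr ψ, Projectivization.card'']
  simp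

end Cfsg.Agent.Perm.PG
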