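import Mathlib
import Cfsg.Agent.GW.Basic
import Cfsg.Agent.GW.KStruct
import Cfsg.Agent.Perm.TwoCount
import Cfsg.Agent.Perm.BWFour

/-!
# Doubly transitive groups whose two-point stabilizer has a self-centralizing Sylow four-group

The common setup for two-point stabilizers `A₄` and `A₅`.
-/

set_option autoImplicit false

namespace Cfsg.Agent.Perm.KA

open Subgroup MulAction Cfsg.Agent.GW TwoCount

variable {G Ω : Type*} [Group G] [MulAction G Ω]

/-- The setup: `⟨v, w⟩` is a Sylow 2-subgroup of the stabilizer of `a, b`, of index `c`; `v` fixes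
`m` points and `⟨v, w⟩` fixes `i` points. -/
structure St (a b : Ω) (v w : G) (c m i : ℕ) : Prop where
  t2 : T2 (⊤ : Subgroup G) (Set.univ : Set Ω)
  faith : ∀ g : G, (∀ x : Ω, g • x = x) → g = 1
  ne : a ≠ b
  pair : Pair v w
  va : v • a = a
  vb : v • b = b
  wa : w • a = a
  wb : w • b = b
  card : Nat.card ↥(stabilizer G a ⊓ stabilizer G b) = 4 * c
  odd : Odd c
  conj : ∀ u : G, u • a = a → u • b = b → orderOf u = 2 →
    ∃ k : G, k • a = a ∧ k • b = b ∧ k * v * k⁻¹ = u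
  cen : ∀ k : G, k • a = a → k • b = b → Commute v k → k ∈ four v w
  rho : ∃ ρ : G, ρ • a = a ∧ ρ • b = b ∧ ρ * v * ρ⁻¹ = w ∧ ρ * w * ρ⁻¹ = v * w
  hm : (fixedBy Ω v).ncard = m
  hi : (fixedBy Ω v ∩ fixedBy Ω w).ncard = i

/-- `⟨u, x⟩` is a four-group fixing two points. -/
def Vt (Ω : Type*) [MulAction G Ω] (u x : G) : Prop :=
  Pair u x ∧ ∃ p q : Ω, p ≠ q ∧ u • p = p ∧ u • q = q ∧ x • p = p ∧ x • q = q

/-- `C(v) ∩ N(⟨v, w⟩)`. -/
def DD (v w : G) : Subgroup G := Cen v ⊓ normalizer (four v w : Set G)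

theorem conj_smul (g x : G) (p : Ω) : (g * x * g⁻¹) • g • p = g • x • p := by simp [mul_smul]

theorem conj_fix {g x : G} {p : Ω} : (g * x * g⁻¹) • g • p = g • p ↔ x • p = p := by
  simp [mul_smul]

theorem inv_conj_fix {g x : G} {p : Ω} : (g⁻¹ * x * g) • p = p ↔ x • g • p = g • p := by
  simp [mul_smul, inv_smul_eq_iff]

theorem fix_inv {g : G} {p : Ω} (h : g • p = p) : g⁻¹ • p = p := by rw [inv_smul_eq_iff, h]

theorem fix_mul {g k : G} {p : Ω} (h : g • p = p) (h' : k • p = p) : (g * k) • p = p := by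
  rw [mul_smul, h', h]

theorem fix_comm {u g : G} {p : Ω} (h : Commute u g) (hp : u • p = p) : u • g • p = g • p := by
  rw [← mul_smul, h.eq, mul_smul, hp]

theorem fixedBy_conj (g x : G) :
    fixedBy Ω (g * x * g⁻¹) = (fun p => g • p) '' fixedBy Ω x := by
  ext p
  refine ⟨fun h => ⟨g⁻¹ • p, by simpa [mul_smul, inv_smul_eq_iff, eq_comm] using h, by simp⟩, ?_⟩
  rintro ⟨q, hq, rfl⟩
  exact conj_fix.2 hq

theorem four_fix {v w k : G} {p : Ω} (hv : v • p = p) (hw : w • p = p) (hk : k ∈ four v w) :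
    k • p = p :=
  (show four v w ≤ stabilizer G p from (closure_le _).2 (by
    rintro _ (rfl | rfl); exacts [hv, hw])) hk

theorem four_mul {v w : G} (h : Pair v w) : four v (v * w) = four v w := by
  ext x
  rw [h.mem_four, h.mul.mem_four, ← mul_assoc, h.sq_left, one_mul]
  tauto

theorem four_comm (v w : G) : four v w = four w v := by rw [four, Set.pair_comm]

theorem commute_of_conj {g v : G} (h : g * v * g⁻¹ = v) : Commute v g :=
  (mul_inv_eq_iff_eq_mul.1 h).symm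

theorem conj_of_commute {g v : G} (h : Commute v g) : g * v * g⁻¹ = v := by
  rw [← h.eq, mul_inv_cancel_right]

theorem Vt.conj {u x : G} (h : Vt Ω u x) (g : G) : Vt Ω (g * u * g⁻¹) (g * x * g⁻¹) := by
  obtain ⟨h1, p, q, h2, h3, h4, h5, h6⟩ := h
  exact ⟨h1.conj g, g • p, g • q, fun e => h2 (smul_left_cancel g e), conj_fix.2 h3, conj_fix.2 h4,
    conj_fix.2 h5, conj_fix.2 h6⟩

theorem Vt.mul {u x : G} (h : Vt Ω u x) : Vt Ω u (u * x) := by
  obtain ⟨h1, p, q, h2, h3, h4, h5, h6⟩ := h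
  exact ⟨h1.mul, p, q, h2, h3, h4, fix_mul h3 h5, fix_mul h4 h6⟩

theorem Vt.symm {u x : G} (h : Vt Ω u x) : Vt Ω x u := by
  obtain ⟨h1, p, q, h2, h3, h4, h5, h6⟩ := h
  exact ⟨h1.symm, p, q, h2, h5, h6, h3, h4⟩

theorem mem_DD [Finite G] {v w g : G} (h : Pair v w) :
    g ∈ DD v w ↔ Commute v g ∧ (g * w * g⁻¹ = w ∨ g * w * g⁻¹ = v * w) := by
  refine ⟨fun hg => ⟨mem_Cen.1 hg.1, ?_⟩, fun hg => ⟨mem_Cen.2 hg.1, ?_⟩⟩
  · have h1 := h.conj g
    rw [conj_of_commute (mem_Cen.1 hg.1)] at h1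
    rcases h.mem_four.1 (GT.conj_mem_of_mem_normalizer hg.2 (right_mem_four v w)) with e | e | e | e
    exacts [absurd e h1.ne_one_right, absurd e h1.ne.symm, Or.inl e, Or.inr e]
  · refine mem_normalizer_fintype fun x hx => ?_
    have h1 : four v w ≤ (four v w).comap (MulAut.conj g).toMonoidHom := (closure_le _).2 (by
      rintro _ (rfl | rfl)
      · show g * _ * g⁻¹ ∈ four _ w
        rw [conj_of_commute hg.1]; exact left_mem_four _ _
      · show g * _ * g⁻¹ ∈ four v _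
        rcases hg.2 with e | e <;> rw [e]
        exacts [right_mem_four _ _, mul_mem (left_mem_four _ _) (right_mem_four _ _)])
    exact h1 hx

theorem DD_le (v w : G) : DD v w ≤ Cen v := inf_le_left

variable {a b : Ω} {v w : G} {c m i : ℕ}

namespace St

theorem conj' (h : St a b v w c m i) (g : G) :
    St (g • a) (g • b) (g * v * g⁻¹) (g * w * g⁻¹) c m i where
  t2 := h.t2
  faith := h.faith
  ne := fun e => h.ne (smul_left_cancel g e)
  pair := h.pair.conj g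
  va := conj_fix.2 h.va
  vb := conj_fix.2 h.vb
  wa := conj_fix.2 h.wa
  wb := conj_fix.2 h.wb
  card := by
    rw [← h.card, stabilizer_smul_eq_stabilizer_map_conj, stabilizer_smul_eq_stabilizer_map_conj,
      ← map_inf_eq _ _ _ (MulAut.conj g).injective,
      card_map_of_injective (f := (MulAut.conj g).toMonoidHom) (MulAut.conj g).injective]
  odd := h.odd
  conj := fun u h1 h2 h3 => by
    obtain ⟨k, k1, k2, k3⟩ := h.conj (g⁻¹ * u * g) (inv_conj_fix.2 h1) (inv_conj_fix.2 h2) (by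
      simpa using (GT.orderOf_conj u g⁻¹).trans h3)
    refine ⟨g * k * g⁻¹, conj_fix.2 k1, conj_fix.2 k2, ?_⟩
    rw [show g * k * g⁻¹ * (g * v * g⁻¹) * (g * k * g⁻¹)⁻¹ = g * (k * v * k⁻¹) * g⁻¹ by group, k3]
    group
  cen := fun k h1 h2 h3 => by
    have := h.cen (g⁻¹ * k * g) (inv_conj_fix.2 h1) (inv_conj_fix.2 h2) (by
      simpa [mul_assoc] using h3.conj g⁻¹)
    rw [← four_conj]
    exact ⟨_, this, by simp [mul_assoc]⟩
  rho := by
    obtain ⟨ρ, h1, h2, h3, h4⟩ := h.rho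
    refine ⟨g * ρ * g⁻¹, conj_fix.2 h1, conj_fix.2 h2, by rw [← h3]; group, ?_⟩
    rw [show g * v * g⁻¹ * (g * w * g⁻¹) = g * (v * w) * g⁻¹ by group, ← h4]; group
  hm := by rw [fixedBy_conj, Set.ncard_image_of_injective _ (MulAction.injective g), h.hm]
  hi := by
    rw [fixedBy_conj, fixedBy_conj, ← Set.image_inter (MulAction.injective g),
      Set.ncard_image_of_injective _ (MulAction.injective g), h.hi]

theorem mul (h : St a b v w c m i) : St a b v (v * w) c m i :=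
  { h with
    pair := h.pair.mul
    wa := fix_mul h.va h.wa
    wb := fix_mul h.vb h.wb
    cen := by rw [four_mul h.pair]; exact h.cen
    rho := by
      obtain ⟨ρ, h1, h2, h3, h4⟩ := h.rho
      have h5 : ρ * ρ * v * (ρ * ρ)⁻¹ = v * w := by rw [← h4, ← h3]; group
      refine ⟨ρ * ρ, fix_mul h1 h1, fix_mul h2 h2, h5, ?_⟩
      rw [← conj_mul, h5, show ρ * ρ * w * (ρ * ρ)⁻¹ = ρ * (ρ * w * ρ⁻¹) * ρ⁻¹ by group, h4,
        ← conj_mul, h3, h4, mul_assoc, ← mul_assoc w w, h.pair.sq_right, one_mul]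
    hi := by
      rw [← h.hi]
      congr 1
      ext p
      refine and_congr_right fun hp => ?_
      rw [mem_fixedBy, mem_fixedBy, mul_smul]
      exact ⟨fun e => smul_left_cancel v (e.trans (show v • p = p from hp).symm),
        fun e => by rw [e]; exact hp⟩ }

theorem rot (h : St a b v w c m i) : St a b w (v * w) c m i := by
  obtain ⟨ρ, h1, h2, h3, h4⟩ := h.rho
  have := h.conj' ρ
  rwa [h1, h2, h3, h4] at this

theorem symm (h : St a b v w c m i) : St a b w v c m i := by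
  have := h.rot.mul
  rwa [h.pair.comm.eq, ← mul_assoc, h.pair.sq_right, one_mul] at this

theorem tr (h : St a b v w c m i) {p q : Ω} (hpq : p ≠ q) : ∃ g : G, g • a = p ∧ g • b = q := by
  obtain ⟨g, -, hg⟩ := h.t2.tr a trivial b trivial p trivial q trivial h.ne hpq
  exact ⟨g, hg⟩

theorem exists_conj (h : St a b v w c m i) {u : G} (hu : orderOf u = 2) {p q : Ω} (hpq : p ≠ q)
    (h1 : u • p = p) (h2 : u • q = q) : ∃ g : G, g • a = p ∧ g • b = q ∧ g * v * g⁻¹ = u := by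
  obtain ⟨g, rfl, rfl⟩ := h.tr hpq
  obtain ⟨k, k1, k2, k3⟩ := (h.conj' g).conj u h1 h2 hu
  exact ⟨k * g, by rw [mul_smul, k1], by rw [mul_smul, k2], by rw [← k3]; group⟩

theorem isConj (h : St a b v w c m i) {u : G} (hu : orderOf u = 2) {p q : Ω} (hpq : p ≠ q)
    (h1 : u • p = p) (h2 : u • q = q) : IsConj v u := by
  obtain ⟨g, -, -, hg⟩ := h.exists_conj hu hpq h1 h2
  exact isConj_iff.2 ⟨g, hg⟩

theorem of_inv (h : St a b v w c m i) {u : G} (hu : orderOf u = 2) {p q : Ω} (hpq : p ≠ q)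
    (h1 : u • p = p) (h2 : u • q = q) : ∃ x, St p q u x c m i := by
  obtain ⟨g, rfl, rfl, rfl⟩ := h.exists_conj hu hpq h1 h2
  exact ⟨_, h.conj' g⟩

theorem of_isConj (h : St a b v w c m i) {u : G} (hu : IsConj v u) :
    ∃ (p q : Ω) (x : G), St p q u x c m i := by
  obtain ⟨g, rfl⟩ := isConj_iff.1 hu
  exact ⟨_, _, _, h.conj' g⟩

theorem of_pair (h : St a b v w c m i) {u x : G} (hu : Pair u x) {p q : Ω} (hpq : p ≠ q)
    (h1 : u • p = p) (h2 : u • q = q) (h3 : x • p = p) (h4 : x • q = q) : St p q u x c m i := by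
  obtain ⟨y, hy⟩ := h.of_inv hu.ha hpq h1 h2
  rcases hy.pair.mem_four.1 (hy.cen x h3 h4 hu.comm) with e | e | rfl | rfl
  exacts [absurd e hu.ne_one_right, absurd e hu.ne.symm, hy, hy.mul]

theorem of_vt (h : St a b v w c m i) {u x : G} (hu : Vt Ω u x) : ∃ p q : Ω, St p q u x c m i := by
  obtain ⟨h1, p, q, h2, h3, h4, h5, h6⟩ := hu
  exact ⟨p, q, h.of_pair h1 h2 h3 h4 h5 h6⟩

theorem vt (h : St a b v w c m i) : Vt Ω v w := ⟨h.pair, a, b, h.ne, h.va, h.vb, h.wa, h.wb⟩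

theorem C2 (h : St a b v w c m i) : T2 (Cen v) (fixedBy Ω v) :=
  T2.of_base (a := a) (b := b) (fun _ hg _ hp => fix_comm (mem_Cen.1 hg) hp)
    fun p hp q hq hpq => by
      obtain ⟨g, h1, h2, h3⟩ := h.exists_conj h.pair.ha hpq hp hq
      exact ⟨g, mem_Cen.2 (commute_of_conj h3), h1, h2⟩

/-- Elements of `C(v)` fixing two fixed points of `v`. -/
theorem cases_of_fix (h : St a b v w c m i) {g : G} (hg : Commute v g) {p q : Ω} (hpq : p ≠ q)
    (h1 : v • p = p) (h2 : v • q = q) (h3 : g • p = p) (h4 : g • q = q) :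
    g = 1 ∨ g = v ∨ Vt Ω v g := by
  obtain ⟨x, hx⟩ := h.of_inv h.pair.ha hpq h1 h2
  rcases hx.pair.mem_four.1 (hx.cen g h3 h4 hg) with e | e | rfl | rfl
  exacts [Or.inl e, Or.inr (Or.inl e), Or.inr (Or.inr hx.vt), Or.inr (Or.inr hx.mul.vt)]

theorem mem_four_of_map (h : St a b v w c m i) {t g : G} (ht : Commute v t) (hg : Commute v g)
    (h1 : g • a = t • a) (h2 : g • b = t • b) : g = t ∨ g = t * v ∨ g = t * w ∨ g = t * (v * w) := by
  have := h.pair.mem_four.1 (h.cen (t⁻¹ * g) (by rw [mul_smul, h1, inv_smul_smul])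
    (by rw [mul_smul, h2, inv_smul_smul]) (ht.inv_right.mul_right hg))
  simpa only [inv_mul_eq_iff_eq_mul, mul_one] using this

variable [Finite G]

theorem D2 (h : St a b v w c m i) : T2 (DD v w) (fixedBy Ω v ∩ fixedBy Ω w) :=
  T2.of_base (a := a) (b := b) (fun g hg p hp => by
    have h1 := (mem_DD h.pair).1 (inv_mem hg)
    refine ⟨fix_comm (mem_Cen.1 hg.1) hp.1, inv_conj_fix.1 ?_⟩
    rw [inv_inv] at h1
    rcases h1.2 with e | e <;> rw [e]
    exacts [hp.2, fix_mul hp.1 hp.2]) fun p hp q hq hpq => by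
    obtain ⟨g, rfl, rfl, h3⟩ := h.exists_conj h.pair.ha hpq hp.1 hq.1
    refine ⟨g, ?_, rfl, rfl⟩
    have h4 := (commute_of_conj h3).inv_right
    have h5 := h.pair.conj g⁻¹
    rw [conj_of_commute h4] at h5
    rw [← inv_mem_iff, mem_DD h.pair]
    refine ⟨h4, ?_⟩
    rcases h.pair.mem_four.1 (h.cen (g⁻¹ * w * g⁻¹⁻¹) (by rw [inv_inv]; exact inv_conj_fix.2 hp.2)
      (by rw [inv_inv]; exact inv_conj_fix.2 hq.2) h5.comm) with e | e | e | e
    exacts [absurd e h5.ne_one_right, absurd e h5.ne.symm, Or.inl e, Or.inr e]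

omit [Finite G] in
theorem four_le_DD (h : St a b v w c m i) : four v w ≤ DD v w :=
  le_inf (four_le_Cen (Commute.refl v) h.pair.comm) le_normalizer

omit [Finite G] in
theorem D_triv (h : St a b v w c m i) : ∀ g ∈ DD v w, g • a = a → g • b = b →
    ∀ p ∈ fixedBy Ω v ∩ fixedBy Ω w, g • p = p := fun g hg h1 h2 _ hp =>
  four_fix hp.1 hp.2 (h.cen g h1 h2 (mem_Cen.1 hg.1))

omit [Finite G] in
theorem inf_eq (h : St a b v w c m i) {H : Subgroup G} (h1 : four v w ≤ H) (h2 : H ≤ Cen v) :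
    H ⊓ stabilizer G a ⊓ stabilizer G b = four v w :=
  le_antisymm (fun g hg => h.cen g hg.1.2 hg.2 (mem_Cen.1 (h2 hg.1.1))) fun _ hg =>
    ⟨⟨h1 hg, four_fix h.va h.wa hg⟩, four_fix h.vb h.wb hg⟩

variable [Finite Ω]

omit [Finite G] in
theorem two_le_i (h : St a b v w c m i) : 2 ≤ i :=
  h.hi ▸ two_le_ncard (a := a) (b := b) ⟨h.va, h.wa⟩ ⟨h.vb, h.wb⟩ h.ne

omit [Finite G] in
theorem i_le_m (h : St a b v w c m i) : i ≤ m :=
  h.hi ▸ h.hm ▸ Set.ncard_le_ncard Set.inter_subset_left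

omit [Finite G] in
theorem m_lt_n (h : St a b v w c m i) : m < Nat.card Ω := by
  rw [← h.hm, ← Set.ncard_univ]
  refine Set.ncard_lt_ncard (Set.ssubset_univ_iff.2 fun e => h.pair.ne_one_left (h.faith v ?_))
  exact fun x => e.ge trivial

omit [Finite G] in
theorem card_Ga (h : St a b v w c m i) :
    Nat.card (stabilizer G a) = (Nat.card Ω - 1) * (4 * c) := by
  have := h.t2.card_stab (a := a) (b := b) trivial trivial h.ne
  rwa [top_inf_eq, h.card, Set.ncard_univ] at this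

omit [Finite G] in
theorem card_G (h : St a b v w c m i) :
    Nat.card G = Nat.card Ω * ((Nat.card Ω - 1) * (4 * c)) := by
  have := h.t2.t1.card (a := a) trivial
  rwa [top_inf_eq, h.card_Ga, Set.ncard_univ, card_top] at this

omit [Finite G] in
theorem card_Ca (h : St a b v w c m i) : Nat.card ↥(Cen v ⊓ stabilizer G a) = (m - 1) * 4 := by
  rw [h.C2.card_stab (a := a) (b := b) h.va h.vb h.ne, h.hm,
    h.inf_eq (four_le_Cen (Commute.refl v) h.pair.comm) le_rfl, K1.card_four h.pair]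

omit [Finite G] in
theorem card_C (h : St a b v w c m i) : Nat.card (Cen v) = m * ((m - 1) * 4) := by
  rw [h.C2.t1.card (a := a) h.va, h.hm, h.card_Ca]

theorem card_D (h : St a b v w c m i) : Nat.card (DD v w) = i * ((i - 1) * 4) := by
  rw [h.D2.t1.card (a := a) ⟨h.va, h.wa⟩, h.D2.card_stab (a := a) (b := b) ⟨h.va, h.wa⟩
    ⟨h.vb, h.wb⟩ h.ne, h.hi, h.inf_eq h.four_le_DD (DD_le v w), K1.card_four h.pair]

theorem card_De (h : St a b v w c m i) {e : Ω} (h1 : v • e = e) (h2 : w • e = e) :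
    Nat.card ↥(DD v w ⊓ stabilizer G e) = (i - 1) * 4 := by
  have h3 := h.D2.t1.card (a := e) ⟨h1, h2⟩
  rw [h.card_D, h.hi] at h3
  exact (Nat.eq_of_mul_eq_mul_left (by have := h.two_le_i; omega) h3).symm

theorem prime_pow (h : St a b v w c m i) : ∃ p j : ℕ, p.Prime ∧ i = p ^ j :=
  h.hi ▸ h.D2.prime_pow (a := a) (b := b) ⟨h.va, h.wa⟩ ⟨h.vb, h.wb⟩ h.ne h.D_triv

omit [Finite G] in
theorem parity_n (h : St a b v w c m i) : Nat.card Ω % 2 = m % 2 := by
  have := parity (Δ := (Set.univ : Set Ω)) (x := v) (fun _ _ => trivial)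
    fun p _ => by rw [← mul_smul, h.pair.sq_left, one_smul]
  rwa [Set.ncard_univ, Set.univ_inter, h.hm] at this

omit [Finite G] in
theorem parity_m (h : St a b v w c m i) : m % 2 = i % 2 := by
  have := parity (Δ := fixedBy Ω v) (x := w) (fun _ hp => fix_comm h.pair.comm hp)
    fun p _ => by rw [← mul_smul, h.pair.sq_right, one_smul]
  rwa [h.hm, h.hi] at this

theorem sigma (h : St a b v w c m i) :
    m * 2 = i * 2 + i * (i - 1) * {x | Vt Ω v x ∧ x • a = b}.ncard := by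
  have h1 := h.C2.swap_count (X := {x | Vt Ω v x}) (f := i) (a := a) (b := b)
    (fun g hg x hx => by
      have := Vt.conj hx g
      rwa [conj_of_commute (mem_Cen.1 hg)] at this) (fun x hx p hp => fix_comm hx.1.comm hp)
    (fun x hx => by obtain ⟨p, q, h1⟩ := h.of_vt hx; exact h1.hi) (by have := h.two_le_i; omega)
    h.va h.vb h.ne
  have h2 : {x | x ∈ {x | Vt Ω v x} ∧ x • a = a ∧ x • b = b} = {w, v * w} := by
    ext x
    refine ⟨fun hx => ?_, ?_⟩
    · rcases h.pair.mem_four.1 (h.cen x hx.2.1 hx.2.2 hx.1.1.comm) with e | e | e | e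
      exacts [absurd e hx.1.1.ne_one_right, absurd e hx.1.1.ne.symm, Or.inl e, Or.inr e]
    · rintro (rfl | rfl)
      exacts [⟨h.vt, h.wa, h.wb⟩, ⟨h.mul.vt, h.mul.wa, h.mul.wb⟩]
  rwa [h2, Set.ncard_pair h.pair.mul'.ne, h.hm] at h1

omit [Finite G] [Finite Ω] in
theorem card_inv (h : St a b v w c m i) :
    {u : G | orderOf u = 2 ∧ u • a = a ∧ u • b = b}.ncard = c := by
  have h1 := BW.card_conj (stabilizer G a ⊓ stabilizer G b) v
  have h2 : stabilizer G a ⊓ stabilizer G b ⊓ centralizer {v} = four v w := by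
    rw [← h.inf_eq (four_le_Cen (Commute.refl v) h.pair.comm) le_rfl, inf_comm, inf_assoc]
  have h3 : {x | ∃ k ∈ stabilizer G a ⊓ stabilizer G b, k * v * k⁻¹ = x} =
      {u : G | orderOf u = 2 ∧ u • a = a ∧ u • b = b} := by
    ext u
    refine ⟨?_, fun hu => ?_⟩
    · rintro ⟨k, hk, rfl⟩
      exact ⟨by rw [GT.orderOf_conj, h.pair.ha], fix_mul (fix_mul hk.1 h.va) (fix_inv hk.1),
        fix_mul (fix_mul hk.2 h.vb) (fix_inv hk.2)⟩
    · obtain ⟨k, k1, k2, k3⟩ := h.conj u hu.2.1 hu.2.2 hu.1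
      exact ⟨k, ⟨k1, k2⟩, k3⟩
  rw [h2, h3, K1.card_four h.pair, h.card, Nat.card_coe_set_eq] at h1
  omega

theorem beta (h : St a b v w c m i) : Nat.card Ω * c =
    m * c + m * (m - 1) * {u | IsConj v u ∧ u • a = b}.ncard := by
  have h1 := h.t2.swap_count (X := {u | IsConj v u}) (f := m) (a := a) (b := b)
    (fun g _ x hx => IsConj.trans hx (isConj_iff.2 ⟨g, rfl⟩)) (fun _ _ _ _ => trivial)
    (fun x hx => by
      obtain ⟨p, q, y, h1⟩ := h.of_isConj hx
      rw [Set.univ_inter, h1.hm]) (by have := h.two_le_i; have := h.i_le_m; omega)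
    trivial trivial h.ne
  have h2 : {x | x ∈ {u | IsConj v u} ∧ x • a = a ∧ x • b = b} =
      {u : G | orderOf u = 2 ∧ u • a = a ∧ u • b = b} := by
    ext x
    refine ⟨fun hx => ⟨?_, hx.2⟩, fun hx => ⟨h.isConj hx.1 h.ne hx.2.1 hx.2.2, hx.2⟩⟩
    obtain ⟨g, rfl⟩ := isConj_iff.1 hx.1
    rw [GT.orderOf_conj, h.pair.ha]
  rwa [h2, h.card_inv, Set.ncard_univ] at h1

omit [Finite G] [Finite Ω] in
/-- Every involution is conjugate to one mapping `a` to `b`. -/
theorem exists_swap (h : St a b v w c m i) {u : G} (hu : u ≠ 1) :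
    ∃ g : G, (g⁻¹ * u * g) • a = b := by
  obtain ⟨p, hp⟩ : ∃ p : Ω, u • p ≠ p := by
    by_contra! e; exact hu (h.faith u e)
  obtain ⟨g, h1, h2⟩ := h.tr hp.symm
  exact ⟨g, by rw [mul_smul, mul_smul, h1, ← h2, inv_smul_smul]⟩

/-- Uniqueness of the involution induced on the fixed points of `⟨v, w⟩` (odd case). -/
theorem uniq (h : St a b v w c m i) (ho : Odd i) {e : Ω} (h1 : v • e = e) (h2 : w • e = e)
    {x y : G} (hx : x ∈ DD v w) (hy : y ∈ DD v w) (hxe : x • e = e) (hye : y • e = e)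
    (hx2 : x * x ∈ four v w) (hy2 : y * y ∈ four v w) (hx1 : x ∉ four v w) (hy1 : y ∉ four v w) :
    x⁻¹ * y ∈ four v w := by
  have key : ∀ x ∈ DD v w, x ∉ four v w → ∃ p ∈ fixedBy Ω v ∩ fixedBy Ω w, x • p ≠ p :=
    fun x hx hx1 => by
      by_contra! e
      exact hx1 (h.cen x (e a ⟨h.va, h.wa⟩) (e b ⟨h.vb, h.wb⟩) (mem_Cen.1 hx.1))
  have := h.D2.unique_inv (a := a) (b := b) ⟨h.va, h.wa⟩ ⟨h.vb, h.wb⟩ h.ne h.D_triv (h.hi ▸ ho)
    (e := e) ⟨h1, h2⟩ hx hy hxe hye (fun p hp => by rw [← mul_smul]; exact four_fix hp.1 hp.2 hx2)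
    (fun p hp => by rw [← mul_smul]; exact four_fix hp.1 hp.2 hy2) (key x hx hx1) (key y hy hy1)
  exact h.cen _ (by rw [mul_smul, ← this a ⟨h.va, h.wa⟩, inv_smul_smul])
    (by rw [mul_smul, ← this b ⟨h.vb, h.wb⟩, inv_smul_smul])
    ((mem_Cen.1 hx.1).inv_right.mul_right (mem_Cen.1 hy.1))

end St

end Cfsg.Agent.Perm.KA
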