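import Mathlib
import Cfsg.Agent.Perm.KASet
import Cfsg.Agent.Perm.DihOrd
import Cfsg.Agent.Inv.Dihedral

/-!
# Two-point stabilizer `A₄` or `A₅`: the setwise stabilizer is a symmetric group
-/

set_option autoImplicit false

namespace Cfsg.Agent.Perm.KA

open Subgroup MulAction Cfsg.Agent.GW TwoCount Cfsg.Agent.Inv.Fz

variable {G Ω : Type*} [Group G] [MulAction G Ω]

theorem mem_zp {u x : G} (h : u * u = 1) : x ∈ zpowers u ↔ x = 1 ∨ x = u := by
  refine ⟨fun hx => ?_, by rintro (rfl | rfl); exacts [one_mem _, mem_zpowers _]⟩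
  by_cases e : x = 1
  exacts [Or.inl e, Or.inr (eq_of_mem_zpowers_two h hx e)]

theorem ncard_pair_le {α : Type*} (x y : α) : ({x, y} : Set α).ncard ≤ 2 :=
  (Set.ncard_insert_le x {y}).trans (by simp)

theorem exists_pow_sq {E : Set G} (hE : 1 ∈ E) {k : ℕ} : ∀ {x : G}, x ∉ E → x ^ 2 ^ k = 1 →
    ∃ j, x ^ 2 ^ j ∉ E ∧ x ^ 2 ^ j * x ^ 2 ^ j ∈ E := by
  induction k with
  | zero => intro x hx h; simp at h; exact absurd (h ▸ hE) hx
  | succ k ih =>
    intro x hx h
    by_cases e : x * x ∈ E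
    · exact ⟨0, by simpa using hx, by simpa using e⟩
    · obtain ⟨j, h1⟩ := ih e (by rw [← pow_two, ← pow_mul, ← pow_succ', h])
      exact ⟨j + 1, by rwa [pow_succ', pow_mul, pow_two]⟩

theorem dihSyl_of_card [Finite G] {c t : G} (h1 : t * t = 1) (h2 : t * c * t⁻¹ = c⁻¹)
    (h3 : t ∉ zpowers c) {k r : ℕ} (hk : 1 ≤ k) (h4 : orderOf c = 2 ^ k) (hr : Odd r)
    (h5 : Nat.card G = 2 * 2 ^ k * r) : DihSyl G := by
  have : Fact (Nat.Prime 2) := ⟨Nat.prime_two⟩
  obtain ⟨e⟩ := Inv.nonempty_closure_equiv_dihedral h1 h2 h3 h4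
  have h6 : Nat.card (closure {c, t}) = 2 * 2 ^ k :=
    (Nat.card_congr e.toEquiv).trans DihedralGroup.nat_card
  have h7 := (closure {c, t}).card_mul_index
  rw [h6, h5] at h7
  have h8 := Nat.eq_of_mul_eq_mul_left (by positivity) h7
  have h9 : IsPGroup 2 (closure {c, t}) := IsPGroup.of_card (n := k + 1) (by rw [h6, pow_succ'])
  exact ⟨h9.toSylow (h8 ▸ hr.not_two_dvd_nat), 2 ^ k, by
    calc 2 = 2 ^ 1 := rfl
      _ ≤ 2 ^ k := Nat.pow_le_pow_right (by norm_num) hk, ⟨e⟩⟩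

theorem card_le_two [Finite G] {H : Subgroup G} {x y : G}
    (h : ∀ g ∈ H, g * x * g⁻¹ = x ∨ g * x * g⁻¹ = y) :
    H ≤ Cen x ∨ Nat.card H = 2 * Nat.card ↥(H ⊓ Cen x) := by
  have h1 := BW.card_conj H x
  have h2 : Nat.card {z | ∃ g ∈ H, g * x * g⁻¹ = z} ≤ 2 := by
    rw [Nat.card_coe_set_eq]
    refine (Set.ncard_le_ncard (t := {x, y}) ?_).trans (ncard_pair_le x y)
    rintro _ ⟨g, hg, rfl⟩
    exact h g hg
  have h3 : 0 < Nat.card H := Nat.card_pos
  change _ * Nat.card ↥(H ⊓ Cen x) = _ at h1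
  generalize Nat.card {z | ∃ g ∈ H, g * x * g⁻¹ = z} = j at h1 h2
  interval_cases j
  · omega
  · exact Or.inl (inf_eq_left.1 (eq_of_le_of_card_ge inf_le_left (by omega)))
  · exact Or.inr h1.symm

theorem le_Cen_of_odd [Finite G] {H P : Subgroup G} {x y : G}
    (h : ∀ g ∈ H, g * x * g⁻¹ = x ∨ g * x * g⁻¹ = y) (hP : P ≤ H ⊓ Cen x) {r : ℕ} (hr : Odd r)
    (hc : Nat.card H = r * Nat.card P) : H ≤ Cen x := by
  refine (card_le_two h).resolve_right fun e => ?_
  obtain ⟨k, hk⟩ := card_dvd_of_le hP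
  rw [hc, hk] at e
  have : r = 2 * k := Nat.eq_of_mul_eq_mul_right (Nat.card_pos (α := P)) (by linarith)
  exact hr.not_two_dvd_nat ⟨k, this⟩

/-- Elements of `C(v)` inducing on the fixed points of `v` an involution with one fixed point. -/
def ZZ (Ω : Type*) [MulAction G Ω] (v x : G) : Prop :=
  Commute v x ∧ (x * x = 1 ∨ x * x = v) ∧ (fixedBy Ω v ∩ fixedBy Ω x).ncard = 1

/-- At most one such involution fixes a given point. -/
def UZ (Ω : Type*) [MulAction G Ω] (v : G) : Prop :=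
  ∀ e : Ω, v • e = e → ∀ x y, ZZ Ω v x → ZZ Ω v y → x • e = e → y • e = e → y = x ∨ y = x * v

/-- The 2-elements centralizing the four-group lie in it. -/
def P2 (v w : G) : Prop :=
  ∀ x, Commute v x → Commute w x → (∃ k, x ^ 2 ^ k = 1) → x ∈ four v w

theorem ZZ.conj {v x : G} (h : ZZ Ω v x) (g : G) : ZZ Ω (g * v * g⁻¹) (g * x * g⁻¹) :=
  ⟨h.1.conj g, by rw [conj_mul]; exact h.2.1.imp (fun e => by simp [e]) fun e => by rw [e], by
    rw [fixedBy_conj, fixedBy_conj, ← Set.image_inter (MulAction.injective g),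
      Set.ncard_image_of_injective _ (MulAction.injective g), h.2.2]⟩

theorem UZ.conj {v : G} (h : UZ Ω v) (g : G) : UZ Ω (g * v * g⁻¹) := fun e he x y hx hy h1 h2 => by
  obtain ⟨e, rfl⟩ := MulAction.surjective g e
  obtain ⟨x, rfl⟩ := (MulAut.conj g).surjective x
  obtain ⟨y, rfl⟩ := (MulAut.conj g).surjective y
  have e1 : ∀ z : G, g⁻¹ * (g * z * g⁻¹) * g⁻¹⁻¹ = z := fun z => by group
  have hx' := hx.conj g⁻¹
  have hy' := hy.conj g⁻¹
  simp only [MulAut.conj_apply, e1] at hx' hy' h1 h2 ⊢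
  rcases h e (conj_fix.1 he) x y hx' hy' (conj_fix.1 h1) (conj_fix.1 h2) with rfl | rfl
  exacts [Or.inl rfl, Or.inr conj_mul.symm]

theorem P2.conj {v w : G} (h : P2 v w) (g : G) : P2 (g * v * g⁻¹) (g * w * g⁻¹) :=
  fun x h1 h2 ⟨k, hk⟩ => by
    rw [← four_conj]
    refine ⟨g⁻¹ * x * g, h _ (by simpa [mul_assoc] using h1.conj g⁻¹)
      (by simpa [mul_assoc] using h2.conj g⁻¹) ⟨k, ?_⟩, by simp [mul_assoc]⟩
    have := conj_pow (a := g⁻¹) (b := x) (i := 2 ^ k)
    rw [inv_inv] at this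
    rw [this, hk]; simp

variable {a b : Ω} {v w : G} {c m i : ℕ}

theorem St.p2_of_vt (h : St a b v w c m i) (hp : P2 v w) {g : G} (hg : Vt Ω v g) : P2 v g := by
  obtain ⟨p, q, h1⟩ := h.of_vt hg
  obtain ⟨k, rfl, rfl, hk⟩ := h.exists_conj h.pair.ha h1.ne h1.va h1.vb
  have h2 := h.conj' k
  have h3 := hp.conj k
  rw [hk] at h2 h3
  rcases h2.pair.mem_four.1 (h2.cen g h1.wa h1.wb hg.1.comm) with e | e | rfl | rfl
  exacts [absurd e hg.1.ne_one_right, absurd e hg.1.ne.symm, h3, fun x a b c => by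
    rw [four_mul h2.pair]
    refine h3 x a ?_ c
    have := a.mul_left b
    rwa [← mul_assoc, h2.pair.sq_left, one_mul] at this]

variable [Finite G] [Finite Ω]

omit [Finite G] in
theorem St.zz_or (h : St a b v w c m i) (ho : Odd m) {x : G} (hx : Commute v x)
    (h2 : x * x = 1 ∨ x * x = v) : ZZ Ω v x ∨ x = 1 ∨ x = v ∨ Vt Ω v x := by
  obtain ⟨e, he, hxe⟩ := exists_fix (Δ := fixedBy Ω v) (x := x) (fun p hp => fix_comm hx hp)
    (fun p hp => by
      rw [← mul_smul]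
      rcases h2 with e | e <;> rw [e]
      exacts [one_smul _ _, hp]) (h.hm ▸ ho)
  by_cases h3 : ∀ p ∈ fixedBy Ω v, ∀ q ∈ fixedBy Ω v, x • p = p → x • q = q → p = q
  · exact Or.inl ⟨hx, h2, ncard_eq_one_of he hxe h3⟩
  · push Not at h3
    obtain ⟨p, hp, q, hq, h4, h5, h6⟩ := h3
    exact Or.inr (h.cases_of_fix hx h6 hp hq h4 h5)

omit [Finite G] in
theorem ZZ.not_vt {x : G} (h : ZZ Ω v x) : ¬ Vt Ω v x := by
  rintro ⟨-, p, q, h1, h2, h3, h4, h5⟩
  have := two_le_ncard (Δ := fixedBy Ω v ∩ fixedBy Ω x) ⟨h2, h4⟩ ⟨h3, h5⟩ h1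
  have := h.2.2
  omega

theorem St.uz (h : St a b v w c m i) {z : G}
    (hz : ∀ x, ZZ Ω v x → x • a = b → x = z ∨ x = z * v) : UZ Ω v := by
  intro e he x y hx hy h1 h2
  have h3 := h.C2.one_count (X := {x | ZZ Ω v x}) (fun g hg x hx => by
    have := ZZ.conj hx g
    rwa [conj_of_commute (mem_Cen.1 hg)] at this) (fun x hx p hp => fix_comm hx.1 hp)
    (fun x hx => hx.2.2) h.va h.vb h.ne he
  have h4 : {x | x ∈ {x | ZZ Ω v x} ∧ x • a = b}.ncard ≤ 2 :=
    (Set.ncard_le_ncard (t := {z, z * v}) fun x hx => hz x hx.1 hx.2).trans (ncard_pair_le _ _)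
  have h5 : ({x, x * v} : Set G) = {x | x ∈ {x | ZZ Ω v x} ∧ x • e = e} := by
    refine Set.eq_of_subset_of_ncard_le ?_ (by
      rw [Set.ncard_pair (by simpa using h.pair.ne_one_left), h3]; exact h4)
    rintro _ (rfl | rfl)
    · exact ⟨hx, h1⟩
    refine ⟨⟨hx.1.mul_right (.refl v), ?_, ?_⟩, fix_mul h1 he⟩
    · rw [show x * v * (x * v) = x * (v * x) * v by group, hx.1.eq,
        show x * (x * v) * v = x * x * (v * v) by group, h.pair.sq_left, mul_one]
      exact hx.2.1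
    · rw [← hx.2.2]
      congr 1
      ext p
      refine and_congr_right fun hp => ?_
      rw [mem_fixedBy, mem_fixedBy, mul_smul, show v • p = p from hp]
  exact h5.ge (show y ∈ _ from ⟨hy, h2⟩)

theorem St.De_le (h : St a b v w c m i) (he : Even i) {e : Ω} (h1 : v • e = e) (h2 : w • e = e) :
    DD v w ⊓ stabilizer G e ≤ Cen w :=
  le_Cen_of_odd (P := four v w) (y := v * w) (fun g hg => ((mem_DD h.pair).1 hg.1).2)
    (le_inf (le_inf h.four_le_DD fun _ hg => four_fix h1 h2 hg)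
      (four_le_Cen h.pair.comm.symm (Commute.refl w))) (r := i - 1)
    (Nat.Even.sub_odd (by have := h.two_le_i; omega) he odd_one)
    (by rw [h.card_De h1 h2, K1.card_four h.pair])

/-- The case where the setwise stabilizer of `{a, b}` is a symmetric group. -/
structure SC (a b : Ω) (v w t : G) (β : ℕ) : Prop where
  tt : orderOf t = 2
  ta : t • a = b
  tv : Commute v t
  tw : t * w * t⁻¹ = v * w
  cls : ∀ u : G, orderOf u = 2 → u • a = b → IsConj t u
  num : {u : G | orderOf u = 2 ∧ u • a = b}.ncard = β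

variable {t : G} {β : ℕ}

namespace SC

omit [Finite G] [Finite Ω]

theorem sq (s : SC a b v w t β) : t * t = 1 := Inv.mul_self_of_two s.tt

theorem tb (s : SC a b v w t β) : t • b = a := by rw [← s.ta, ← mul_smul, s.sq, one_smul]

theorem one (s : SC a b v w t β) (h : St a b v w c m i) {u : G} (hu : orderOf u = 2) :
    IsConj v u := by
  have key : ∀ u : G, orderOf u = 2 → IsConj t u := fun u hu => by
    obtain ⟨g, hg⟩ := h.exists_swap (Inv.ne_one_of_two hu)
    exact (s.cls _ (by simpa using (GT.orderOf_conj u g⁻¹).trans hu) hg).trans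
      (isConj_iff.2 ⟨g, by group⟩)
  exact (key v h.pair.ha).symm.trans (key u hu)

theorem tw_sq (s : SC a b v w t β) (h : St a b v w c m i) : t * w * (t * w) = v := by
  have := s.tw
  rw [inv_eq_of_mul_eq_one_right s.sq] at this
  rw [← mul_assoc, this, mul_assoc, h.pair.sq_right, mul_one]

theorem twv_sq (s : SC a b v w t β) (h : St a b v w c m i) : t * (v * w) * (t * (v * w)) = v := by
  have h1 : Commute v (t * w) := s.tv.mul_right h.pair.comm
  rw [← mul_assoc t v w, ← s.tv.eq, mul_assoc v t w, ← pow_two, h1.mul_pow, pow_two, pow_two,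
    h.pair.sq_left, one_mul, s.tw_sq h]

theorem not_cen (s : SC a b v w t β) (h : St a b v w c m i) : t ∉ Cen w := fun e =>
  h.pair.mul'.ne ((conj_of_commute (mem_Cen.1 e)).symm.trans s.tw)

end SC

namespace SC

theorem beta (s : SC a b v w t β) (h : St a b v w c m i) :
    Nat.card Ω * c = m * c + m * (m - 1) * β := by
  rw [h.beta, ← s.num]
  congr 3
  ext u
  refine and_congr_left fun _ => ⟨fun hu => ?_, s.one h⟩
  obtain ⟨g, rfl⟩ := isConj_iff.1 hu
  rw [GT.orderOf_conj, h.pair.ha]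

theorem sig (s : SC a b v w t β) (h : St a b v w c m i) : m = i ∨ (m = i * i ∧ Vt Ω v t) := by
  have h1 := h.sigma
  have h2 : ∀ x, Vt Ω v x → x • a = b → x = t ∨ x = t * v := fun x hx hxa => by
    rcases h.mem_four_of_map s.tv hx.1.comm (hxa.trans s.ta.symm) (by
      rw [s.tb, ← hxa, ← mul_smul, hx.1.sq_right, one_smul]) with e | e | rfl | rfl
    exacts [Or.inl e, Or.inr e, absurd ((s.tw_sq h).symm.trans hx.1.sq_right) h.pair.ne_one_left,
      absurd ((s.twv_sq h).symm.trans hx.1.sq_right) h.pair.ne_one_left]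
  by_cases ht : Vt Ω v t
  · have h3 : {x | Vt Ω v x ∧ x • a = b} = {t, t * v} := by
      ext x
      refine ⟨fun hx => h2 x hx.1 hx.2, ?_⟩
      rintro (rfl | rfl)
      exacts [⟨ht, s.ta⟩, ⟨s.tv.eq ▸ ht.mul, by rw [mul_smul, h.va, s.ta]⟩]
    rw [h3, Set.ncard_pair (by simpa using h.pair.ne_one_left)] at h1
    obtain ⟨j, rfl⟩ : ∃ j, i = j + 1 := ⟨i - 1, by have := h.two_le_i; omega⟩
    exact Or.inr ⟨by simp only [Nat.add_sub_cancel] at h1; linarith, ht⟩
  · have h3 : {x | Vt Ω v x ∧ x • a = b} = ∅ := Set.eq_empty_of_forall_notMem fun x hx => by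
      rcases h2 x hx.1 hx.2 with rfl | rfl
      · exact ht hx.1
      · have := hx.1.mul
        rw [← s.tv.eq, ← mul_assoc, h.pair.sq_left, one_mul] at this
        exact ht this
    rw [h3] at h1
    exact Or.inl (by simpa using h1)

omit [Finite Ω] in
theorem mem (s : SC a b v w t β) (h : St a b v w c m i) : t ∈ DD v w :=
  (mem_DD h.pair).2 ⟨s.tv, Or.inr s.tw⟩

theorem even (s : SC a b v w t β) (h : St a b v w c m i) (he : Even i) : i = 2 := by
  by_contra h2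
  obtain ⟨e, he1, he2⟩ : ∃ e ∈ fixedBy Ω v ∩ fixedBy Ω w, e ∉ ({a, b} : Set Ω) := by
    by_contra! h3
    have := Set.ncard_le_ncard (s := fixedBy Ω v ∩ fixedBy Ω w) h3
    have := ncard_pair_le a b
    have := h.two_le_i
    have := h.hi
    omega
  simp only [Set.mem_insert_iff, Set.mem_singleton_iff, not_or] at he2
  obtain ⟨g, hg, h3, h4⟩ := h.D2.tr e he1 a ⟨h.va, h.wa⟩ e he1 b ⟨h.vb, h.wb⟩ he2.1 he2.2
  have h5 := h.De_le he he1.1 he1.2 ⟨hg, h3⟩
  have h6 := h.De_le he h.va h.wa (mem_inf.2 ⟨mul_mem (inv_mem hg) (s.mem h), by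
    rw [mem_stabilizer_iff, mul_smul, s.ta, ← h4, inv_smul_smul]⟩)
  exact s.not_cen h (by simpa using mul_mem h5 h6)

theorem p2 (s : SC a b v w t β) (h : St a b v w c m i) (ho : Odd i) : P2 v w := by
  intro x h1 h2 ⟨k, hk⟩
  by_contra h3
  obtain ⟨j, h4, h5⟩ := exists_pow_sq (E := four v w) (one_mem _) h3 hk
  have hy : x ^ 2 ^ j ∈ Cen w := mem_Cen.2 (h2.pow_right _)
  have hyD : x ^ 2 ^ j ∈ DD v w :=
    (mem_DD h.pair).2 ⟨h1.pow_right _, Or.inl (conj_of_commute (h2.pow_right _))⟩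
  generalize x ^ 2 ^ j = y at h4 h5 hy hyD
  obtain ⟨e, he, hye⟩ := exists_fix (h.D2.inv y hyD)
    (fun p hp => by rw [← mul_smul]; exact four_fix hp.1 hp.2 h5) (h.hi ▸ ho)
  obtain ⟨f, hf, htf⟩ := exists_fix (h.D2.inv t (s.mem h))
    (fun p _ => by rw [← mul_smul, s.sq, one_smul]) (h.hi ▸ ho)
  obtain ⟨d, hd, rfl⟩ := h.D2.t1.tr f hf e he
  have hV : four v w ≤ Cen w := four_le_Cen h.pair.comm.symm (Commute.refl w)
  have h6 : d * t * d⁻¹ ∉ Cen w := fun e => by
    have h7 := (mem_Cen.1 e).conj d⁻¹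
    rw [show d⁻¹ * (d * t * d⁻¹) * d⁻¹⁻¹ = t by group] at h7
    rcases ((mem_DD h.pair).1 (inv_mem hd)).2 with e | e <;> rw [e] at h7
    · exact s.not_cen h (mem_Cen.2 h7)
    · have := s.tv.mul_left h7
      rw [← mul_assoc, h.pair.sq_left, one_mul] at this
      exact s.not_cen h (mem_Cen.2 this)
  have h7 := h.uniq ho he.1 he.2 hyD (mul_mem (mul_mem hd (s.mem h)) (inv_mem hd)) hye
    (conj_fix.2 htf) h5 (by rw [conj_mul, s.sq]; simp) h4 fun e => h6 (hV e)
  exact h6 (by simpa using mul_mem hy (hV h7))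

theorem card_cv (s : SC a b v w t β) (h : St a b v w c m i) :
    Nat.card ↥(Cen v ⊓ Cen w) = i * ((i - 1) * 2) := by
  have h1 := (card_le_two (H := DD v w) fun g hg => ((mem_DD h.pair).1 hg).2).resolve_left
    fun e => s.not_cen h (e (s.mem h))
  have h2 : DD v w ⊓ Cen w = Cen v ⊓ Cen w := le_antisymm (inf_le_inf_right _ (DD_le v w))
    fun g hg => ⟨(mem_DD h.pair).2 ⟨mem_Cen.1 hg.1, Or.inl (conj_of_commute (mem_Cen.1 hg.2))⟩, hg.2⟩
  rw [h2, h.card_D] at h1
  linarith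

theorem mod_four (s : SC a b v w t β) (h : St a b v w c m i) (ho : Odd i) : i % 4 = 3 := by
  have : Fact (Nat.Prime 2) := ⟨Nat.prime_two⟩
  have hle : four v w ≤ Cen v ⊓ Cen w := le_inf (four_le_Cen (Commute.refl v) h.pair.comm)
    (four_le_Cen h.pair.comm.symm (Commute.refl w))
  have h1 : IsSylIn 2 (four v w) (Cen v ⊓ Cen w) :=
    ⟨hle, IsPGroup.of_card (n := 2) (K1.card_four h.pair), fun Q hQ h1 h2 => le_antisymm
      (fun x hx => s.p2 h ho x (mem_Cen.1 (h1 hx).1) (mem_Cen.1 (h1 hx).2)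
        ((hQ ⟨x, hx⟩).imp fun k hk => congrArg Subtype.val hk)) h2⟩
  have h2 := h1.not_dvd_relIndex
  have h3 := card_mul_relIndex hle
  rw [K1.card_four h.pair, s.card_cv h] at h3
  obtain ⟨k, rfl⟩ := ho
  by_contra h4
  obtain ⟨l, rfl⟩ : ∃ l, k = 2 * l := ⟨k / 2, by omega⟩
  refine h2 ⟨(4 * l + 1) * l, ?_⟩
  simp only [Nat.add_sub_cancel] at h3
  linarith

theorem odd_B (s : SC a b v w t β) (h : St a b v w c m i) (ho : Odd i) : m = i := by
  classical
  have : Fact (Nat.Prime 2) := ⟨Nat.prime_two⟩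
  refine (s.sig h).elim id fun ⟨hm, ht⟩ => False.elim ?_
  have hmo : Odd m := hm ▸ ho.mul ho
  have hv := h.pair.ne_one_left
  have huz : UZ Ω v := h.uz (z := t * w) fun x hx hxa => by
    rcases h.mem_four_of_map s.tv hx.1 (hxa.trans s.ta.symm) (by
      rw [s.tb, ← hxa, ← mul_smul]
      rcases hx.2.1 with e | e <;> rw [e]
      exacts [one_smul _ _, h.va]) with rfl | rfl | e | e
    exacts [absurd ht hx.not_vt, absurd (s.tv.eq ▸ ht.mul) hx.not_vt, Or.inl e,
      Or.inr (by rw [e, h.pair.comm.eq, mul_assoc])]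
  obtain ⟨S, hS, hVS⟩ := exists_isSylIn (IsPGroup.of_card (p := 2) (n := 2) (K1.card_four h.pair))
    (four_le_Cen (Commute.refl v) h.pair.comm)
  have hinv : ∀ g ∈ S, ∀ p ∈ fixedBy Ω v, g • p ∈ fixedBy Ω v := fun g hg => h.C2.inv g (hS.le hg)
  obtain ⟨e, he, hSe⟩ := Fx.exists_fixed_of_not_dvd hS.isPGroup (fixedBy Ω v) hinv (by
    rw [Nat.card_coe_set_eq, h.hm]; exact hmo.not_two_dvd_nat)
  obtain ⟨y, hy, hye, hyy⟩ : ∃ y, ZZ Ω v y ∧ y • e = e ∧ y * y = v := by
    have h1 : ZZ Ω v (t * w) := by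
      rcases h.zz_or hmo (s.tv.mul_right h.pair.comm) (Or.inr (s.tw_sq h)) with e | e | e | e
      exacts [e, absurd (by simpa [e] using (s.tw_sq h).symm) hv,
        absurd (by simpa [e, h.pair.sq_left] using (s.tw_sq h).symm) hv,
        absurd ((s.tw_sq h).symm.trans e.1.sq_right) hv]
    obtain ⟨f, hf⟩ := Set.ncard_eq_one.1 h1.2.2
    have hf' : f ∈ fixedBy Ω v ∩ fixedBy Ω (t * w) := hf ▸ rfl
    obtain ⟨g, hg, rfl⟩ := h.C2.t1.tr f hf'.1 e he
    have := h1.conj g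
    rw [conj_of_commute (mem_Cen.1 hg)] at this
    exact ⟨_, this, conj_fix.2 hf'.2, by rw [conj_mul, s.tw_sq h, conj_of_commute (mem_Cen.1 hg)]⟩
  have hnv : ∀ g, Vt Ω v g → ¬ Commute y g := fun g hg hc => by
    have := h.p2_of_vt (s.p2 h ho) hg y hy.1 hc.symm ⟨2, by
      rw [show 2 ^ 2 = 2 * 2 from rfl, pow_mul, pow_two y, hyy, pow_two, h.pair.sq_left]⟩
    rcases hg.1.mem_four.1 this with rfl | rfl | rfl | rfl
    exacts [hv (by simpa using hyy.symm), hv (hyy.symm.trans h.pair.sq_left),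
      hv (hyy.symm.trans hg.1.sq_right), hv (hyy.symm.trans hg.1.mul.sq_right)]
  have h1 : ∀ g ∈ S, ¬ Commute y g → Vt Ω v g := fun g hg hc => by
    have hgv := mem_Cen.1 (hS.le hg)
    obtain ⟨k, hk⟩ := hS.isPGroup ⟨g, hg⟩
    replace hk : g ^ 2 ^ k = 1 := congrArg Subtype.val hk
    obtain ⟨j, h1, h2⟩ := exists_pow_sq (E := zpowers v) (one_mem _) (fun e => by
      rcases (mem_zp h.pair.sq_left).1 e with rfl | rfl
      exacts [hc (Commute.one_right y), hc hy.1.symm]) hk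
    rw [SetLike.mem_coe, mem_zp h.pair.sq_left] at h1 h2
    have h3 : Commute (g ^ 2 ^ j) g := (Commute.refl g).pow_left _
    rcases h.zz_or hmo (hgv.pow_right (2 ^ j)) h2 with e | e | e | e
    · rcases huz _ he y _ hy e hye (hSe _ (pow_mem hg _)) with e | e <;> rw [e] at h3
      · exact absurd h3 hc
      · have := h3.mul_left hgv
        rw [mul_assoc, h.pair.sq_left, mul_one] at this
        exact absurd this hc
    exacts [absurd (Or.inl e) h1, absurd (Or.inr e) h1, by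
      rcases e.1.mem_four.1 (h.p2_of_vt (s.p2 h ho) e g hgv h3 ⟨k, hk⟩) with e' | e' | e' | e'
      exacts [absurd (e' ▸ Commute.one_right y) hc, absurd (e' ▸ hy.1.symm) hc, e' ▸ e, e' ▸ e.mul]]
  have h2 : ∀ g ∈ S, Commute y g → g ≠ 1 → g ≠ v → (fixedBy Ω v ∩ fixedBy Ω g).ncard = 1 :=
    fun g hg hc g1 gv => ncard_eq_one_of he (hSe g hg) fun p hp q hq h1 h2 => by_contra fun hpq => by
      rcases h.cases_of_fix (mem_Cen.1 (hS.le hg)) hpq hp hq h1 h2 with e | e | e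
      exacts [g1 e, gv e, hnv g e hc]
  have h3 := (card_le_two (H := S) (x := y) (y := y * v) fun g hg => by
    have := hy.conj g
    rw [conj_of_commute (mem_Cen.1 (hS.le hg))] at this
    exact huz e he y _ hy this hye (fix_mul (fix_mul (hSe g hg) hye) (fix_inv (hSe g hg)))
    ).resolve_left fun e => hnv w h.vt (mem_Cen.1 (e (hVS (right_mem_four v w))))
  have h4 := card_dvd_sum hinv
  set T := (S : Set G).toFinite.toFinset
  have hT : T.card = Nat.card S := by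
    rw [← Set.ncard_eq_toFinset_card, ← Nat.card_coe_set_eq]; rfl
  have hA : (T.filter (Commute y ·)).card = Nat.card ↥(S ⊓ Cen y) := by
    rw [← Set.ncard_coe_finset, ← Nat.card_coe_set_eq]
    refine Nat.card_congr (Equiv.subtypeEquivRight fun x => ?_)
    simp [T, mem_Cen]
  have hB := Finset.card_filter_add_card_filter_not (s := T) (Commute y ·)
  have hsub : ({1, v} : Finset G) ⊆ T.filter (Commute y ·) := by
    intro x hx
    simp only [Finset.mem_insert, Finset.mem_singleton] at hx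
    rcases hx with rfl | rfl
    · simp [T]
    · simpa [T] using ⟨hVS (left_mem_four _ w), hy.1.symm⟩
  have hc2 := Finset.card_sdiff_add_card_eq_card hsub
  rw [Finset.card_pair hv.symm] at hc2
  rw [← Finset.sum_filter_add_sum_filter_not T (Commute y ·), ← Finset.sum_sdiff hsub,
    Finset.sum_pair hv.symm, Finset.sum_congr rfl (g := fun _ => 1) fun g hg => by
      simp only [Finset.mem_sdiff, Finset.mem_filter, T, Set.Finite.mem_toFinset,
        Finset.mem_insert, Finset.mem_singleton, not_or] at hg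
      exact h2 g hg.1.1 hg.1.2 hg.2.1 hg.2.2,
    Finset.sum_congr (s₁ := T.filter _) rfl (g := fun _ => i) fun g hg => by
      simp only [Finset.mem_filter, T, Set.Finite.mem_toFinset] at hg
      obtain ⟨p, q, h5⟩ := h.of_vt (h1 g hg.1 hg.2)
      exact h5.hi] at h4
  simp only [fixedBy_one_eq_univ, Set.inter_univ, Set.inter_self, h.hm, Finset.sum_const,
    smul_eq_mul, mul_one] at h4
  have h5 := hS.not_dvd_relIndex
  have h6 := card_mul_relIndex hS.le
  rw [h.card_C] at h6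
  rw [hA, hT, h3] at hB
  rw [hA] at hc2
  rw [h3] at h4 h6
  set M := Nat.card ↥(S ⊓ Cen y)
  have hM : 0 < M := Nat.card_pos
  obtain ⟨k, hk⟩ := h4
  obtain ⟨l, rfl⟩ := ho
  obtain ⟨n, rfl⟩ : ∃ n, m = n + 1 := ⟨m - 1, by have := h.two_le_i; have := h.i_le_m; omega⟩
  simp only [Nat.add_sub_cancel] at h6
  have hB' : (T.filter fun g => ¬ Commute y g).card = M := by omega
  rw [hB'] at hk
  have h7 : n + M * (l + 1) = M * k := by zify at hk hc2 ⊢; linarith
  have h8 : M ∣ n := (Nat.dvd_add_left (dvd_mul_right M (l + 1))).1 (h7 ▸ dvd_mul_right M k)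
  obtain ⟨r, rfl⟩ := h8
  exact h5 ⟨(M * r + 1) * r, Nat.eq_of_mul_eq_mul_left (show 0 < 2 * M by omega) (by linarith)⟩

theorem odd_A (s : SC a b v w t β) (h : St a b v w c m i) (ho : Odd i)
    (hβ : (c = 3 ∧ β = 6) ∨ (c = 15 ∧ β = 10)) :
    IsA7 G ∧ (c = 3 → Nat.card Ω = 15) ∧ (c = 15 → Nat.card Ω = 7) := by
  obtain rfl := s.odd_B h ho
  have h1 := s.mod_four h ho
  have h2 := s.beta h
  have h3 := h.card_G
  have h4 := h.m_lt_n
  obtain ⟨k, rfl⟩ : ∃ k, m = 4 * k + 3 := ⟨m / 4, by omega⟩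
  obtain ⟨n, hn⟩ : ∃ n, Nat.card Ω = n + 1 := ⟨Nat.card Ω - 1, by omega⟩
  rw [hn] at h2 h3 ⊢
  simp only [Nat.add_sub_cancel, show 4 * k + 3 - 1 = 4 * k + 2 by omega] at h2 h3
  have h5 : n * c = 2 * ((2 * k + 1) * (c + (4 * k + 3) * β)) := by linarith
  have hv := h.pair.ne_one_left
  have hD : DihSyl G := by
    refine dihSyl_of_card (c := t * w) s.sq (by
      rw [← mul_assoc, s.sq, one_mul, mul_inv_rev, inv_eq_of_mul_eq_one_right h.pair.sq_right])
      (fun e => ?_) (k := 2) (r := (n + 1) * ((2 * k + 1) * (c + (4 * k + 3) * β))) (by norm_num)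
      (orderOf_eq_prime_pow (p := 2) (n := 1) (by rw [pow_one, pow_two, s.tw_sq h]; exact hv) (by
        rw [show 2 ^ (1 + 1) = 2 * 2 from rfl, pow_mul, pow_two (t * w), s.tw_sq h, pow_two,
          h.pair.sq_left])) ?_ (by rw [h3]; linear_combination (4 * (n + 1)) * h5)
    · obtain ⟨j, hj⟩ := e
      have : Commute (t * w) t := by
        nth_rw 2 [← hj]; exact Commute.zpow_right (Commute.refl _) j
      have h6 := (Commute.refl t).mul_left this
      rw [← mul_assoc, s.sq, one_mul] at h6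
      exact s.not_cen h (mem_Cen.2 h6)
    · have := h.parity_n
      rcases hβ with ⟨rfl, rfl⟩ | ⟨rfl, rfl⟩ <;>
        exact Odd.mul (Nat.odd_iff.2 (by omega)) (Odd.mul (Nat.odd_iff.2 (by omega))
          (Nat.odd_iff.2 (by omega)))
  obtain ⟨σ, ρ, I, -, e1, e2, e3⟩ := DihOrd.formula hD (fun x _ y _ hx hy => by
    obtain ⟨g, hg⟩ := isConj_iff.1 ((s.one h hx).symm.trans (s.one h hy))
    exact ⟨g, mem_top _, hg⟩) h.pair
  rw [s.card_cv h] at e2
  rw [h.card_C, show 4 * k + 3 - 1 = 4 * k + 2 by omega] at e1 e2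
  have e4 : σ * ρ = 2 := Nat.eq_of_mul_eq_mul_right
    (show 0 < (4 * k + 3) * ((4 * k + 2) * 2) by positivity) (by linarith)
  have e5 : c * (I * ρ ^ 2) = (c + (4 * k + 2) * β) * (c + (4 * k + 3) * β) := by
    refine Nat.eq_of_mul_eq_mul_right (show 0 < (4 * k + 3) * ((4 * k + 2) * 4) by positivity) ?_
    rw [mul_assoc, ← e1, h3]
    zify at h2 h5 ⊢
    linear_combination (4 * n * c) * h2 +
      (4 * ((4 * k + 3) * c + (4 * k + 3) * (4 * k + 2) * β)) * h5
  have e6 : (σ = 1 ∧ ρ = 2) ∨ (σ = 2 ∧ ρ = 1) := by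
    have : σ ≤ 2 := Nat.le_of_dvd two_pos ⟨ρ, e4.symm⟩
    interval_cases σ <;> omega
  have e7 : I * ρ ^ 2 = 105 ∧ IsA7 (G ⧸ oddCore G) ∧ k = 0 := by
    rcases e3 with (⟨-, e3⟩ | ⟨r, e3, e3'⟩) | ⟨rfl, e3⟩
    · rcases hβ with ⟨rfl, rfl⟩ | ⟨rfl, rfl⟩ <;> rcases e6 with ⟨rfl, rfl⟩ | ⟨rfl, rfl⟩ <;>
        subst e3 <;> nlinarith
    · rcases hβ with ⟨rfl, rfl⟩ | ⟨rfl, rfl⟩ <;> rcases e6 with ⟨rfl, rfl⟩ | ⟨rfl, rfl⟩ <;>
        obtain rfl := Nat.succ.inj e3 <;> subst e3' <;> nlinarith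
    · rcases hβ with ⟨rfl, rfl⟩ | ⟨rfl, rfl⟩ <;> rcases e6 with ⟨rfl, rfl⟩ | ⟨rfl, rfl⟩ <;>
        rcases k with _ | k <;> first | omega | nlinarith | exact ⟨rfl, e3, rfl⟩
  obtain ⟨e7, e8, rfl⟩ := e7
  have e9 : oddCore G = ⊥ := by
    have := (oddCore G).card_mul_index
    rw [index_eq_card, e8.card, e1, e7] at this
    exact card_eq_one.1 (by omega)
  refine ⟨e8.of_equiv ((QuotientGroup.quotientMulEquivOfEq e9).trans QuotientGroup.quotientBot),
    ?_, ?_⟩ <;> rintro rfl <;> rcases hβ with ⟨e, rfl⟩ | ⟨e, rfl⟩ <;> omega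

end SC

end Cfsg.Agent.Perm.KA
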