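import Mathlib
import Cfsg.Agent.Perm.KAS

/-!
# Two-point stabilizer `A₄` or `A₅`: the setwise stabilizer is a direct product, even degree
-/

set_option autoImplicit false

namespace Cfsg.Agent.Perm.KA

open Subgroup MulAction Cfsg.Agent.GW TwoCount Cfsg.Agent.Inv.Fz

set_option synthInstance.maxSize 2000 in
theorem brute : ∀ i < 200, ∀ ρ < 32, ∀ cb ∈ [(3, 1), (3, 3), (3, 4), (15, 1), (15, 15), (15, 16)],
    ∀ γ ∈ [1, 2], 2 ≤ i → i % 2 = 0 → i % 3 ≠ 0 → (1 + γ * i) % ρ = 0 →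
    cb.1 + cb.2 * (i + γ * (i * (i - 1))) ≠ 8 * (1 + γ * i) ^ 2 + 6 * ρ * (1 + γ * i) + ρ ^ 2 ∧
    cb.1 + cb.2 * (i + γ * (i * (i - 1))) + 6 * ρ * (1 + γ * i) ≠ 8 * (1 + γ * i) ^ 2 + ρ ^ 2 := by
  decide +kernel

theorem arith {c β γ i ρ : ℕ}
    (hc : (c, β) ∈ [(3, 1), (3, 3), (3, 4), (15, 1), (15, 15), (15, 16)]) (hγ : γ ∈ [1, 2])
    (hρ : ρ ∣ 1 + γ * i) (h2 : 2 ≤ i) (he : i % 2 = 0) (h3 : i % 3 ≠ 0)
    (E : c + β * (i + γ * (i * (i - 1))) = 8 * (1 + γ * i) ^ 2 + 6 * ρ * (1 + γ * i) + ρ ^ 2 ∨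
      c + β * (i + γ * (i * (i - 1))) + 6 * ρ * (1 + γ * i) = 8 * (1 + γ * i) ^ 2 + ρ ^ 2) :
    False := by
  have h1 : ρ ∣ c + β * (i + γ * (i * (i - 1))) := by
    have a : ρ ∣ 8 * (1 + γ * i) ^ 2 := Dvd.dvd.mul_left (hρ.pow two_ne_zero) _
    have b : ρ ∣ 6 * ρ * (1 + γ * i) := hρ.mul_left _
    have d : ρ ∣ ρ ^ 2 := dvd_pow_self _ two_ne_zero
    rcases E with E | E
    · rw [E]; exact (a.add b).add d
    · exact (Nat.dvd_add_left b).1 (E ▸ a.add d)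
  have ho : ρ % 2 = 1 := by
    have : (1 + γ * i) % 2 = 1 := by rw [Nat.add_mod, Nat.mul_mod, he]; simp
    exact Nat.odd_iff.1 ((Nat.odd_iff.2 this).of_dvd_nat hρ)
  obtain ⟨j, rfl⟩ : ∃ j, i = j + 2 := ⟨i - 2, by omega⟩
  rw [show j + 2 - 1 = j + 1 by omega] at h1
  have h4 : ρ ∣ c + β := by
    simp only [List.mem_cons, List.not_mem_nil, or_false] at hγ
    rcases hγ with rfl | rfl
    · rw [show c + β * (j + 2 + 1 * ((j + 2) * (j + 1))) = (1 + 1 * (j + 2)) * (β * (j + 1)) + (c + β)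
        by ring] at h1
      exact (Nat.dvd_add_right (hρ.mul_right _)).1 h1
    · rw [show c + β * (j + 2 + 2 * ((j + 2) * (j + 1))) = (1 + 2 * (j + 2)) * (β * (j + 1)) + (c + β)
        by ring] at h1
      exact (Nat.dvd_add_right (hρ.mul_right _)).1 h1
  have h5 : ρ < 32 := by
    have := Nat.le_of_dvd (by simp at hc; omega) h4
    simp at hc; omega
  have h6 : j + 2 < 200 := by
    by_contra h6
    rw [show j + 2 - 1 = j + 1 by omega] at E
    have h7 : ρ ≤ 3 ∨ 5 ≤ ρ := by omega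
    simp only [List.mem_cons, List.not_mem_nil, or_false, Prod.mk.injEq] at hc hγ
    rcases hc with ⟨rfl, rfl⟩ | ⟨rfl, rfl⟩ | ⟨rfl, rfl⟩ | ⟨rfl, rfl⟩ | ⟨rfl, rfl⟩ | ⟨rfl, rfl⟩ <;>
      rcases hγ with rfl | rfl <;> rcases E with E | E <;>
      first | nlinarith | (rcases h7 with h7 | h7 <;> nlinarith)
  have := brute _ h6 ρ h5 _ hc γ hγ h2 he h3 (Nat.mod_eq_zero_of_dvd hρ)
  exact E.elim this.1 this.2

variable {G Ω : Type*} [Group G] [MulAction G Ω]

/-- The involution `t` maps `a` to `b` and centralizes the stabilizer of `a, b`. -/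
structure PC (a b : Ω) (t : G) : Prop where
  tt : orderOf t = 2
  ta : t • a = b
  cent : ∀ k : G, k • a = a → k • b = b → Commute t k

variable {a b : Ω} {v w t : G} {c m i : ℕ}

namespace PC

theorem sq (s : PC a b t) : t * t = 1 := Inv.mul_self_of_two s.tt

theorem tb (s : PC a b t) : t • b = a := by rw [← s.ta, ← mul_smul, s.sq, one_smul]

theorem tv (s : PC a b t) (h : St a b v w c m i) : Commute v t := (s.cent v h.va h.vb).symm

theorem tw (s : PC a b t) (h : St a b v w c m i) : Commute w t := (s.cent w h.wa h.wb).symm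

theorem mul_a (s : PC a b t) {k : G} (h1 : k • a = a) : (t * k) • a = b := by
  rw [mul_smul, h1, s.ta]

theorem order (s : PC a b t) (hab : a ≠ b) {k : G} (h1 : k • a = a) (h2 : k • b = b)
    (h3 : k * k = 1) : orderOf (t * k) = 2 :=
  Inv.orderOf_two_of (by
    rw [← pow_two, (s.cent k h1 h2).mul_pow, pow_two, pow_two, s.sq, h3, one_mul]) fun e =>
    hab (by rw [← s.mul_a h1, e, one_smul])

theorem form (s : PC a b t) {u : G} (hu : orderOf u = 2) (ha : u • a = b) :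
    u = t ∨ ∃ k : G, (orderOf k = 2 ∧ k • a = a ∧ k • b = b) ∧ t * k = u := by
  have h0 := Inv.mul_self_of_two hu
  have h1 : (t * u) • a = a := by rw [mul_smul, ha, s.tb]
  have h2 : (t * u) • b = b := by
    rw [mul_smul, show u • b = a by rw [← ha, ← mul_smul, h0, one_smul], s.ta]
  have h3 : Commute t u := by
    have := (Commute.refl t).mul_right (s.cent _ h1 h2)
    rwa [← mul_assoc, s.sq, one_mul] at this
  by_cases e : t * u = 1
  · exact Or.inl (by rw [← mul_one t, ← e, ← mul_assoc, s.sq, one_mul])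
  · exact Or.inr ⟨t * u, ⟨Inv.orderOf_two_of (by
      rw [← pow_two, h3.mul_pow, pow_two, pow_two, s.sq, h0, one_mul]) e, h1, h2⟩, by
      rw [← mul_assoc, s.sq, one_mul]⟩

theorem conj_tv (s : PC a b t) (h : St a b v w c m i) {k : G}
    (hk : orderOf k = 2 ∧ k • a = a ∧ k • b = b) : IsConj (t * v) (t * k) := by
  obtain ⟨g, g1, g2, rfl⟩ := h.conj k hk.2.1 hk.2.2 hk.1
  exact isConj_iff.2 ⟨g, by rw [← conj_mul, conj_of_commute (s.cent g g1 g2)]⟩

theorem not_mem (s : PC a b t) (h : St a b v w c m i) {k : G} (hk : k • a = a) :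
    t * k ∉ four v w := fun e => h.ne ((four_fix h.va h.wa e).symm.trans (s.mul_a hk))

theorem ncard_tk (h : St a b v w c m i) :
    ((fun k => t * k) '' {k : G | orderOf k = 2 ∧ k • a = a ∧ k • b = b}).ncard = c := by
  rw [Set.ncard_image_of_injective _ (mul_right_injective t), h.card_inv]

variable [Finite G] [Finite Ω]

theorem beta (s : PC a b t) (h : St a b v w c m i) : ∃ β, Nat.card Ω * c = m * c + m * (m - 1) * β ∧
    ((IsConj v t ∧ ¬ IsConj v (t * v) ∧ β = 1) ∨ (¬ IsConj v t ∧ IsConj v (t * v) ∧ β = c) ∨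
      (IsConj v t ∧ IsConj v (t * v) ∧ β = c + 1)) := by
  refine ⟨_, h.beta, ?_⟩
  have key : ∀ u, (IsConj v u ∧ u • a = b) ↔ (IsConj v t ∧ u = t) ∨ (IsConj v (t * v) ∧
      u ∈ (fun k => t * k) '' {k : G | orderOf k = 2 ∧ k • a = a ∧ k • b = b}) := fun u => by
    refine ⟨fun hu => ?_, ?_⟩
    · rcases s.form (u := u) (by
        obtain ⟨g, rfl⟩ := isConj_iff.1 hu.1
        rw [GT.orderOf_conj, h.pair.ha]) hu.2 with rfl | ⟨k, hk, rfl⟩
      exacts [Or.inl ⟨hu.1, rfl⟩, Or.inr ⟨hu.1.trans (s.conj_tv h hk).symm, k, hk, rfl⟩]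
    · rintro (⟨h1, rfl⟩ | ⟨h1, k, hk, rfl⟩)
      exacts [⟨h1, s.ta⟩, ⟨h1.trans (s.conj_tv h hk), s.mul_a hk.2.1⟩]
  simp only [key]
  by_cases h1 : IsConj v t <;> by_cases h2 : IsConj v (t * v) <;>
    simp only [h1, h2, true_and, false_and, or_false, false_or, not_true, not_false_iff]
  · rw [← ncard_tk (t := t) h, ← Set.ncard_insert_of_notMem (a := t) (by
      rintro ⟨k, hk, e⟩
      exact Inv.ne_one_of_two hk.1 (by simpa using e))]
    rfl
  · simp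
  · exact ncard_tk h
  · have h3 := h.beta
    simp only [key, h1, h2, false_and, or_false, Set.ofPred_false, Set.ncard_empty] at h3
    have := h.m_lt_n
    have := h.odd.pos
    nlinarith

theorem sig (s : PC a b t) (h : St a b v w c m i) : ∃ γ, m = i + γ * (i * (i - 1)) ∧
    ((¬ Vt Ω v t ∧ ¬ Vt Ω v (t * w) ∧ γ = 0) ∨
      ((∃ k ∈ four v w, ¬ Vt Ω v (t * k) ∧ Vt Ω v (t * k * w)) ∧ γ = 1) ∨
      (Vt Ω v t ∧ Vt Ω v (t * w) ∧ γ = 2)) := by
  have h1 := h.sigma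
  have hv := s.tv h
  have hv1 := h.pair.ne_one_left
  have e1 : ∀ x, Vt Ω v x → Vt Ω v (x * v) := fun x hx => hx.1.comm.eq ▸ hx.mul
  have e2 : ∀ x, Vt Ω v (x * v) → Vt Ω v x := fun x hx => by
    have := e1 _ hx
    rwa [mul_assoc, h.pair.sq_left, mul_one] at this
  have key : ∀ x, (Vt Ω v x ∧ x • a = b) ↔ (Vt Ω v t ∧ x ∈ ({t, t * v} : Set G)) ∨
      (Vt Ω v (t * w) ∧ x ∈ ({t * w, t * w * v} : Set G)) := fun x => by
    refine ⟨fun hx => ?_, ?_⟩
    · rcases h.mem_four_of_map hv hx.1.1.comm (hx.2.trans s.ta.symm) (by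
        rw [s.tb, ← hx.2, ← mul_smul, hx.1.1.sq_right, one_smul]) with rfl | rfl | rfl | rfl
      exacts [Or.inl ⟨hx.1, Or.inl rfl⟩, Or.inl ⟨e2 _ hx.1, Or.inr rfl⟩, Or.inr ⟨hx.1, Or.inl rfl⟩,
        Or.inr ⟨e2 _ (by rw [mul_assoc, ← h.pair.comm.eq]; exact hx.1),
          Or.inr (by rw [h.pair.comm.eq, ← mul_assoc]; rfl)⟩]
    · rintro (⟨h2, rfl | rfl⟩ | ⟨h2, rfl | rfl⟩)
      exacts [⟨h2, s.ta⟩, ⟨e1 _ h2, s.mul_a h.va⟩, ⟨h2, s.mul_a h.wa⟩,
        ⟨e1 _ h2, by rw [mul_assoc]; exact s.mul_a (fix_mul h.wa h.va)⟩]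
  simp only [key] at h1
  have c1 : ({t, t * v} : Set G).ncard = 2 := Set.ncard_pair (by simpa using hv1)
  have c2 : ({t * w, t * w * v} : Set G).ncard = 2 := Set.ncard_pair (by simpa using hv1)
  by_cases h2 : Vt Ω v t <;> by_cases h3 : Vt Ω v (t * w) <;>
    simp only [h2, h3, true_and, false_and, or_false, false_or, Set.ofPred_mem_eq] at h1
  · rw [Set.ofPred_or, Set.ofPred_mem_eq, Set.ofPred_mem_eq, Set.ncard_union_eq (by
      rw [Set.disjoint_left]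
      rintro _ (rfl | rfl) (e | e)
      exacts [h.pair.ne_one_right (by simpa using e),
        h.pair.symm.mul.ne_one_right (by simpa [mul_assoc] using e),
        h.pair.ne (by simpa using e), h.pair.ne_one_right (by simpa [mul_assoc] using e)]),
      c1, c2] at h1
    exact ⟨2, by linarith, Or.inr (Or.inr ⟨h2, h3, rfl⟩)⟩
  · rw [c1] at h1
    exact ⟨1, by linarith, Or.inr (Or.inl ⟨⟨w, right_mem_four v w, h3, by
      rwa [mul_assoc, h.pair.sq_right, mul_one]⟩, rfl⟩)⟩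
  · rw [c2] at h1
    exact ⟨1, by linarith, Or.inr (Or.inl ⟨⟨1, one_mem _, by simpa using h2, by simpa using h3⟩, rfl⟩)⟩
  · exact ⟨0, by simpa using h1, Or.inl ⟨h2, h3, rfl⟩⟩

omit [Finite G] [Finite Ω] in
theorem card_subgroupOf (X H : Subgroup G) : Nat.card (X.subgroupOf H) = Nat.card ↥(X ⊓ H) := by
  rw [← subgroupOf_map_subtype, card_map_of_injective H.subtype_injective]

omit [Finite G] [Finite Ω] in
theorem Cen_mk {H : Subgroup G} (x : H) : Cen x = (Cen (x : G)).subgroupOf H := by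
  ext y
  rw [mem_subgroupOf, mem_Cen, mem_Cen]
  exact ⟨fun h => h.map H.subtype, fun h => Subtype.ext h⟩

theorem even (s : PC a b t) (h : St a b v w c m i) (he : Even i) (hc : c = 3 ∨ c = 15) :
    c = 3 ∧ Nat.card Ω = 16 ∧ m = 4 ∧ i = 4 ∧ ¬ IsConj v t ∧ IsConj v (t * v) := by
  obtain ⟨β, b1, b2⟩ := s.beta h
  obtain ⟨γ, g1, g2⟩ := s.sig h
  have hi := h.two_le_i
  have p1 := h.parity_n
  have p2 := h.parity_m
  have p3 := Nat.even_iff.1 he
  have hn := h.m_lt_n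
  have him := h.i_le_m
  have h3 : i % 3 ≠ 0 := fun e => by
    obtain ⟨p, j, hp, rfl⟩ := h.prime_pow
    have a1 := (Nat.prime_dvd_prime_iff_eq Nat.prime_two hp).1
      (Nat.prime_two.dvd_of_dvd_pow he.two_dvd)
    have a2 := (Nat.prime_dvd_prime_iff_eq Nat.prime_three hp).1
      (Nat.prime_three.dvd_of_dvd_pow (Nat.dvd_of_mod_eq_zero e))
    omega
  let v' : stabilizer G a := ⟨v, h.va⟩
  let w' : stabilizer G a := ⟨w, h.wa⟩
  have hp : Pair v' w' := ⟨(Subgroup.orderOf_coe v').symm.trans h.pair.ha,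
    (Subgroup.orderOf_coe w').symm.trans h.pair.hb,
    fun e => h.pair.ne (congrArg Subtype.val e), Subtype.ext h.pair.comm⟩
  have ho : Odd ((Nat.card Ω - 1) * c) := (Nat.odd_iff.2 (by omega)).mul h.odd
  have hD : DihSyl (stabilizer G a) := dihSyl_of_card (c := v') hp.sq_right (by
      rw [conj_of_commute hp.comm, inv_eq_of_mul_eq_one_right hp.sq_left]) (fun e => by
      rcases (mem_zp hp.sq_left).1 e with e | e
      exacts [hp.ne_one_right e, hp.ne e.symm]) (k := 1) le_rfl hp.ha ho (by rw [h.card_Ga]; ring)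
  have h1 : ∀ x : stabilizer G a, orderOf x = 2 → IsConj v' x := fun x hx => by
    have hx' : orderOf (x : G) = 2 := by simpa using hx
    have h4 := parity (Δ := (Set.univ : Set Ω)) (x := (x : G)) (fun _ _ => trivial)
      fun p _ => by rw [← mul_smul, Inv.mul_self_of_two hx', one_smul]
    rw [Set.ncard_univ, Set.univ_inter] at h4
    obtain ⟨q, hq, hqa⟩ : ∃ q ∈ fixedBy Ω (x : G), q ≠ a := by
      by_contra! h5
      rw [(Set.eq_singleton_iff_unique_mem (s := fixedBy Ω (x : G)) (a := a)).2 ⟨x.2, h5⟩,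
        Set.ncard_singleton] at h4
      omega
    obtain ⟨g, h5, -, h6⟩ := h.exists_conj hx' hqa.symm x.2 hq
    exact isConj_iff.2 ⟨⟨g, h5⟩, Subtype.ext h6⟩
  obtain ⟨σ, ρ, I, hρ, e1, e2, e3⟩ := DihOrd.formula hD (fun x _ y _ hx hy => by
    obtain ⟨g, hg⟩ := isConj_iff.1 ((h1 x hx).symm.trans (h1 y hy))
    exact ⟨g, mem_top _, hg⟩) hp
  have e4 : Cen v ⊓ Cen w ⊓ stabilizer G a = DD v w ⊓ stabilizer G a :=
    le_antisymm (fun g hg => ⟨(mem_DD h.pair).2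
      ⟨mem_Cen.1 hg.1.1, Or.inl (conj_of_commute (mem_Cen.1 hg.1.2))⟩, hg.2⟩)
      fun g hg => ⟨⟨hg.1.1, h.De_le he h.va h.wa hg⟩, hg.2⟩
  have e0 : Cen v' ⊓ Cen w' = (Cen v ⊓ Cen w).subgroupOf (stabilizer G a) := by
    rw [Cen_mk v', Cen_mk w']; rfl
  rw [e0, Cen_mk v', card_subgroupOf, card_subgroupOf, e4, h.card_Ca,
    h.card_De h.va h.wa] at e2
  rw [Cen_mk v', card_subgroupOf, h.card_Ca, h.card_Ga] at e1
  replace e3 := e3.resolve_right fun e => by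
    have h4 := (oddCore (stabilizer G a)).card_mul_index
    rw [index_eq_card, e.2.card, h.card_Ga] at h4
    exact ho.not_two_dvd_nat ⟨Nat.card (oddCore (stabilizer G a)) * 315, by linarith⟩
  obtain ⟨n, hn'⟩ : ∃ n, Nat.card Ω = n + 1 := ⟨Nat.card Ω - 1, by omega⟩
  obtain ⟨j, rfl⟩ : ∃ j, i = j + 1 := ⟨i - 1, by omega⟩
  obtain ⟨l, rfl⟩ : ∃ l, m = l + 1 := ⟨m - 1, by omega⟩
  rw [hn'] at b1 e1 ⊢
  simp only [Nat.add_sub_cancel] at b1 e1 e2 g1
  have e5 : σ * ρ = 1 + γ * (j + 1) :=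
    Nat.eq_of_mul_eq_mul_right (show 0 < j * 4 by omega) (by rw [← e2]; linarith)
  have e6 : c + β * (l + 1) = I * ρ ^ 2 :=
    Nat.eq_of_mul_eq_mul_right (show 0 < l * 4 by omega) (by rw [← e1]; linarith)
  have hcb : (c, β) ∈ [(3, 1), (3, 3), (3, 4), (15, 1), (15, 15), (15, 16)] := by
    rcases hc with rfl | rfl <;> rcases b2 with ⟨-, -, rfl⟩ | ⟨-, -, rfl⟩ | ⟨-, -, rfl⟩ <;> simp
  by_cases h0 : γ = 0
  · subst h0
    obtain ⟨rfl, rfl⟩ : σ = 1 ∧ ρ = 1 := by simpa using e5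
    have e7 : I = 15 ∨ I = 3 := by
      rcases e3 with ⟨-, e⟩ | ⟨r, e, e'⟩
      · exact Or.inl e
      · obtain rfl : r = 0 := by omega
        exact Or.inr e'
    rcases hc with rfl | rfl <;> rcases b2 with ⟨h4, h5, rfl⟩ | ⟨h4, h5, rfl⟩ | ⟨h4, h5, rfl⟩ <;>
      first | omega | skip
    obtain rfl : l = 3 := by omega
    exact ⟨rfl, by omega, rfl, by omega, h4, h5⟩
  · refine (arith hcb (γ := γ) (i := j + 1) (ρ := ρ) (by
      rcases g2 with ⟨-, -, e⟩ | ⟨-, e⟩ | ⟨-, -, e⟩ <;> simp [e] at h0 ⊢) ⟨σ, by rw [← e5]; ring⟩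
      hi p3 h3 ?_).elim
    rw [Nat.add_sub_cancel, ← g1, e6, ← e5]
    rcases e3 with ⟨-, rfl⟩ | ⟨r, rfl, rfl⟩
    exacts [Or.inl (by ring), Or.inr (by ring)]

end PC

end Cfsg.Agent.Perm.KA
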