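import Mathlib
import Cfsg.Agent.GT.MinNormal
import Cfsg.Agent.Inv.FzBasic

/-! Simple factors of a non-abelian minimal normal subgroup, elementwise, and the
product / subdirect dichotomy for maximal subgroups not containing it. -/

namespace Cfsg.Agent.Perm.SL

open Cfsg.Agent.Inv.Fz Cfsg.Agent.GT Subgroup

variable {G : Type*} [Group G]

/-- `T` is a minimal normal subgroup of `N` -/
def Cp (N T : Subgroup G) : Prop := IsMinInv N T ∧ T ≤ N

theorem Cp.le {N T : Subgroup G} (h : Cp N T) : T ≤ N := h.2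
theorem Cp.ne_bot {N T : Subgroup G} (h : Cp N T) : T ≠ ⊥ := h.1.2.1
theorem Cp.norm {N T : Subgroup G} (h : Cp N T) : N ≤ normalizer (T : Set G) := h.1.1
theorem Cp.conj_mem {N T : Subgroup G} (h : Cp N T) {n t : G} (hn : n ∈ N) (ht : t ∈ T) :
    n * t * n⁻¹ ∈ T := (mem_normalizer_iff.1 (h.norm hn) t).1 ht
theorem Cp.min {N T : Subgroup G} (h : Cp N T) {K : Subgroup G}
    (hK : N ≤ normalizer (K : Set G)) (hle : K ≤ T) : K = ⊥ ∨ K = T := h.1.2.2 K hK hle

theorem exists_cp [Finite G] {N : Subgroup G} (h : N ≠ ⊥) : ∃ T, Cp N T :=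
  exists_isMinInv_le le_normalizer h

theorem cj_eq_bot {g : G} {H : Subgroup G} : cj g H = ⊥ ↔ H = ⊥ := by
  rw [← cj_inj (g := g) (H := H) (K := ⊥), cj_bot]

theorem Cp.cj {N T : Subgroup G} [N.Normal] (h : Cp N T) (g : G) : Cp N (cj g T) := by
  refine ⟨⟨?_, fun e => h.ne_bot (cj_eq_bot.1 e), fun K hK hle => ?_⟩, ?_⟩
  · rw [← cj_normalizer, ← cj_eq_of_normal g N, cj_le_cj]; exact h.norm
  · have h1 : N ≤ normalizer (Inv.Fz.cj g⁻¹ K : Set G) := by
      rw [← cj_normalizer, ← cj_eq_of_normal g⁻¹ N, cj_le_cj]; exact hK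
    rcases h.min h1 (by rw [← cj_inv_cj g T, cj_le_cj]; exact hle) with h2 | h2
    · exact Or.inl (cj_eq_bot.1 h2)
    · right; rw [← h2, cj_cj_inv]
  · rw [← cj_eq_of_normal g N, cj_le_cj]; exact h.le

theorem inf_normalizer {N A B : Subgroup G} (hA : N ≤ normalizer (A : Set G))
    (hB : N ≤ normalizer (B : Set G)) : N ≤ normalizer ((A ⊓ B : Subgroup G) : Set G) := by
  intro n hn
  rw [← cj_eq_iff, cj_inf, cj_eq_iff.2 (hA hn), cj_eq_iff.2 (hB hn)]

theorem Cp.eq_or {N T T' : Subgroup G} (h : Cp N T) (h' : Cp N T') :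
    T = T' ∨ (T ⊓ T' = ⊥ ∧ T' ≤ centralizer (T : Set G)) := by
  rcases h.min (inf_normalizer h.norm h'.norm) inf_le_left with h1 | h1
  · refine Or.inr ⟨h1, fun y hy x hx => ?_⟩
    have h2 : x * y * x⁻¹ * y⁻¹ ∈ T ⊓ T' := by
      refine ⟨?_, T'.mul_mem (h'.conj_mem (h.le hx) hy) (T'.inv_mem hy)⟩
      have := T.mul_mem hx (h.conj_mem (h'.le hy) (T.inv_mem hx))
      simpa [mul_assoc] using this
    rw [h1, mem_bot, mul_inv_eq_one, mul_inv_eq_iff_eq_mul] at h2
    exact h2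
  · rcases h'.min h.norm (h1 ▸ inf_le_right) with h2 | h2
    · exact absurd h2 h.ne_bot
    · exact Or.inl h2

theorem Cp.le_centralizer {N T T' : Subgroup G} (h : Cp N T) (h' : Cp N T') (hne : T ≠ T') :
    T' ≤ centralizer (T : Set G) := ((h.eq_or h').resolve_left hne).2

theorem Cp.eq_of_mem {N T T' : Subgroup G} (h : Cp N T) (h' : Cp N T') {x : G} (hx : x ∈ T)
    (hx' : x ∈ T') (h1 : x ≠ 1) : T = T' := by
  rcases h.eq_or h' with h2 | h2
  · exact h2
  · have : x ∈ T ⊓ T' := ⟨hx, hx'⟩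
    rw [h2.1] at this
    exact absurd this h1

theorem Cp.le_of_forall {N T : Subgroup G} (hN : IsMinNormal N) (h : Cp N T) {P : Subgroup G}
    (hP : ∀ g : G, Inv.Fz.cj g T ≤ P) : N ≤ P := by
  have := hN.normal
  have h1 : (⨆ g : G, Inv.Fz.cj g T).Normal := by
    refine ⟨fun x hx a => ?_⟩
    have : Inv.Fz.cj a (⨆ g : G, Inv.Fz.cj g T) ≤ ⨆ g : G, Inv.Fz.cj g T := by
      rw [Inv.Fz.cj, Subgroup.map_iSup]
      refine iSup_le fun g => ?_
      rw [cj_def, cj_cj]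
      exact le_iSup (fun g : G => Inv.Fz.cj g T) _
    exact this (conj_mem_cj.2 hx)
  rcases hN.eq_bot_or_eq (K := ⨆ g : G, Inv.Fz.cj g T) (iSup_le fun g => (h.cj g).le) with h2 | h2
  · have := le_iSup (fun g : G => Inv.Fz.cj g T) 1
    rw [h2, cj_one, le_bot_iff] at this
    exact absurd this h.ne_bot
  · rw [← h2]; exact iSup_le hP

theorem mem_sup_centralizer {T K : Subgroup G} (hK : K ≤ centralizer (T : Set G)) {R : Subgroup G}
    (hR : R ≤ T) {g : G} : g ∈ R ⊔ K ↔ ∃ a ∈ R, ∃ b ∈ K, g = a * b := by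
  refine mem_sup_iff_of_le_normalizer fun r hr => ?_
  rw [← cj_eq_iff]
  apply cj_eq_of_mem_centralizer
  intro k hk
  exact (hK hk r (hR hr)).symm

theorem Cp.decomp {N T : Subgroup G} (hN : IsMinNormal N) (h : Cp N T) {n : G} (hn : n ∈ N) :
    ∃ t ∈ T, ∃ c ∈ N ⊓ centralizer (T : Set G), n = t * c := by
  have := hN.normal
  rw [← mem_sup_centralizer inf_le_right le_rfl]
  refine h.le_of_forall hN (fun g => ?_) hn
  rcases h.eq_or (h.cj g) with h1 | h1
  · rw [← h1]; exact le_sup_left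
  · exact le_sup_of_le_right (le_inf (h.cj g).le h1.2)

theorem Cp.inf_centralizer {N T : Subgroup G} (hN : IsMinNormal N) (hc : ¬ IsMulCommutative N)
    (h : Cp N T) : T ⊓ centralizer (T : Set G) = ⊥ := by
  have := hN.normal
  rcases h.min (inf_normalizer h.norm (h.norm.trans (normalizer_le_normalizer_centralizer T)))
    inf_le_left with h1 | h1
  · exact h1
  exfalso
  have h2 : N ≤ centralizer (T : Set G) := by
    intro n hn
    obtain ⟨t, ht, c, hc, rfl⟩ := h.decomp hN hn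
    have h3 : T ≤ centralizer (T : Set G) := by
      conv_lhs => rw [← h1]
      exact inf_le_right
    exact mul_mem (h3 ht) hc.2
  rcases hN.le_or_inf_eq_bot (centralizer (N : Set G)) with h3 | h3
  · exact hc (le_centralizer_iff_isMulCommutative.1 h3)
  · apply h.ne_bot
    rw [eq_bot_iff, ← h3]
    exact le_inf h.le (le_centralizer_iff.1 h2)

theorem Cp.eq_one {N T : Subgroup G} (hN : IsMinNormal N) (hc : ¬ IsMulCommutative N)
    (h : Cp N T) {x : G} (hx : x ∈ T) (hx' : x ∈ centralizer (T : Set G)) : x = 1 := by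
  have : x ∈ T ⊓ centralizer (T : Set G) := ⟨hx, hx'⟩
  rwa [h.inf_centralizer hN hc] at this

theorem Cp.not_comm {N T : Subgroup G} (hN : IsMinNormal N) (hc : ¬ IsMulCommutative N)
    (h : Cp N T) : ¬ IsMulCommutative T := by
  intro h1
  apply h.ne_bot
  rw [eq_bot_iff]
  intro x hx
  exact h.eq_one hN hc hx (le_centralizer_iff_isMulCommutative.2 h1 hx)

theorem Cp.min' {N T : Subgroup G} (hN : IsMinNormal N) (h : Cp N T) {K : Subgroup G}
    (hK : T ≤ normalizer (K : Set G)) (hle : K ≤ T) : K = ⊥ ∨ K = T := by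
  refine h.min (fun n hn => ?_) hle
  obtain ⟨t, ht, c, hc, rfl⟩ := h.decomp hN hn
  refine mul_mem (hK ht) ?_
  rw [← cj_eq_iff]
  exact cj_eq_of_mem_centralizer fun k hk => hc.2 k (hle hk)

theorem Cp.simple {N T : Subgroup G} (hN : IsMinNormal N) (h : Cp N T) : IsSimpleGroup T := by
  have : Nontrivial T := (nontrivial_iff_ne_bot _).2 h.ne_bot
  refine ⟨fun K hK => ?_⟩
  have h1 : T ≤ normalizer ((K.map T.subtype : Subgroup G) : Set G) := by
    intro t ht
    rw [mem_normalizer_iff]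
    intro x
    constructor
    · rintro ⟨y, hy, rfl⟩
      exact ⟨_, hK.conj_mem y hy ⟨t, ht⟩, rfl⟩
    · rintro ⟨y, hy, hyx⟩
      refine ⟨_, hK.conj_mem y hy ⟨t, ht⟩⁻¹, ?_⟩
      simp only [coe_subtype, coe_mul, coe_inv, inv_inv] at hyx ⊢
      rw [hyx]; group
  rcases h.min' hN h1 (map_subtype_le _) with h2 | h2
  · exact Or.inl ((map_eq_bot_iff_of_injective _ T.subtype_injective).1 h2)
  · right
    rw [eq_top_iff]
    intro x _
    have : (x : G) ∈ K.map T.subtype := h2.symm ▸ x.2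
    obtain ⟨y, hy, hyx⟩ := this
    rwa [← (Subtype.ext hyx : y = x)]

theorem Cp.exists_cj {N T T' : Subgroup G} (hN : IsMinNormal N) (hc : ¬ IsMulCommutative N)
    (h : Cp N T) (h' : Cp N T') : ∃ g : G, Inv.Fz.cj g T = T' := by
  have := hN.normal
  by_contra hne
  push Not at hne
  have h1 : N ≤ centralizer (T' : Set G) :=
    h.le_of_forall hN fun g => h'.le_centralizer (h.cj g) (hne g).symm
  apply h'.ne_bot
  rw [eq_bot_iff]
  exact fun x hx => h'.eq_one hN hc hx (h1 (h'.le hx))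

/-- with `G = H N`, the factors are conjugate under `H` -/
theorem Cp.exists_cj_mem {N T T' H : Subgroup G} (hN : IsMinNormal N) (hc : ¬ IsMulCommutative N)
    (hH : H ⊔ N = ⊤) (h : Cp N T) (h' : Cp N T') : ∃ g ∈ H, Inv.Fz.cj g T = T' := by
  have := hN.normal
  obtain ⟨g, hg⟩ := h.exists_cj hN hc h'
  have : g ∈ H ⊔ N := hH ▸ mem_top g
  obtain ⟨a, ha, b, hb, rfl⟩ := (mem_sup_iff_of_le_normalizer le_normalizer_of_normal).1 this
  exact ⟨a, ha, by rw [← hg, ← cj_cj, cj_eq_iff.2 (h.norm hb)]⟩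

theorem Cp.not_le {N T H : Subgroup G} (hN : IsMinNormal N) (hc : ¬ IsMulCommutative N)
    (hH : H ⊔ N = ⊤) (hH' : H ≠ ⊤) (h : Cp N T) : ¬ T ≤ H := by
  have := hN.normal
  intro hle
  apply hH'
  rw [eq_top_iff, ← hH]
  refine sup_le le_rfl (h.le_of_forall hN fun g => ?_)
  obtain ⟨a, ha, ha'⟩ := h.exists_cj_mem hN hc hH (h.cj g)
  rw [← ha', ← cj_eq_of_mem ha, cj_le_cj]
  exact hle

theorem Cp.eq_of_normal {N T : Subgroup G} (hN : IsMinNormal N) (h : Cp N T) [T.Normal] :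
    T = N := (hN.eq_bot_or_eq h.le).resolve_left h.ne_bot

theorem Cp.exists_ne {N T : Subgroup G} (h : Cp N T) [N.Normal] (hT : ¬ T.Normal) :
    ∃ T', Cp N T' ∧ T ≠ T' := by
  by_contra hne
  push Not at hne
  apply hT
  refine ⟨fun x hx g => ?_⟩
  rw [hne _ (h.cj g)]
  exact conj_mem_cj.2 hx

/-- projection of `N ∩ H` to the factor `T` -/
def proj (N H T : Subgroup G) : Subgroup G where
  carrier := {x | x ∈ T ∧ ∃ c ∈ N ⊓ centralizer (T : Set G), x * c ∈ H}
  mul_mem' := by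
    rintro a b ⟨ha, c, hc, hac⟩ ⟨hb, d, hd, hbd⟩
    refine ⟨T.mul_mem ha hb, c * d, mul_mem hc hd, ?_⟩
    have : a * b * (c * d) = a * c * (b * d) := by
      rw [mul_assoc, ← mul_assoc b, hc.2 b hb]; group
    rw [this]; exact H.mul_mem hac hbd
  one_mem' := ⟨T.one_mem, 1, one_mem _, by simp⟩
  inv_mem' := by
    rintro a ⟨ha, c, hc, hac⟩
    refine ⟨T.inv_mem ha, c⁻¹, inv_mem hc, ?_⟩
    rw [← mul_inv_rev, ← hc.2 a ha]; exact H.inv_mem hac

theorem proj_le (N H T : Subgroup G) : proj N H T ≤ T := fun _ h => h.1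

theorem dichotomy {N H : Subgroup G} (hN : IsMinNormal N) (hc : ¬ IsMulCommutative N)
    (hH : ∀ K, H ≤ K → K = H ∨ K = ⊤) :
    (∀ T, Cp N T → ∀ x ∈ T, ∀ c ∈ N ⊓ centralizer (T : Set G), x * c ∈ H → x ∈ H) ∨
      ∀ T, Cp N T → ∀ x ∈ T, ∃ c ∈ N ⊓ centralizer (T : Set G), x * c ∈ H := by
  have := hN.normal
  let L : Subgroup G := ⨆ T : {T // Cp N T}, proj N H T
  have hL : ∀ h ∈ H, Inv.Fz.cj h L ≤ L := by
    intro h hh
    rw [Inv.Fz.cj, Subgroup.map_iSup]
    refine iSup_le fun T => ?_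
    refine le_trans ?_ (le_iSup (fun T : {T // Cp N T} => proj N H T) ⟨_, T.2.cj h⟩)
    rw [cj_def, cj_le_iff]
    rintro x ⟨hx, c, hc, hxc⟩
    refine ⟨conj_mem_cj.2 hx, h * c * h⁻¹, ⟨this.conj_mem _ hc.1 h, ?_⟩, ?_⟩
    · change _ ∈ centralizer _
      rw [← cj_centralizer]; exact conj_mem_cj.2 hc.2
    · have : h * x * h⁻¹ * (h * c * h⁻¹) = h * (x * c) * h⁻¹ := by group
      rw [this]; exact H.mul_mem (H.mul_mem hh hxc) (H.inv_mem hh)
  have hHL : H ≤ normalizer (L : Set G) := by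
    intro h hh
    rw [← cj_eq_iff]
    refine le_antisymm (hL h hh) ?_
    have := cj_mono (g := h) (hL _ (H.inv_mem hh))
    rwa [cj_cj_inv] at this
  rcases hH (H ⊔ L) le_sup_left with h1 | h1
  · left
    intro T hT x hx c hc hxc
    have h2 : proj N H T ≤ L := le_iSup (fun T : {T // Cp N T} => proj N H T) ⟨T, hT⟩
    exact (h1 ▸ le_sup_right : L ≤ H) (h2 ⟨hx, c, hc, hxc⟩)
  · right
    intro T hT x hx
    have h2 : L ≤ proj N H T ⊔ (N ⊓ centralizer (T : Set G)) := by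
      refine iSup_le fun T' => ?_
      rcases hT.eq_or T'.2 with h3 | h3
      · rw [← h3]; exact le_sup_left
      · exact le_sup_of_le_right ((proj_le _ _ _).trans (le_inf T'.2.le h3.2))
    have h3 : x ∈ H ⊔ L := h1 ▸ mem_top x
    obtain ⟨h, hh, l, hl, hx'⟩ := (mem_sup_iff_of_le_normalizer hHL).1 h3
    obtain ⟨r, hr, c, hc', rfl⟩ := (mem_sup_centralizer inf_le_right (proj_le _ _ _)).1 (h2 hl)
    have h4 : h ∈ N := by
      have : h = x * (r * c)⁻¹ := by rw [hx']; group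
      rw [this]
      exact N.mul_mem (hT.le hx) (N.inv_mem (N.mul_mem (hT.le hr.1) hc'.1))
    obtain ⟨t, ht, d, hd, rfl⟩ := hT.decomp hN h4
    have h5 : t * r ∈ proj N H T := mul_mem ⟨ht, d, hd, hh⟩ hr
    have h6 : (t * r)⁻¹ * x = d * c := by
      rw [hx', mul_assoc t d, ← mul_assoc d, ← hd.2 r hr.1]; group
    have h7 := hT.eq_one hN hc (T.mul_mem (T.inv_mem h5.1) hx) (h6 ▸ mul_mem hd.2 hc'.2)
    rw [inv_mul_eq_one] at h7
    exact (h7 ▸ h5).2

/-- in the subdirect case the factors meet `H` trivially -/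
theorem inf_eq_bot_of_subdirect {N H T : Subgroup G} (hN : IsMinNormal N) (hT : Cp N T)
    (h : ∀ x ∈ T, ∃ c ∈ N ⊓ centralizer (T : Set G), x * c ∈ H) (hle : ¬ T ≤ H) {y : G}
    (hy : y ∈ T) (hyH : y ∈ H) : y = 1 := by
  have key : ∀ x ∈ T, ∀ z ∈ T ⊓ H, x * z * x⁻¹ ∈ T ⊓ H := by
    intro x hx z hz
    obtain ⟨c, hc, hxc⟩ := h x hx
    refine ⟨T.mul_mem (T.mul_mem hx hz.1) (T.inv_mem hx), ?_⟩
    have : x * z * x⁻¹ = x * c * z * (x * c)⁻¹ := by
      rw [mul_assoc x c, ← hc.2 z hz.1]; group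
    change _ ∈ H
    rw [this]
    exact H.mul_mem (H.mul_mem hxc hz.2) (H.inv_mem hxc)
  have h1 : T ≤ normalizer ((T ⊓ H : Subgroup G) : Set G) := by
    intro x hx
    rw [mem_normalizer_iff]
    intro z
    refine ⟨key x hx z, fun hz => ?_⟩
    have := key _ (T.inv_mem hx) _ hz
    simpa [mul_assoc] using this
  rcases hT.min' hN h1 inf_le_left with h2 | h2
  · have : y ∈ T ⊓ H := ⟨hy, hyH⟩
    rwa [h2] at this
  · exact absurd (h2 ▸ inf_le_right) hle

end Cfsg.Agent.Perm.SL
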