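import Mathlib

/-!
# Recognition of the affine group of the plane over the field with four elements
-/

set_option autoImplicit false

namespace Cfsg.Agent.Perm.AGL24

open Subgroup MulAction

instance fact_irr : Fact (∀ r : ZMod 2, r ^ 2 ≠ 1 + 1 * r) := ⟨by decide⟩

/-- The field with four elements. -/
abbrev F4 : Type := QuadraticAlgebra (ZMod 2) 1 1

noncomputable instance fintypeF4 : Fintype F4 :=
  Fintype.ofEquiv _ (QuadraticAlgebra.equivProd (1 : ZMod 2) 1).symm

theorem card_F4 : Fintype.card F4 = 4 := by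
  rw [Fintype.card_congr (QuadraticAlgebra.equivProd (1 : ZMod 2) 1)]; simp

/-- The plane. -/
abbrev V : Type := Fin 2 → F4

theorem exists_coord {A : Type*} [AddCommGroup A] (h2 : ∀ x : A, x + x = 0) (θ : A →+ A)
    (hθ : ∀ x, θ (θ x) = x + θ x) (hc : Nat.card A = 16) :
    ∃ l : A ≃+ V, ∀ x, l (θ x) = (QuadraticAlgebra.omega : F4) • l x := by
  let _ : Module (ZMod 2) A := AddCommGroup.zmodModule fun x => by rw [two_nsmul, h2]
  let φ : F4 →ₐ[ZMod 2] Module.End (ZMod 2) A := QuadraticAlgebra.lift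
    ⟨θ.toZModLinearMap 2, by ext x; simp [hθ]⟩
  let _ : Module F4 A := Module.compHom A φ.toRingHom
  have : Finite A := Nat.finite_of_card_ne_zero (by omega)
  have h1 : Module.finrank F4 A = 2 := by
    have := Module.natCard_eq_pow_finrank (K := F4) (V := A)
    rw [hc, Nat.card_eq_fintype_card, card_F4] at this
    exact (Nat.pow_right_injective (by norm_num : 2 ≤ 4) (this.symm.trans (by norm_num)))
  let l : A ≃ₗ[F4] V := LinearEquiv.ofFinrankEq _ _ (by simp [h1])
  refine ⟨l.toAddEquiv, fun x => ?_⟩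
  have : θ x = (QuadraticAlgebra.omega : F4) • x := by
    change _ = φ QuadraticAlgebra.omega x
    simp [φ, QuadraticAlgebra.lift]
  rw [this]
  exact l.map_smul _ _

theorem exists_linear (L : V ≃+ V)
    (h : ∀ x, L ((QuadraticAlgebra.omega : F4) • x) = (QuadraticAlgebra.omega : F4) • L x) :
    ∃ L' : V ≃ₗ[F4] V, ∀ x, L' x = L x := by
  refine ⟨{ L with map_smul' := fun z x => ?_ }, fun _ => rfl⟩
  have key : ∀ y : V, z • y = z.re • y + z.im • (QuadraticAlgebra.omega : F4) • y := fun y => by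
    rw [← smul_assoc, ← algebraMap_smul F4 z.re y, ← add_smul,
      ← QuadraticAlgebra.mk_eq_add_smul_omega]
  change L (z • x) = z • L x
  rw [key, key, map_add, ZMod.map_smul, ZMod.map_smul, h]

theorem card_le : Nat.card (V ≃ᵃ[F4] V) ≤ 2880 := by
  have h1 : Nat.card (V ≃ₗ[F4] V) = 180 := by
    rw [← Nat.card_congr ((Matrix.GeneralLinearGroup.toLin (n := Fin 2) (R := F4)).trans
      (LinearMap.GeneralLinearGroup.generalLinearEquiv F4 V)).toEquiv, Matrix.card_GL_field, card_F4]
    simp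
  have : Finite (V ≃ₗ[F4] V) := Nat.finite_of_card_ne_zero (by omega)
  have h2 : Nat.card (V × (V ≃ₗ[F4] V)) = 2880 := by
    rw [Nat.card_prod, h1, Nat.card_fun, Nat.card_eq_fintype_card, card_F4]; simp
  rw [← h2]
  refine Nat.card_le_card_of_injective (fun f => (f 0, f.linear)) fun f g h => ?_
  ext1 x
  have e1 := f.map_vadd 0 x
  have e2 := g.map_vadd 0 x
  rw [vadd_eq_add, add_zero] at e1 e2
  rw [e1, e2, (Prod.mk.inj h).1, (Prod.mk.inj h).2]

open scoped IsMulCommutative in
theorem recog {G Ω : Type*} [Group G] [MulAction G Ω] (hf : ∀ g : G, (∀ x : Ω, g • x = x) → g = 1)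
    (hG : Nat.card G = 2880) {N : Subgroup G} [N.Normal] (hN : IsMulCommutative N)
    (h2 : ∀ n ∈ N, n * n = 1) (hc : Nat.card N = 16) {a : Ω} (htr : ∀ x, ∃ n ∈ N, n • a = x)
    (hreg : ∀ n ∈ N, n • a = a → n = 1) {ω : G} (h3 : ω ^ 3 = 1)
    (hω : ∀ n ∈ N, Commute ω n → n = 1) (hcen : ∀ g : G, g • a = a → Commute ω g) :
    Nonempty (G ≃* (V ≃ᵃ[F4] V)) := by
  let c : G →* MulAut N := MulAut.conjNormal
  obtain ⟨l, hl⟩ := exists_coord (A := Additive N) (fun x => Subtype.ext (h2 _ x.toMul.2))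
    (MonoidHom.toAdditive (c ω).toMonoidHom) (fun x => by
      have h4 : c ω (c ω (c ω x.toMul)) = x.toMul := by
        rw [← MulAut.mul_apply, ← MulAut.mul_apply, ← map_mul, ← map_mul, ← pow_three', h3, map_one,
          MulAut.one_apply]
      have h5 : c ω (c ω (c ω x.toMul) * (x.toMul * c ω x.toMul)) =
          c ω (c ω x.toMul) * (x.toMul * c ω x.toMul) := by
        rw [map_mul, map_mul, h4, ← mul_assoc, mul_comm]
      have h6 := hω _ (c ω (c ω x.toMul) * (x.toMul * c ω x.toMul)).2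
        (mul_inv_eq_iff_eq_mul.1 (congrArg Subtype.val h5))
      have h7 : c ω (c ω x.toMul) * (x.toMul * c ω x.toMul) = 1 := Subtype.ext h6
      have h8 : (x.toMul * c ω x.toMul) * (x.toMul * c ω x.toMul) = 1 :=
        Subtype.ext (h2 _ (x.toMul * c ω x.toMul).2)
      exact (mul_right_cancel (h7.trans h8.symm) : c ω (c ω x.toMul) = _)) hc
  let β : V → Ω := fun x => ((l.symm x).toMul : G) • a
  have hβ : Function.Injective β := fun x y h => l.symm.injective (by
    have := hreg _ (mul_mem (inv_mem (l.symm y).toMul.2) (l.symm x).toMul.2) (by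
      rw [mul_smul, inv_smul_eq_iff]; exact h)
    exact Subtype.ext (inv_mul_eq_one.1 this).symm)
  have key : ∀ g : G, ∃ f : V ≃ᵃ[F4] V, ∀ x, β (f x) = g • β x := fun g => by
    obtain ⟨n, hn, hna⟩ := htr (g • a)
    have hg : (n⁻¹ * g) • a = a := by rw [mul_smul, ← hna, inv_smul_smul]
    obtain ⟨k, rfl⟩ : ∃ k, g = n * k := ⟨n⁻¹ * g, by simp⟩
    rw [inv_mul_cancel_left] at hg
    obtain ⟨L, hL⟩ := exists_linear (l.symm.trans ((MulEquiv.toAdditive (c k)).trans l)) fun x => by
      obtain ⟨y, rfl⟩ := l.surjective x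
      rw [← hl]
      simp only [AddEquiv.trans_apply, AddEquiv.symm_apply_apply]
      rw [← hl]
      congr 1
      change c k (c ω y.toMul) = c ω (c k y.toMul)
      rw [← MulAut.mul_apply, ← MulAut.mul_apply, ← map_mul, ← map_mul, (hcen k hg).eq]
    refine ⟨L.toAffineEquiv.trans (AffineEquiv.constVAdd F4 V (l (Additive.ofMul ⟨n, hn⟩))),
      fun x => ?_⟩
    simp only [β, AffineEquiv.trans_apply, LinearEquiv.coe_toAffineEquiv,
      AffineEquiv.constVAdd_apply, vadd_eq_add, map_add, AddEquiv.symm_apply_apply, hL,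
      AddEquiv.trans_apply]
    change (n * (k * _ * k⁻¹)) • a = _
    rw [mul_smul, mul_smul, mul_smul, mul_smul, show k⁻¹ • a = a by rw [inv_smul_eq_iff, hg]]
  choose f hf' using key
  let ψ : G →* (V ≃ᵃ[F4] V) := MonoidHom.mk' f fun g k => by
    ext1 x
    refine hβ ?_
    rw [hf', AffineEquiv.coe_mul, Function.comp_apply, hf', hf', mul_smul]
  have hψ : Function.Injective ψ := (injective_iff_map_eq_one ψ).2 fun g hg => hf g fun x => by
    obtain ⟨n, hn, rfl⟩ := htr x
    have := hf' g (l (Additive.ofMul ⟨n, hn⟩))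
    rw [show f g = 1 from hg] at this
    simpa [β] using this.symm
  have : Finite (V ≃ᵃ[F4] V) := Finite.of_injective _ (DFunLike.coe_injective)
  exact ⟨MulEquiv.ofBijective ψ (hψ.bijective_of_nat_card_le (hG ▸ card_le))⟩

end Cfsg.Agent.Perm.AGL24
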