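import Mathlib
import Cfsg.Agent.Perm.KAP
import Cfsg.Agent.S0215

/-!
# Two-point stabilizer `A₄` or `A₅`: the setwise stabilizer is a direct product, odd degree
-/

set_option autoImplicit false

namespace Cfsg.Agent.Perm.KA

open Subgroup MulAction Cfsg.Agent.GW TwoCount Cfsg.Agent.Inv.Fz

variable {G Ω : Type*} [Group G] [MulAction G Ω] {a b : Ω} {v w t : G} {c m i : ℕ}
variable [Finite G] [Finite Ω]

theorem St.J_count (h : St a b v w c m i) (ho : Odd (Nat.card Ω)) (e : Ω) :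
    {u : G | (orderOf u = 2 ∧ ¬ IsConj v u) ∧ u • e = e}.ncard =
      {u : G | (orderOf u = 2 ∧ ¬ IsConj v u) ∧ u • a = b}.ncard :=
  h.t2.one_count (X := {u : G | orderOf u = 2 ∧ ¬ IsConj v u})
    (fun g _ x hx => ⟨by rw [GT.orderOf_conj, hx.1], fun e =>
      hx.2 (e.trans (isConj_iff.2 ⟨g, rfl⟩).symm)⟩) (fun _ _ _ _ => trivial) (fun x hx => by
      obtain ⟨e, -, he⟩ := exists_fix (Δ := (Set.univ : Set Ω)) (x := x) (fun _ _ => trivial)
        (fun p _ => by rw [← mul_smul, Inv.mul_self_of_two hx.1, one_smul]) (Set.ncard_univ Ω ▸ ho)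
      exact ncard_eq_one_of trivial he fun p _ q _ h1 h2 => by_contra fun e =>
        hx.2 (h.isConj hx.1 e h1 h2)) trivial trivial h.ne trivial

namespace PC

omit [Finite Ω] in
theorem mem (s : PC a b t) (h : St a b v w c m i) : t ∈ DD v w :=
  (mem_DD h.pair).2 ⟨s.tv h, Or.inl (conj_of_commute (s.tw h))⟩

theorem exists_e (s : PC a b t) (h : St a b v w c m i) (ho : Odd i) :
    ∃ e : Ω, v • e = e ∧ w • e = e ∧ t • e = e := by
  obtain ⟨e, he, h1⟩ := exists_fix (h.D2.inv t (s.mem h))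
    (fun p _ => by rw [← mul_smul, s.sq, one_smul]) (h.hi ▸ ho)
  exact ⟨e, he.1, he.2, h1⟩

theorem zstar (s : PC a b t) (h : St a b v w c m i) (ho : Odd (Nat.card Ω)) (h1 : ¬ IsConj v t)
    (h2 : IsConj v (t * v)) :
    ∃ N : Subgroup G, N.Normal ∧ Odd (Nat.card N) ∧ ∀ g : G, t * g * t⁻¹ * g⁻¹ ∈ N := by
  have : Fact (Nat.Prime 2) := ⟨Nat.prime_two⟩
  obtain ⟨P, hP⟩ := (IsPGroup.of_card (G := zpowers t) (p := 2) (n := 1) (by
    rw [Nat.card_zpowers, s.tt, pow_one])).exists_le_sylow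
  refine S0215.result P t s.tt (hP (mem_zpowers t)) fun g hg => ?_
  obtain ⟨e, -, he⟩ := Fx.exists_fixed_of_not_dvd P.2 (Set.univ : Set Ω) (fun _ _ _ _ => trivial)
    (by rw [Nat.card_coe_set_eq, Set.ncard_univ]; exact ho.not_two_dvd_nat)
  have h3 : {u : G | (orderOf u = 2 ∧ ¬ IsConj v u) ∧ u • e = e}.ncard ≤ 1 := by
    rw [h.J_count ho, ← Set.ncard_singleton t]
    refine Set.ncard_le_ncard fun u hu => ?_
    rcases s.form hu.1.1 hu.2 with e | ⟨k, hk, rfl⟩
    exacts [e, absurd (h2.trans (s.conj_tv h hk)) hu.1.2]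
  exact (Set.ncard_le_one (Set.toFinite _)).1 h3 _ ⟨⟨by rw [GT.orderOf_conj, s.tt], fun e =>
    h1 (e.trans (isConj_iff.2 ⟨g, rfl⟩).symm)⟩, he _ hg⟩ _ ⟨⟨s.tt, h1⟩, he _ (hP (mem_zpowers t))⟩

theorem not_one (s : PC a b t) (h : St a b v w c m i) (ho : Odd i) (hc : c ≤ 15)
    (h1 : IsConj v t) : IsConj v (t * v) := by
  by_contra h2
  obtain ⟨p, q, x, ht⟩ := h.of_isConj h1
  obtain ⟨e, ev, ew, et⟩ := s.exists_e h ho
  have key : ∀ k : G, k • a = a → k • b = b → ∀ p q : Ω, t • p = p → t • q = q → k • p = p →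
      k • q = q → p ≠ q → k = 1 := fun k ka kb p q tp tq kp kq hpq => by
    rcases ht.cases_of_fix (s.cent k ka kb) hpq tp tq kp kq with e | rfl | e
    · exact e
    · exact absurd (ka.symm.trans s.ta) h.ne
    · exact absurd ((h.isConj e.1.orderOf_mul hpq (fix_mul tp kp) (fix_mul tq kq)).trans
        (s.conj_tv h ⟨e.1.hb, ka, kb⟩).symm) h2
  set K := stabilizer G a ⊓ stabilizer G b
  have hK : ∀ k ∈ K, k • e = e := by
    obtain ⟨ρ, ρa, ρb, h3, h4⟩ := h.rho
    have h5 : ρ • e = e := by_contra fun h5 => h.pair.ne_one_right (key w h.wa h.wb _ _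
      (fix_comm (s.cent ρ ρa ρb) et) et (by rw [← h3]; exact conj_fix.2 ev) ew h5)
    have h6 : four v w < K ⊓ stabilizer G e := lt_of_le_of_ne (fun k hk =>
      ⟨⟨four_fix h.va h.wa hk, four_fix h.vb h.wb hk⟩, four_fix ev ew hk⟩) fun e' => by
      have : ρ ∈ Cen v := four_le_Cen (Commute.refl v) h.pair.comm (e'.ge ⟨⟨ρa, ρb⟩, h5⟩)
      exact h.pair.ne ((conj_of_commute (mem_Cen.1 this)).symm.trans h3)
    have h7 : 8 ≤ Nat.card ↥(K ⊓ stabilizer G e) := by
      have a1 := card_dvd_of_le h6.le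
      have a2 : Nat.card (four v w) ≠ Nat.card ↥(K ⊓ stabilizer G e) := fun e' =>
        h6.ne (eq_of_le_of_card_ge h6.le e'.ge)
      have a3 : 0 < Nat.card ↥(K ⊓ stabilizer G e) := Nat.card_pos
      rw [K1.card_four h.pair] at a1 a2
      omega
    have h8 := Fx.card_orbit_mul K e
    have h9 := Fx.card_dvd_of_semiregular (K ⊓ stabilizer G e) (orbit K e \ {e})
      (fun g hg y hy => by
        obtain ⟨k, hk, rfl⟩ := Fx.mem_orbit_sub.1 hy.1
        exact ⟨Fx.mem_orbit_sub.2 ⟨g * k, mul_mem hg.1 hk, mul_smul _ _ _⟩, fun e' => hy.2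
          (smul_left_cancel g ((show g • k • e = e from e').trans (show g • e = e from hg.2).symm))⟩)
      fun g hg y hy e' => by
        obtain ⟨k, hk, rfl⟩ := Fx.mem_orbit_sub.1 hy.1
        exact key g hg.1.1 hg.1.2 _ _ (fix_comm (s.cent k hk.1 hk.2) et) et e' hg.2 hy.2
    rw [Nat.card_coe_set_eq, Set.ncard_sdiff_singleton_of_mem (mem_orbit_self e),
      ← Nat.card_coe_set_eq] at h9
    rw [h.card] at h8
    refine Fx.smul_eq_of_card_orbit_eq_one ?_
    have : Nonempty (orbit K e) := ⟨⟨e, mem_orbit_self e⟩⟩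
    have a1 : 0 < Nat.card (orbit K e) := Nat.card_pos
    by_contra a2
    have := Nat.le_of_dvd (by omega) h9
    have := Nat.mul_le_mul (show 9 ≤ Nat.card (orbit K e) by omega) h7
    omega
  have hn : Odd (Nat.card Ω) := by
    rw [Nat.odd_iff, h.parity_n, h.parity_m]; exact Nat.odd_iff.1 ho
  have h3 : (fun k => t * k) '' {k : G | orderOf k = 2 ∧ k • a = a ∧ k • b = b} =
      {u : G | (orderOf u = 2 ∧ ¬ IsConj v u) ∧ u • e = e} := by
    refine Set.eq_of_subset_of_ncard_le ?_ ?_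
    · rintro _ ⟨k, hk, rfl⟩
      exact ⟨⟨s.order h.ne hk.2.1 hk.2.2 (Inv.mul_self_of_two hk.1), fun e =>
        h2 (e.trans (s.conj_tv h hk).symm)⟩, fix_mul et (hK k hk.2)⟩
    · rw [h.J_count hn]
      refine Set.ncard_le_ncard fun u hu => ?_
      rcases s.form hu.1.1 hu.2 with rfl | e
      exacts [absurd h1 hu.1.2, e]
  have h4 : ∀ g : G, g • e = e → ∀ k : G, (orderOf k = 2 ∧ k • a = a ∧ k • b = b) →
      ∃ l : G, (orderOf l = 2 ∧ l • a = a ∧ l • b = b) ∧ t * l = g * (t * k) * g⁻¹ :=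
    fun g hg k hk => by
      have := h3.le ⟨k, hk, rfl⟩
      exact h3.ge ⟨⟨by rw [GT.orderOf_conj, this.1.1], fun e =>
        this.1.2 (e.trans (isConj_iff.2 ⟨g, rfl⟩).symm)⟩,
        fix_mul (fix_mul hg this.2) (fix_inv hg)⟩
  refine h.pair.mul.ne_one_right (h.faith _ fun y => ?_)
  by_cases hy : y = e
  · rw [hy]; exact fix_mul ev ew
  have hae : a ≠ e := fun e' => h.ne (by rw [← s.ta, e', et])
  obtain ⟨g, -, g1, g2⟩ := h.t2.tr e trivial y trivial e trivial a trivial (Ne.symm hy) hae.symm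
  obtain ⟨l, hl, e1⟩ := h4 g g1 v ⟨h.pair.ha, h.va, h.vb⟩
  obtain ⟨l', hl', e2⟩ := h4 g g1 w ⟨h.pair.hb, h.wa, h.wb⟩
  have h5 : t * v * (t * w) = v * w := by
    rw [← (s.tv h).eq, mul_assoc, ← mul_assoc t, s.sq, one_mul]
  have h6 : t * l * (t * l') = l * l' := by
    rw [(s.cent l hl.2.1 hl.2.2).eq, mul_assoc, ← mul_assoc t, s.sq, one_mul]
  rw [e1, e2, conj_mul, h5] at h6
  rw [← conj_fix (g := g), h6, g2]
  exact fix_mul hl.2.1 hl'.2.1

theorem not_zero (s : PC a b t) (h : St a b v w c m i) (ho : Odd i) (h1 : IsConj v t) : m ≠ i := by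
  rintro rfl
  obtain ⟨p, q, x, ht⟩ := h.of_isConj h1
  obtain ⟨e, ev, ew, et⟩ := s.exists_e h ho
  have h2 : fixedBy Ω t ∩ fixedBy Ω x = fixedBy Ω t :=
    Set.eq_of_subset_of_ncard_le Set.inter_subset_left (by rw [ht.hm, ht.hi])
  have h3 : DD t x = Cen t := eq_of_le_of_card_ge (DD_le t x) (by rw [ht.card_C, ht.card_D])
  have key : ∀ u : G, (fixedBy Ω u).ncard = m → u • a = a → u ∉ four t x := fun u hu ua hx => by
    have : fixedBy Ω t = fixedBy Ω u := Set.eq_of_subset_of_ncard_le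
      (fun y hy => four_fix hy (h2.ge hy).2 hx) (by rw [ht.hm, hu])
    exact h.ne ((this.ge ua).symm.trans s.ta)
  have h4 := ht.uniq ho et (h2.ge et).2 (h3.ge (mem_Cen.2 (s.tv h).symm))
    (h3.ge (mem_Cen.2 (s.tw h).symm)) ev ew (by rw [h.pair.sq_left]; exact one_mem _)
    (by rw [h.pair.sq_right]; exact one_mem _) (key v h.hm h.va) (key w h.rot.hm h.wa)
  rw [inv_eq_of_mul_eq_one_right h.pair.sq_left] at h4
  exact key _ h.mul.symm.hm (fix_mul h.va h.wa) h4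

theorem sq_case (s : PC a b t) (h : St a b v w c m i) (hm : m = i + i * (i - 1)) :
    UZ Ω v ∧ ∃ k ∈ four v w, ¬ Vt Ω v (t * k) := by
  obtain ⟨γ, g1, g2⟩ := s.sig h
  have : 0 < i * (i - 1) := by have := h.two_le_i; exact Nat.mul_pos (by omega) (by omega)
  obtain ⟨⟨k, hk, h1, h2⟩, -⟩ :=
    (g2.resolve_left fun e => by rw [e.2.2] at g1; omega).resolve_right
      fun e => by rw [e.2.2] at g1; omega
  refine ⟨h.uz (z := t * k) fun x hx hxa => ?_, k, hk, h1⟩
  have h3 := h2.mul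
  rw [h2.1.comm.eq, mul_assoc, ← h.pair.comm.eq] at h3
  rcases h.mem_four_of_map (t := t * k) ((s.tv h).mul_right (mem_Cen.1 (four_le_Cen (Commute.refl v)
    h.pair.comm hk))) hx.1 (hxa.trans (s.mul_a (four_fix h.va h.wa hk)).symm) (by
      rw [mul_smul, four_fix h.vb h.wb hk, s.tb, ← hxa, ← mul_smul]
      rcases hx.2.1 with e | e <;> rw [e]
      exacts [one_smul _ _, h.va]) with e | e | rfl | rfl
  exacts [Or.inl e, Or.inr e, absurd h2 hx.not_vt, absurd h3 hx.not_vt]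

theorem not_sq (s : PC a b t) (h : St a b v w c m i) (ho : Odd i) (h1 : IsConj v t)
    (h2 : IsConj v (t * v)) : m ≠ i + i * (i - 1) := by
  intro hm
  obtain ⟨huz, k, hk, a1⟩ := s.sq_case h hm
  obtain ⟨-, k', hk', a2⟩ := s.sq_case h.symm hm
  obtain ⟨e, ev, ew, et⟩ := s.exists_e h ho
  have hV := four_le_Cen (Commute.refl v) h.pair.comm
  have hW := four_le_Cen h.pair.comm.symm (Commute.refl w)
  rw [four_comm] at hk'
  obtain ⟨l, hl, b1, b2⟩ : ∃ l ∈ four v w, ¬ Vt Ω v (t * l) ∧ ¬ Vt Ω w (t * l) := by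
    have e1 : ∀ u x : G, u * u = 1 → Vt Ω u (x * u) → Vt Ω u x := fun u x hu hx => by
      have := hx.mul
      rwa [hx.1.comm.eq, mul_assoc, hu, mul_one] at this
    have e2 : ∀ u x : G, Vt Ω u x → Vt Ω u (x * u) := fun u x hx => hx.1.comm.eq ▸ hx.mul
    rcases h.pair.mem_four.1 (mul_mem (inv_mem hk) hk') with e | e | e | e <;>
      rw [inv_mul_eq_iff_eq_mul] at e <;> subst e
    · exact ⟨k, hk, a1, by simpa using a2⟩
    · exact ⟨k * v, hk', fun e => a1 (e1 _ _ h.pair.sq_left (by rwa [mul_assoc])), a2⟩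
    · exact ⟨k, hk, a1, fun e => a2 (by rw [← mul_assoc]; exact e2 _ _ e)⟩
    · exact ⟨k * v, mul_mem hk (left_mem_four v w),
        fun e => a1 (e1 _ _ h.pair.sq_left (by rwa [mul_assoc])),
        fun e => a2 (by rw [← mul_assoc k, ← mul_assoc]; exact e2 _ _ e)⟩
  have la := four_fix h.va h.wa hl
  have hu : IsConj v (t * l) := by
    rcases h.pair.mem_four.1 hl with rfl | rfl | rfl | rfl
    exacts [by simpa using h1, h2, h2.trans (s.conj_tv h ⟨h.pair.hb, h.wa, h.wb⟩),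
      h2.trans (s.conj_tv h ⟨h.pair.orderOf_mul, h.mul.wa, h.mul.wb⟩)]
  obtain ⟨p, q, x, hx⟩ := h.of_isConj hu
  have huz' : UZ Ω (t * l) := by
    obtain ⟨g, hg⟩ := isConj_iff.1 hu
    exact hg ▸ huz.conj g
  have hmo : Odd m := by rw [Nat.odd_iff, h.parity_m]; exact Nat.odd_iff.1 ho
  have key : ∀ z : G, orderOf z = 2 → z • a = a → Commute z (t * l) → ¬ Vt Ω z (t * l) →
      ZZ Ω (t * l) z := fun z hz za hc hv => by
    rcases hx.zz_or hmo hc.symm (Or.inl (Inv.mul_self_of_two hz)) with e | e | e | e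
    exacts [e, absurd e (Inv.ne_one_of_two hz), absurd (za.symm.trans (e ▸ s.mul_a la)) h.ne,
      absurd e.symm hv]
  rcases huz' e (fix_mul et (four_fix ev ew hl)) v w
    (key v h.pair.ha h.va ((s.tv h).mul_right (mem_Cen.1 (hV hl))) b1)
    (key w h.pair.hb h.wa ((s.tw h).mul_right (mem_Cen.1 (hW hl))) b2) ev ew with e | e
  · exact h.pair.ne e.symm
  · have := h.wa
    rw [e, mul_smul, s.mul_a la, h.vb] at this
    exact h.ne this.symm

theorem mod_four (s : PC a b t) (h : St a b v w c m i) (ho : Odd i) (h1 : Vt Ω v t)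
    (h2 : Vt Ω v (t * w)) : i % 4 = 3 := by
  have : Fact (Nat.Prime 2) := ⟨Nat.prime_two⟩
  obtain ⟨e, ev, ew, et⟩ := s.exists_e h ho
  have hV := four_le_Cen (Commute.refl v) h.pair.comm
  have hW := four_le_Cen h.pair.comm.symm (Commute.refl w)
  let E : Set G := (four v w : Set G) ∪ (fun k => t * k) '' four v w
  have hE : E.ncard ≤ 8 := (Set.ncard_union_le _ _).trans (by
    rw [Set.ncard_image_of_injective _ (mul_right_injective t), ← Nat.card_coe_set_eq,
      SetLike.coe_sort_coe, K1.card_four h.pair])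
  obtain ⟨S, hS, -⟩ := exists_isSylIn (p := 2) (H := DD v w ⊓ stabilizer G e) IsPGroup.of_bot bot_le
  have hSE : (S : Set G) ⊆ E := fun x hx => by_contra fun hxE => by
    obtain ⟨k, hk⟩ := hS.isPGroup ⟨x, hx⟩
    obtain ⟨j, h3, h4⟩ := exists_pow_sq (E := E) (Or.inl (one_mem _)) hxE (congrArg Subtype.val hk)
    have h5 := hS.le (pow_mem hx (2 ^ j))
    generalize x ^ 2 ^ j = y at h3 h4 h5
    rcases h4 with h4 | ⟨k, hk, h4⟩
    · exact h3 (Or.inr ⟨t⁻¹ * y, h.uniq ho ev ew (s.mem h) h5.1 et h5.2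
        (by rw [s.sq]; exact one_mem _) h4 (by simpa using s.not_mem h (one_smul G a))
        fun e => h3 (Or.inl e), by simp⟩)
    have h6 : Vt Ω v (t * k) := by
      rcases h.pair.mem_four.1 hk with rfl | rfl | rfl | rfl
      exacts [by simpa using h1, h1.1.comm.eq ▸ h1.mul, h2, by
        have := h2.mul
        rwa [h2.1.comm.eq, mul_assoc, ← h.pair.comm.eq] at this]
    obtain ⟨p, q, h7⟩ := h.of_vt h6
    have h8 : four v (t * k) ≤ closure (insert t (four v w : Set G)) := (closure_le _).2 (by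
      rintro _ (rfl | rfl)
      exacts [subset_closure (Or.inr (left_mem_four _ _)),
        mul_mem (subset_closure (Or.inl rfl)) (subset_closure (Or.inr hk))])
    have h9 : ∀ z ∈ four v (t * k), z ∈ E ∧ w * z ∈ E := fun z hz => by
      have r := right_mem_four v w
      have l := left_mem_four v w
      rcases h6.1.mem_four.1 hz with rfl | rfl | rfl | rfl
      exacts [⟨Or.inl (one_mem _), Or.inl (mul_mem r (one_mem _))⟩, ⟨Or.inl l, Or.inl (mul_mem r l)⟩,
        ⟨Or.inr ⟨k, hk, rfl⟩, Or.inr ⟨w * k, mul_mem r hk, by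
          rw [← mul_assoc w, (s.tw h).eq, mul_assoc]⟩⟩,
        ⟨Or.inr ⟨v * k, mul_mem l hk, by rw [← mul_assoc v, (s.tv h).eq, mul_assoc]⟩,
          Or.inr ⟨w * (v * k), mul_mem r (mul_mem l hk), by
            rw [← mul_assoc v, (s.tv h).eq, mul_assoc, ← mul_assoc w t, (s.tw h).eq, mul_assoc]⟩⟩]
    have ka := s.mul_a (four_fix h.va h.wa hk)
    have h10 := h7.uniq ho ev (fix_mul et (four_fix ev ew hk)) (x := w) (y := y)
      ((mem_DD h6.1).2 ⟨h.pair.comm, Or.inl (conj_of_commute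
        ((s.tw h).mul_right (mem_Cen.1 (hW hk))).symm)⟩)
      ((mem_DD h6.1).2 ⟨mem_Cen.1 h5.1.1, Or.inl (by
        rw [show t * k = y * y from h4]; group)⟩) ew h5.2
      (by rw [h.pair.sq_right]; exact one_mem _) (by rw [← h4]; exact right_mem_four _ _)
      (fun hw => by
        rcases h6.1.mem_four.1 hw with e | e | e | e
        exacts [h.pair.ne_one_right e, h.pair.ne e.symm, h.ne (h.wa.symm.trans (e ▸ ka)),
          h.ne (h.wa.symm.trans (by rw [e, mul_smul, ka, h.vb]))])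
      fun hy => h3 (h9 y hy).1
    exact h3 (by simpa using (h9 _ h10).2)
  have h3 : Nat.card S ≤ 8 := by
    rw [← SetLike.coe_sort_coe, Nat.card_coe_set_eq]; exact (Set.ncard_le_ncard hSE).trans hE
  have h4 := hS.not_dvd_relIndex
  have h5 := card_mul_relIndex hS.le
  obtain ⟨n, hn⟩ := IsPGroup.iff_card.1 hS.isPGroup
  rw [h.card_De ev ew, hn] at h5
  rw [hn] at h3
  have h6 : n ≤ 3 := (Nat.pow_le_pow_iff_right (by norm_num : 1 < 2)).1 h3
  have := Nat.odd_iff.1 ho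
  interval_cases n <;> omega

theorem not_two (s : PC a b t) (h : St a b v w c m i) (ho : Odd i) (h1 : Vt Ω v t)
    (h2 : Vt Ω v (t * w)) (hm : m = i + 2 * (i * (i - 1))) : False := by
  have h4 := s.mod_four h ho h1 h2
  obtain ⟨e, ev, ew, et⟩ := s.exists_e h ho
  have hv := h.pair.sq_left
  let Z := (zpowers v).subgroupOf (Cen v)
  have hZ : ∀ x : Cen v, x ∈ Z ↔ (x : G) = 1 ∨ (x : G) = v := fun x => mem_zp hv
  have : Z.Normal := ⟨fun n hn g => by
    rw [hZ] at hn ⊢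
    rcases hn with e | e <;> simp [e, conj_of_commute (mem_Cen.1 g.2)]⟩
  let π := QuotientGroup.mk' Z
  have hπ : ∀ x y : Cen v, π x = π y ↔ (y : G) = x ∨ (y : G) = x * v := fun x y => by
    rw [QuotientGroup.mk'_apply, QuotientGroup.mk'_apply, QuotientGroup.eq, hZ]
    simp [inv_mul_eq_iff_eq_mul]
  have cZ : Nat.card Z = 2 := by
    rw [card_subgroupOf, inf_eq_left.2 (zpowers_le.2 (mem_Cen.2 (Commute.refl v))),
      Nat.card_zpowers, h.pair.ha]
  have hcm : ∀ X : Subgroup (Cen v ⧸ Z), Nat.card (X.comap π) = Nat.card X * 2 := fun X => by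
    rw [← GT.card_map_mk'_mul_card_inf _ Z, map_comap_eq_self_of_surjective
      (QuotientGroup.mk'_surjective Z), inf_eq_right.2 (fun x hx => by
        rw [mem_comap, show π x = 1 from (QuotientGroup.eq_one_iff x).2 hx]; exact one_mem _), cZ]
  let w' : Cen v := ⟨w, mem_Cen.2 h.pair.comm⟩
  let t' : Cen v := ⟨t, mem_Cen.2 (s.tv h)⟩
  have ord : ∀ x : Cen v, Pair v (x : G) → orderOf (π x) = 2 := fun x hx =>
    Inv.orderOf_two_of (by rw [← map_mul, show x * x = 1 from Subtype.ext hx.sq_right, map_one])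
      fun e => by
        rcases (hπ 1 x).1 (by rw [e, map_one]) with e | e
        exacts [hx.ne_one_right e, hx.ne (by simpa using e.symm)]
  have hp : Pair (π w') (π t') := ⟨ord w' h.pair, ord t' h1.1, fun e => by
    rcases (hπ _ _).1 e with e | e
    exacts [h.ne (h.wa.symm.trans ((show t = w from e) ▸ s.ta)),
      h.ne ((fix_mul h.wa h.va).symm.trans ((show t = w * v from e) ▸ s.ta))],
    Commute.map (show Commute w' t' from Subtype.ext (s.tw h)) π⟩
  have hcc : ∀ x y : Cen v, π y ∈ Cen (π x) ↔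
      (y : G) * x * (y : G)⁻¹ = x ∨ (y : G) * x * (y : G)⁻¹ = x * v := fun x y => by
    rw [mem_Cen, show (y : G) * x * (y : G)⁻¹ = (y * x * y⁻¹ : Cen v) from rfl, ← hπ, map_mul,
      map_mul, map_inv, eq_mul_inv_iff_mul_eq]
    rfl
  have cQ : Nat.card (Cen v ⧸ Z) * 2 = m * ((m - 1) * 4) := by
    rw [← cZ, ← card_eq_card_quotient_mul_card_subgroup, h.card_C]
  obtain ⟨k, rfl⟩ : ∃ k, i = 4 * k + 3 := ⟨i / 4, by omega⟩
  rw [show 4 * k + 3 - 1 = 4 * k + 2 by omega] at hm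
  have hm1 : m - 1 = (4 * k + 2) * (8 * k + 7) := by
    rw [hm]; zify [show 1 ≤ 4 * k + 3 + 2 * ((4 * k + 3) * (4 * k + 2)) by omega]; ring
  have cQ' : Nat.card (Cen v ⧸ Z) = 2 * 2 ^ 1 * (m * ((2 * k + 1) * (8 * k + 7))) := by
    rw [hm1] at cQ; linarith
  have hr : Odd (m * ((2 * k + 1) * (8 * k + 7))) :=
    Odd.mul (by rw [Nat.odd_iff, h.parity_m]; omega)
      (Odd.mul (Nat.odd_iff.2 (by omega)) (Nat.odd_iff.2 (by omega)))
  have hD : DihSyl (Cen v ⧸ Z) := dihSyl_of_card (c := π w') hp.sq_right (by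
      rw [conj_of_commute hp.comm, inv_eq_of_mul_eq_one_right hp.sq_left]) (fun e => by
      rcases (mem_zp hp.sq_left).1 e with e | e
      exacts [hp.ne_one_right e, hp.ne e.symm]) le_rfl hp.ha hr cQ'
  have hvt : ∀ x : Cen v, Vt Ω v (x : G) → IsConj (π w') (π x) := fun x hx => by
    obtain ⟨p, q, h5⟩ := h.of_vt hx
    obtain ⟨g, rfl, rfl, hg⟩ := h.exists_conj h.pair.ha h5.ne h5.va h5.vb
    have h6 := h.conj' g
    rw [hg] at h6
    refine isConj_iff.2 ⟨π ⟨g, mem_Cen.2 (commute_of_conj hg)⟩, ?_⟩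
    rw [← map_inv, ← map_mul, ← map_mul, hπ]
    rcases h6.pair.mem_four.1 (h6.cen x h5.wa h5.wb hx.1.comm) with e | e | e | e
    exacts [absurd e hx.1.ne_one_right, absurd e hx.1.ne.symm, Or.inl e,
      Or.inr (e.trans h6.pair.comm.eq)]
  have hone : ∀ y : Cen v ⧸ Z, orderOf y = 2 → IsConj (π w') y := fun y hy => by
    obtain ⟨x, rfl⟩ := QuotientGroup.mk'_surjective Z y
    have a1 : (x : G) * x = 1 ∨ (x : G) * x = v := by
      simpa using (hπ 1 (x * x)).1 (by rw [map_one, map_mul, Inv.mul_self_of_two hy])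
    have a2 : ∀ p : Ω, v • p = p → (x : G) • (x : G) • p = p := fun p hp => by
      rw [← mul_smul]
      rcases a1 with e | e <;> rw [e]
      exacts [one_smul _ _, hp]
    refine hvt x ?_
    by_cases a3 : ∀ p : Ω, v • p = p → (x : G) • p = p
    · rcases h.cases_of_fix (mem_Cen.1 x.2) h.ne h.va h.vb (a3 a h.va) (a3 b h.vb) with e | e | e
      exacts [absurd ((hπ 1 x).2 (Or.inl e)).symm (Inv.ne_one_of_two hy),
        absurd ((hπ 1 x).2 (Or.inr (by simpa using e))).symm (Inv.ne_one_of_two hy), e]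
    push Not at a3
    obtain ⟨p, hp, a3⟩ := a3
    obtain ⟨g, hg, g1, g2⟩ := h.C2.tr p hp _ (fix_comm (mem_Cen.1 x.2) hp) a h.va b h.vb a3.symm h.ne
    have hgv := mem_Cen.1 hg
    have a4 : Vt Ω v (g * x * g⁻¹) := by
      rcases h.mem_four_of_map (g := g * x * g⁻¹) (s.tv h) ((hgv.mul_right (mem_Cen.1 x.2)).mul_right
        hgv.inv_right) (by rw [s.ta, ← g1, conj_smul, g2])
        (by rw [s.tb, ← g2, conj_smul, a2 p hp, g1]) with e | e | e | e <;> rw [e]
      exacts [h1, h1.1.comm.eq ▸ h1.mul, h2, by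
        have := h2.mul
        rwa [h2.1.comm.eq, mul_assoc, ← h.pair.comm.eq] at this]
    have := a4.conj g⁻¹
    rwa [conj_of_commute hgv.inv_right, show g⁻¹ * (g * x * g⁻¹) * g⁻¹⁻¹ = x by group] at this
  obtain ⟨σ, ρ, I, hρ, e1, e2, e3⟩ := DihOrd.formula hD (fun x _ y _ hx hy => by
    obtain ⟨g, hg⟩ := isConj_iff.1 ((hone x hx).symm.trans (hone y hy))
    exact ⟨g, mem_top _, hg⟩) hp
  replace e3 := e3.resolve_right fun e => by
    have h4 := (oddCore (Cen v ⧸ Z)).card_mul_index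
    rw [index_eq_card, e.2.card, cQ'] at h4
    exact hr.not_two_dvd_nat ⟨Nat.card (oddCore (Cen v ⧸ Z)) * 315, by linarith⟩
  have c1 : (Cen (π w')).comap π = (DD v w).subgroupOf (Cen v) := by
    ext y
    rw [mem_comap, hcc, mem_subgroupOf, mem_DD h.pair, h.pair.comm.eq]
    exact (and_iff_right (mem_Cen.1 y.2)).symm
  have c2 : (Cen (π w') ⊓ Cen (π t')).comap π ≤ (DD v w ⊓ stabilizer G e).subgroupOf (Cen v) := by
    intro y hy
    have a1 : (y : G) ∈ DD v w := c1.le hy.1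
    have a2 := h.D2.inv y a1 e ⟨ev, ew⟩
    refine ⟨a1, by_contra fun a3 => h.ne (.trans (.symm ?_) s.ta)⟩
    refine h.D2.triv_of_fix (a := a) (b := b) ⟨h.va, h.wa⟩ ⟨h.vb, h.wb⟩ h.ne h.D_triv (s.mem h) a2
      ⟨ev, ew⟩ a3 ?_ et a ⟨h.va, h.wa⟩
    have a4 := (conj_fix (g := (y : G))).2 et
    rcases (hcc t' y).1 hy.2 with e | e <;> rw [e] at a4
    · exact a4
    · rwa [mul_smul, show v • (y : G) • _ = _ from a2.1] at a4
  have c3 := hcm (Cen (π w'))
  have c4 := card_dvd_of_le c2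
  rw [c1, card_subgroupOf, inf_eq_left.2 (DD_le v w), h.card_D] at c3
  rw [hcm, card_subgroupOf, inf_eq_left.2 (inf_le_left.trans (DD_le v w)), h.card_De ev ew] at c4
  obtain ⟨l, hl⟩ := c4
  rw [show 4 * k + 3 - 1 = 4 * k + 2 by omega] at c3 hl
  set C := Nat.card ↥(Cen (π w') ⊓ Cen (π t'))
  have hC : 0 < C := Nat.card_pos
  have e4 : σ * ρ = (4 * k + 3) * l :=
    Nat.eq_of_mul_eq_mul_right (show 0 < C * 2 by omega) (by rw [hl, e2] at c3; linarith)
  have e5 : I * ρ ^ 2 = (8 * k + 5) * (8 * k + 7) :=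
    Nat.eq_of_mul_eq_mul_right (show 0 < (4 * k + 3) * ((4 * k + 2) * 4) by positivity) (by
      rw [c3, ← mul_assoc, ← e1, cQ', hm, ← c3]; ring)
  have e6 : 3 * σ ^ 2 ≤ I := by rcases e3 with ⟨-, rfl⟩ | ⟨r, rfl, rfl⟩ <;> nlinarith
  have e7 : 3 * ((4 * k + 3) * l) ^ 2 ≤ (8 * k + 5) * (8 * k + 7) := by
    rw [← e4, ← e5]; nlinarith [Nat.mul_le_mul_right (ρ ^ 2) e6]
  obtain rfl : l = 1 := by
    rcases l with _ | _ | l
    · omega
    · rfl
    · nlinarith [Nat.zero_le (k * l), Nat.zero_le (k * k * l), Nat.zero_le (k * l * l),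
        Nat.zero_le (k * k * l * l), Nat.zero_le (l * l)]
  obtain rfl : ρ = 1 := by
    have a1 : ρ ∣ 4 * ((4 * k + 3) * 1) ^ 2 := e4 ▸ Dvd.intro (4 * σ ^ 2 * ρ) (by ring)
    rw [show 4 * ((4 * k + 3) * 1) ^ 2 = (8 * k + 5) * (8 * k + 7) + 1 by ring, ← e5] at a1
    exact Nat.dvd_one.1 ((Nat.dvd_add_right (Dvd.intro (I * ρ) (by ring))).1 a1)
  rcases e3 with ⟨-, rfl⟩ | ⟨r, rfl, rfl⟩ <;> nlinarith

theorem odd (s : PC a b t) (h : St a b v w c m i) (ho : Odd i) (hc : c ≤ 15) :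
    ∃ N : Subgroup G, N.Normal ∧ Odd (Nat.card N) ∧ ∀ g : G, t * g * t⁻¹ * g⁻¹ ∈ N := by
  obtain ⟨β, -, ⟨h1, h2, -⟩ | ⟨h1, h2, -⟩ | ⟨h1, h2, -⟩⟩ := s.beta h
  · exact absurd (s.not_one h ho hc h1) h2
  · exact s.zstar h (by rw [Nat.odd_iff, h.parity_n, h.parity_m]; exact Nat.odd_iff.1 ho) h1 h2
  · obtain ⟨γ, g1, ⟨-, -, rfl⟩ | ⟨-, rfl⟩ | ⟨g2, g3, rfl⟩⟩ := s.sig h
    exacts [absurd (by simpa using g1) (s.not_zero h ho h1),
      absurd (by simpa using g1) (s.not_sq h ho h1 h2), (s.not_two h ho g2 g3 g1).elim]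

end PC

end Cfsg.Agent.Perm.KA
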