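import Mathlib
import Cfsg.Agent.Perm.KAPO
import Cfsg.Agent.Perm.AGL24
import Cfsg.Agent.GT.Zipper

/-!
# Two-point stabilizer `A₄`: degrees 28 and 16
-/

set_option autoImplicit false

namespace Cfsg.Agent.Perm.KA

open Subgroup MulAction Cfsg.Agent.GW TwoCount Cfsg.Agent.Inv.Fz

variable {G Ω : Type*} [Group G] [MulAction G Ω] {a b : Ω} {v w t : G} {c m i : ℕ}

theorem St.normal_trans (h : St a b v w c m i) {N : Subgroup G} [hN : N.Normal] (h1 : N ≠ ⊥)
    (x y : Ω) : ∃ n ∈ N, n • x = y := by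
  by_cases e : x = y
  · exact ⟨1, one_mem _, by simp [e]⟩
  obtain ⟨⟨n, hn⟩, h2⟩ := ne_bot_iff_exists_ne_one.1 h1
  obtain ⟨g, hg⟩ := h.exists_swap (u := n) fun e => h2 (Subtype.ext e)
  obtain ⟨k, rfl, rfl⟩ := h.tr e
  exact ⟨k * (g⁻¹ * n * g) * k⁻¹, hN.conj_mem _ (by simpa using hN.conj_mem n hn g⁻¹) k,
    by rw [conj_smul, hg]⟩

variable [Finite G]

theorem exists_core (H M : Subgroup G) : ∃ Q : Subgroup G, Q ≤ M ∧ Q ≤ H ∧
    (∀ g ∈ H, ∀ q ∈ Q, g * q * g⁻¹ ∈ Q) ∧ Q.relIndex H ∣ (M.relIndex H).factorial := by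
  refine ⟨(M.subgroupOf H).normalCore.map H.subtype, ?_, map_subtype_le _, ?_, ?_⟩
  · rintro _ ⟨x, hx, rfl⟩; exact normalCore_le (M.subgroupOf H) hx
  · rintro g hg _ ⟨x, hx, rfl⟩
    exact ⟨_, Normal.conj_mem inferInstance x hx ⟨g, hg⟩, rfl⟩
  · rw [relIndex, relIndex, ← comap_subtype, comap_map_eq_self_of_injective H.subtype_injective,
      normalCore_eq_ker, index_ker, index_eq_card, ← Nat.card_perm]
    exact card_subgroup_dvd_card _

theorem St.semireg (h : St a b v w 3 m i) {Q : Subgroup G} (hQ : Q ≤ stabilizer G a)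
    (hn : ∀ g ∈ stabilizer G a, ∀ q ∈ Q, g * q * g⁻¹ ∈ Q) (ho : Odd (Nat.card Q)) :
    ∀ y ∈ Q, ∀ x, x ≠ a → y • x = x → y = 1 := by
  have h1 : ({v, w, v * w} : Set G) = {u : G | orderOf u = 2 ∧ u • a = a ∧ u • b = b} := by
    refine Set.eq_of_subset_of_ncard_le ?_ (by
      rw [h.card_inv, Set.ncard_eq_three.2 ⟨v, w, v * w, h.pair.ne, h.pair.mul.ne, h.pair.mul'.ne,
        rfl⟩])
    rintro _ (rfl | rfl | rfl)
    exacts [⟨h.pair.ha, h.va, h.vb⟩, ⟨h.pair.hb, h.wa, h.wb⟩,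
      ⟨h.pair.orderOf_mul, h.mul.wa, h.mul.wb⟩]
  have hsq : ∀ z ∈ four v w, z ∈ Q → z = 1 := fun z hz hz' =>
    eq_one_of_odd_of_mul_self (BW.odd_orderOf ho hz') (by
      rcases h.pair.mem_four.1 hz with rfl | rfl | rfl | rfl
      exacts [one_mul _, h.pair.sq_left, h.pair.sq_right, h.pair.mul.sq_right])
  have key : ∀ y ∈ Q, y • b = b → y = 1 := fun y hy yb => by
    have ya : y • a = a := hQ hy
    have h2 : y * v * y⁻¹ ∈ four v w := by
      rcases h1.ge (show y * v * y⁻¹ ∈ _ from ⟨by rw [GT.orderOf_conj, h.pair.ha],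
        fix_mul (fix_mul ya h.va) (fix_inv ya), fix_mul (fix_mul yb h.vb) (fix_inv yb)⟩)
        with e | e | e
      exacts [h.pair.mem_four.2 (Or.inr (Or.inl e)), h.pair.mem_four.2 (Or.inr (Or.inr (Or.inl e))),
        h.pair.mem_four.2 (Or.inr (Or.inr (Or.inr e)))]
    have h3 := hsq _ (mul_mem h2 (inv_mem (left_mem_four v w))) (by
      rw [mul_assoc y, mul_assoc y]; exact mul_mem hy (hn v h.va _ (inv_mem hy)))
    exact hsq y (h.cen y ya yb (commute_of_conj (mul_inv_eq_one.1 h3))) hy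
  intro y hy x hx yx
  obtain ⟨g, g1, rfl⟩ := h.tr hx.symm
  have := key _ (hn _ (inv_mem (show g ∈ stabilizer G a from g1)) y hy) (by
    rw [inv_inv]; exact inv_conj_fix.2 yx)
  exact conj_eq_one_iff.1 this

theorem St.card_dvd (h : St a b v w 3 m i) {Q : Subgroup G} (hQ : Q ≤ stabilizer G a)
    (hn : ∀ g ∈ stabilizer G a, ∀ q ∈ Q, g * q * g⁻¹ ∈ Q) (ho : Odd (Nat.card Q)) :
    Nat.card Q ∣ Nat.card Ω - 1 := by
  have := Fx.card_dvd_of_semiregular Q (Set.univ \ {a})
    (fun g hg => (h.t2.stab (a := a) trivial).inv g ⟨trivial, hQ hg⟩)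
    fun g hg x hx => h.semireg hQ hn ho g hg x hx.2
  rwa [Nat.card_coe_set_eq, Set.ncard_sdiff_singleton_of_mem (Set.mem_univ a), Set.ncard_univ] at this

variable [Finite Ω]

theorem St.no28 (h : St a b v w 3 4 i) (one : ∀ u : G, orderOf u = 2 → IsConj v u)
    (hn : Nat.card Ω = 28) : False := by
  have : Fact (Nat.Prime 3) := ⟨Nat.prime_three⟩
  have : Fact (Nat.Prime 7) := ⟨by norm_num⟩
  have cGa : Nat.card (stabilizer G a) = 324 := by rw [h.card_Ga, hn]
  have cG : Nat.card G = 9072 := by rw [h.card_G, hn]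
  obtain ⟨T, hT, -⟩ := exists_isSylIn (p := 3) (H := stabilizer G a) IsPGroup.of_bot bot_le
  obtain ⟨Q, q1, q2, q3, q4⟩ := exists_core (stabilizer G a) T
  have hT4 : T.relIndex (stabilizer G a) = 4 := by
    obtain ⟨k, hk⟩ := IsPGroup.iff_card.1 hT.isPGroup
    have h1 := card_mul_relIndex hT.le
    have h2 := hT.not_dvd_relIndex
    rw [cGa, hk] at h1
    have : k ≤ 4 := by
      by_contra h3
      have : 3 ^ 5 ∣ 324 := (pow_dvd_pow 3 (by omega)).trans ⟨_, h1.symm⟩
      omega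
    interval_cases k <;> omega
  have hQo : Odd (Nat.card Q) := by
    obtain ⟨k, hk⟩ := IsPGroup.iff_card.1 (hT.isPGroup.to_le q1)
    rw [hk]; exact Odd.pow (by decide)
  have hsr := h.semireg q2 q3 hQo
  have cQ : Nat.card Q = 27 := by
    have h1 := h.card_dvd q2 q3 hQo
    have h2 := card_mul_relIndex q2
    rw [hT4] at q4
    rw [hn] at h1
    rw [cGa] at h2
    have h3 := Nat.le_of_dvd (by norm_num) h1
    have h4 : Q.relIndex (stabilizer G a) ≤ 12 :=
      Nat.le_of_dvd (by norm_num) (Nat.dvd_gcd q4 ⟨_, h2.symm.trans (mul_comm _ _)⟩)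
    nlinarith
  have hQt : ∀ p, p ≠ a → ∃ q ∈ Q, q • b = p := fun p hp => by
    have h1 := Fx.card_orbit_mul Q b
    rw [show Q ⊓ stabilizer G b = ⊥ from eq_bot_iff.2 fun y hy => hsr y hy.1 b h.ne.symm hy.2,
      card_bot, mul_one, cQ, Nat.card_coe_set_eq] at h1
    have h2 : orbit Q b = Set.univ \ {a} := Set.eq_of_subset_of_ncard_le (fun x hx => by
      obtain ⟨g, hg, rfl⟩ := Fx.mem_orbit_sub.1 hx
      exact (h.t2.stab (a := a) trivial).inv g ⟨trivial, q2 hg⟩ b ⟨trivial, h.ne.symm⟩) (by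
      rw [Set.ncard_sdiff_singleton_of_mem (Set.mem_univ a), Set.ncard_univ, hn, h1])
    exact Fx.mem_orbit_sub.1 (h2.ge ⟨trivial, hp⟩)
  have seven : ∀ y : G, (fixedBy Ω y).ncard ≠ 7 := by
    have key : ∀ y : G, y • a = a → y • b = b → (fixedBy Ω y).ncard ≠ 7 := fun y ya yb h7 => by
      have h1 : T1 (Q ⊓ Cen y) (fixedBy Ω y \ {a}) := by
        have h2 : ∀ p ∈ fixedBy Ω y \ {a}, ∃ q ∈ Q ⊓ Cen y, q • b = p := fun p hp => by
          obtain ⟨q, hq, rfl⟩ := hQt p hp.2
          refine ⟨q, ⟨hq, mem_Cen.2 (commute_of_conj ?_).symm⟩, rfl⟩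
          have := hsr _ (mul_mem (inv_mem hq) (q3 y ya q hq)) b h.ne.symm (by
            rw [mul_smul, mul_smul, mul_smul, fix_inv yb, show y • q • b = q • b from hp.1,
              inv_smul_smul])
          exact (inv_mul_eq_one.1 this).symm
        refine ⟨fun g hg p hp => ⟨fix_comm (mem_Cen.1 hg.2) hp.1,
          ((h.t2.stab (a := a) trivial).inv g ⟨trivial, q2 hg.1⟩ p ⟨trivial, hp.2⟩).2⟩,
          fun p hp p' hp' => ?_⟩
        obtain ⟨q, hq, rfl⟩ := h2 p hp
        obtain ⟨q', hq', rfl⟩ := h2 p' hp'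
        exact ⟨q' * q⁻¹, mul_mem hq' (inv_mem hq), by simp [mul_smul]⟩
      have h2 := h1.card (a := b) ⟨yb, h.ne.symm⟩
      have h3 := card_dvd_of_le (inf_le_left : Q ⊓ Cen y ≤ Q)
      rw [Set.ncard_sdiff_singleton_of_mem (show a ∈ fixedBy Ω y from ya), h7] at h2
      rw [h2, cQ] at h3
      have := (dvd_mul_right _ _).trans h3
      omega
    intro y h7
    obtain ⟨p, hp, q, hq, hpq⟩ := (Set.one_lt_ncard (s := fixedBy Ω y)).1 (by omega)
    obtain ⟨g, rfl, rfl⟩ := h.tr hpq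
    refine key (g⁻¹ * y * g) (inv_conj_fix.2 hp) (inv_conj_fix.2 hq) ?_
    have := fixedBy_conj (Ω := Ω) g⁻¹ y
    rw [inv_inv] at this
    rw [this, Set.ncard_image_of_injective _ (MulAction.injective _), h7]
  obtain ⟨P⟩ : Nonempty (Sylow 7 G) := inferInstance
  have cP : Nat.card P = 7 := by
    rw [P.card_eq_multiplicity, cG, show (9072 : ℕ) = 7 * 1296 from rfl,
      Nat.factorization_mul (by norm_num) (by norm_num)]
    simp [Nat.Prime.factorization_self (p := 7) Fact.out,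
      Nat.factorization_eq_zero_of_not_dvd (show ¬ 7 ∣ 1296 by norm_num)]
  have hP : IsCyclic P := isCyclic_of_prime_card cP
  have hPsr : ∀ x ∈ (P : Subgroup G), ∀ p : Ω, x • p = p → x = 1 := fun x hx p hp => by
    have h1 := h.t2.t1.card (a := p) trivial
    rw [card_top, cG, Set.ncard_univ, hn, top_inf_eq] at h1
    have h2 := orderOf_dvd_natCard (stabilizer G p) hp
    have h3 := orderOf_dvd_natCard _ hx
    rw [show Nat.card (stabilizer G p) = 324 by omega] at h2
    rw [cP] at h3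
    exact orderOf_eq_one_iff.1 (Nat.dvd_one.1 (Nat.dvd_gcd h3 h2))
  have hC : Nat.card (centralizer ((P : Subgroup G) : Set G)) = 7 := by
    obtain ⟨d, hd⟩ := card_dvd_of_le (le_centralizer_iff_isMulCommutative.2 hP.isMulCommutative)
    rw [cP] at hd
    by_contra h1
    have h2 : d ∣ 1296 := Nat.dvd_of_mul_dvd_mul_left (show 0 < 7 by norm_num)
      (by rw [← hd, show 7 * 1296 = Nat.card G from cG.symm]; exact card_subgroup_dvd_card _)
    obtain ⟨r, hr, hrd⟩ := Nat.exists_prime_and_dvd (show d ≠ 1 by omega)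
    have : Fact r.Prime := ⟨hr⟩
    obtain ⟨y, hy⟩ := exists_prime_orderOf_dvd_card' (G := centralizer ((P : Subgroup G) : Set G)) r
      (hd ▸ hrd.mul_left 7)
    have hy' : orderOf (y : G) = r := (Subgroup.orderOf_coe y).trans hy
    have h3 := Fx.card_dvd_of_semiregular (P : Subgroup G) (fixedBy Ω (y : G))
      (fun x hx p hp => fix_comm (mem_centralizer_iff.1 y.2 x hx).symm hp)
      fun x hx p _ => hPsr x hx p
    rw [cP, Nat.card_coe_set_eq] at h3
    have h4 : r = 2 ∨ r = 3 := by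
      have h5 := hrd.trans h2
      rw [show 1296 = 2 ^ 4 * 3 ^ 4 from rfl] at h5
      exact ((Nat.Prime.dvd_mul hr).1 h5).imp
        (fun e => (Nat.prime_dvd_prime_iff_eq hr Nat.prime_two).1 (hr.dvd_of_dvd_pow e))
        fun e => (Nat.prime_dvd_prime_iff_eq hr Nat.prime_three).1 (hr.dvd_of_dvd_pow e)
    rcases h4 with rfl | rfl
    · obtain ⟨p, q, x, h5⟩ := h.of_isConj (one y hy')
      rw [h5.hm] at h3
      omega
    · have h5 := Fx.card_modEq_card_fixed (H := zpowers (y : G)) (IsPGroup.of_card (n := 1) (by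
        rw [Nat.card_zpowers, hy', pow_one])) (Set.univ : Set Ω) fun _ _ _ _ => trivial
      have h6 : {x : Ω | x ∈ Set.univ ∧ ∀ g ∈ zpowers (y : G), g • x = x} = fixedBy Ω (y : G) := by
        ext x
        exact ⟨fun hx => hx.2 _ (mem_zpowers _), fun hx => ⟨trivial, fun g hg =>
          (zpowers_le.2 (show (y : G) ∈ stabilizer G x from hx)) hg⟩⟩
      rw [h6, Nat.card_coe_set_eq, Nat.card_coe_set_eq, Set.ncard_univ, hn] at h5
      have h7 : (fixedBy Ω (y : G)).ncard < 28 := by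
        rw [← hn, ← Set.ncard_univ]
        refine Set.ncard_lt_ncard (Set.ssubset_univ_iff.2 fun e => ?_)
        rw [h.faith y fun x => e.ge trivial] at hy'
        simp at hy'
      have := seven y
      unfold Nat.ModEq at h5
      omega
  have hN : normalizer ((P : Subgroup G) : Set G) ≤ centralizer ((P : Subgroup G) : Set G) := by
    have h1 : (centralizer ((P : Subgroup G) : Set G)).relIndex
        (normalizer ((P : Subgroup G) : Set G)) ∣ 6 := by
      rw [relIndex, ← normalizerMonoidHom_ker, index_ker]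
      refine (card_subgroup_dvd_card _).trans ?_
      rw [hP.card_mulAut, cP]; decide
    have h2 := card_mul_relIndex (centralizer_le_normalizer ((P : Subgroup G) : Set G))
    have h3 := (normalizer ((P : Subgroup G) : Set G)).card_mul_index
    have h4 := card_sylow_modEq_one 7 G
    rw [P.card_eq_index_normalizer] at h4
    rw [← h2, hC, cG] at h3
    rw [← relIndex_eq_one]
    unfold Nat.ModEq at h4
    have h5 := Nat.le_of_dvd (by norm_num) h1
    change (normalizer ((P : Subgroup G) : Set G)).index % 7 = _ at h4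
    generalize (centralizer ((P : Subgroup G) : Set G)).relIndex _ = d at h1 h3 h5
    interval_cases d <;> omega
  have h1 := (MonoidHom.ker_transferSylow_isComplement' P hN).card_mul_card
  rw [cP, cG] at h1
  have h2 : T1 (MonoidHom.transferSylow P hN).ker (Set.univ : Set Ω) :=
    ⟨fun _ _ _ _ => trivial, fun x _ y _ => h.normal_trans (fun e => by
      rw [e, card_bot] at h1; omega) x y⟩
  have h3 := h2.card (a := a) trivial
  rw [Set.ncard_univ, hn] at h3
  omega

theorem PC.agl (s : PC a b t) (h : St a b v w 3 4 4) (hn : Nat.card Ω = 16) (h1 : ¬ IsConj v t)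
    (h2 : IsConj v (t * v)) : Nonempty (G ≃* (AGL24.V ≃ᵃ[AGL24.F4] AGL24.V)) := by
  classical
  have : Fact (Nat.Prime 2) := ⟨Nat.prime_two⟩
  have cGa : Nat.card (stabilizer G a) = 180 := by rw [h.card_Ga, hn]
  have cG : Nat.card G = 2880 := by rw [h.card_G, hn]
  have fpf : ∀ u : G, orderOf u = 2 → ¬ IsConj v u → ∀ p : Ω, u • p ≠ p := fun u hu hv p hp => by
    have h3 := parity (Δ := (Set.univ : Set Ω)) (x := u) (fun _ _ => trivial)
      fun p _ => by rw [← mul_smul, Inv.mul_self_of_two hu, one_smul]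
    rw [Set.ncard_univ, hn, ncard_eq_one_of (Δ := Set.univ) (Set.mem_univ p) hp fun p _ q _ h4 h5 => by_contra fun e =>
      hv (h.isConj hu e h4 h5)] at h3
    omega
  have uniq : ∀ u : G, orderOf u = 2 → ¬ IsConj v u → ∀ g : G, u • g • a = g • b →
      u = g * t * g⁻¹ := fun u hu hv g hg => by
    rcases s.form (u := g⁻¹ * u * g) (by simpa using (GT.orderOf_conj u g⁻¹).trans hu) (by
      rw [mul_smul, mul_smul, hg, inv_smul_smul]) with e | ⟨k, hk, e⟩
    · rw [← e]; group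
    · exact absurd ((h2.trans (s.conj_tv h hk)).trans (isConj_iff.2 ⟨g, by rw [e]; group⟩)) hv
  have hO : t ∈ pCore 2 G := by
    by_contra h3
    obtain ⟨x, x1, xo, hx⟩ := GT.exists_odd_inverted_of_not_mem_pCore s.sq h3
    obtain ⟨r, hr, k, hk⟩ := Nat.exists_prime_and_dvd (mt orderOf_eq_one_iff.1 x1)
    have : Fact r.Prime := ⟨hr⟩
    have hk0 : k ≠ 0 := by rintro rfl; exact (orderOf_pos x).ne' (by simpa using hk)
    have hy : orderOf (x ^ k) = r := by
      rw [orderOf_pow' x hk0, hk, Nat.gcd_mul_left_left, Nat.mul_div_cancel _ (by omega)]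
    have hro : Odd r := xo.of_dvd_nat ⟨k, hk⟩
    have hty : t * x ^ k * t⁻¹ = (x ^ k)⁻¹ := by rw [← conj_pow, hx, inv_pow]
    generalize x ^ k = y at hy hty
    obtain ⟨p, -, hp⟩ := Fx.exists_fixed_of_not_dvd (H := zpowers y) (IsPGroup.of_card (n := 1) (by
      rw [Nat.card_zpowers, hy, pow_one])) (Set.univ : Set Ω) (fun _ _ _ _ => trivial) (by
      rw [Nat.card_coe_set_eq, Set.ncard_univ, hn, show 16 = 2 ^ 4 from rfl]
      exact fun e => hro.not_two_dvd_nat
        ((Nat.prime_dvd_prime_iff_eq hr Nat.prime_two).1 (hr.dvd_of_dvd_pow e)).symm.dvd)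
    have ti := inv_eq_of_mul_eq_one_right s.sq
    obtain ⟨z, -, hz⟩ := (BW.Inv_eq (H := zpowers y) (by rw [Nat.card_zpowers, hy]; exact hro) s.sq
      (fun z ⟨j, hj⟩ => by
        nth_rw 2 [← ti]
        rw [← hj, ← conj_zpow, hty]
        exact zpow_mem (inv_mem (mem_zpowers y)) j)).le (show t * y ∈ _ from ⟨by
          nth_rw 2 [← ti]
          rw [hty]; exact inv_mem (mem_zpowers y), by
          rw [← mul_assoc]
          nth_rw 2 [← ti]
          rw [hty, inv_mul_cancel]⟩)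
    obtain ⟨g, rfl, g2⟩ := h.tr (fpf t s.tt h1 p).symm
    have e1 := uniq t s.tt h1 g g2.symm
    have e2 := uniq (t * y) (by rw [← hz, GT.orderOf_conj, s.tt])
      (fun e => h1 (e.trans (isConj_iff.2 ⟨z, hz⟩).symm)) g (by
        rw [mul_smul, hp y (mem_zpowers y), g2])
    rw [← e1, mul_eq_left] at e2
    rw [e2, orderOf_one] at hy
    exact hr.one_lt.ne hy
  let N := pCore 2 G ⊓ centralizer (pCore 2 G : Set G)
  have : N.Normal := inferInstance
  have hNc : ∀ x ∈ N, ∀ y ∈ N, x * y = y * x := fun x hx y hy => mem_centralizer_iff.1 hy.2 x hx.1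
  obtain ⟨u, hu, huo⟩ : ∃ u ∈ N, orderOf u = 2 := by
    have h3 : IsPGroup 2 (pCore 2 G) := GT.isPGroup_pCore 2
    have : Nontrivial (pCore 2 G) :=
      ⟨⟨⟨t, hO⟩, 1, fun e => Inv.ne_one_of_two s.tt (congrArg Subtype.val e)⟩⟩
    have := h3.center_nontrivial
    obtain ⟨z, hz⟩ := exists_prime_orderOf_dvd_card' (G := center (pCore 2 G)) 2
      (((h3.to_subgroup _).nontrivial_iff_card.1 this).elim fun n hn =>
        hn.2 ▸ dvd_pow_self 2 hn.1.ne')
    exact ⟨z, ⟨z.1.2, mem_centralizer_iff.2 fun g hg =>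
      congrArg Subtype.val (mem_center_iff.1 z.2 ⟨g, hg⟩)⟩, by
      rw [Subgroup.orderOf_coe, Subgroup.orderOf_coe, hz]⟩
  have htr := h.normal_trans (N := N) fun e => Inv.ne_one_of_two huo (mem_bot.1 (e ▸ hu))
  have hreg : ∀ n ∈ N, ∀ p : Ω, n • p = p → n = 1 := fun n hn p hp => h.faith n fun x => by
    obtain ⟨k, hk, rfl⟩ := htr p x
    exact fix_comm (hNc n hn k hk) hp
  have cN : Nat.card N = 16 := by
    rw [(show T1 N (Set.univ : Set Ω) from ⟨fun _ _ _ _ => trivial, fun x _ y _ => htr x y⟩).card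
      (a := a) trivial, Set.ncard_univ, hn, show N ⊓ stabilizer G a = ⊥ from
      eq_bot_iff.2 fun x hx => hreg x hx.1 a hx.2, card_bot]
  have hsq : ∀ n ∈ N, n * n = 1 := fun n hn => by
    by_cases e : n • a = a
    · rw [hreg n hn a e, one_mul]
    obtain ⟨g, hg⟩ := h.exists_swap (Inv.ne_one_of_two huo)
    obtain ⟨k, k1, k2⟩ := h.tr (Ne.symm e)
    have h3 : k * (g⁻¹ * u * g) * k⁻¹ ∈ N :=
      this.conj_mem _ (by simpa using this.conj_mem u hu g⁻¹) k
    have h4 := hreg _ (mul_mem (inv_mem hn) h3) a (by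
      rw [mul_smul, inv_smul_eq_iff, ← k2, ← hg, ← conj_smul, k1])
    rw [inv_mul_eq_one.1 h4, conj_mul, show g⁻¹ * u * g * (g⁻¹ * u * g) = g⁻¹ * (u * u) * g by group,
      Inv.mul_self_of_two huo]
    group
  have hV : four v w ≤ stabilizer G a := fun k hk => four_fix h.va h.wa hk
  have hV2 : IsPGroup 2 (four v w) := IsPGroup.of_card (n := 2) (K1.card_four h.pair)
  have hS : IsSylIn 2 (four v w) (stabilizer G a) := isSylIn_of_not_dvd hV hV2 (by
    have := card_mul_relIndex hV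
    rw [K1.card_four h.pair, cGa] at this
    omega)
  let M := stabilizer G a ⊓ normalizer (four v w : Set G)
  have cM : Nat.card M = 36 := by
    have h3 := BW.card_conj M v
    have h4 : M ⊓ centralizer {v} = DD v w ⊓ stabilizer G a := by
      ext x; simp only [M, DD, mem_inf]; tauto
    have h5 : {x | ∃ g ∈ M, g * v * g⁻¹ = x} = {v, w, v * w} := by
      obtain ⟨ρ, ρa, -, r1, r2⟩ := h.rho
      have hρ : ρ ∈ M := ⟨ρa, mem_normalizer_fintype fun x hx =>
        (show four v w ≤ (four v w).comap (MulAut.conj ρ).toMonoidHom from (closure_le _).2 (by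
          rintro _ (rfl | rfl)
          · show ρ * _ * ρ⁻¹ ∈ four _ w
            rw [r1]; exact right_mem_four _ _
          · show ρ * _ * ρ⁻¹ ∈ four v _
            rw [r2]; exact mul_mem (left_mem_four _ _) (right_mem_four _ _))) hx⟩
      ext x
      refine ⟨?_, ?_⟩
      · rintro ⟨g, hg, rfl⟩
        exact (h.pair.mem_four.1 (GT.conj_mem_of_mem_normalizer hg.2 (left_mem_four v w))).resolve_left
          (h.pair.conj g).ne_one_left
      · rintro (rfl | rfl | rfl)
        exacts [⟨1, one_mem _, by simp⟩, ⟨ρ, hρ, r1⟩, ⟨ρ * ρ, mul_mem hρ hρ, by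
          rw [← r2, ← r1]; group⟩]
    rw [h4, h5, h.card_De h.va h.wa, Nat.card_coe_set_eq, Set.ncard_eq_three.2
      ⟨v, w, v * w, h.pair.ne, h.pair.mul.ne, h.pair.mul'.ne, rfl⟩] at h3
    exact h3.symm
  obtain ⟨Q, q1, q2, q3, q4⟩ := exists_core (stabilizer G a) M
  have hQo : Odd (Nat.card Q) := by
    refine Nat.odd_iff.2 (Nat.two_dvd_ne_zero.1 fun e => ?_)
    obtain ⟨y, hy⟩ := exists_prime_orderOf_dvd_card' (G := Q) 2 e
    have key : ∀ z ∈ Q, orderOf z = 2 → z • b = b := fun z hz hz2 => four_fix h.vb h.wb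
      ((hS.eq_of_le (hV2.to_sup_of_normal_left' (IsPGroup.of_card (n := 1) (by
        rw [Nat.card_zpowers, hz2, pow_one])) (zpowers_le.2 (q1 hz).2))
        (sup_le hV (zpowers_le.2 (q2 hz))) le_sup_left).le (mem_sup_right (mem_zpowers z)))
    have hy' : orderOf (y : G) = 2 := (Subgroup.orderOf_coe y).trans hy
    refine Inv.ne_one_of_two hy' (h.faith _ fun x => ?_)
    by_cases e : a = x
    · exact e ▸ q2 y.2
    obtain ⟨g, g1, rfl⟩ := h.tr e
    have := key _ (q3 _ (inv_mem (show g ∈ stabilizer G a from g1)) _ y.2) (by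
      rw [GT.orderOf_conj, hy'])
    rw [inv_inv] at this
    exact inv_conj_fix.1 this
  have cQ : Nat.card Q = 3 := by
    have h3 := h.card_dvd q2 q3 hQo
    have h4 := card_dvd_of_le q1
    have h5 := card_mul_relIndex q2
    have h6 := card_mul_relIndex (show M ≤ stabilizer G a from inf_le_left)
    rw [hn] at h3
    rw [cM] at h4 h6
    rw [cGa] at h5 h6
    rw [show M.relIndex (stabilizer G a) = 5 by omega] at q4
    refine ((Nat.dvd_prime Nat.prime_three).1 (Nat.dvd_gcd h3 h4)).resolve_left fun e => ?_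
    rw [e, one_mul] at h5
    rw [h5] at q4
    exact absurd q4 (by decide)
  have : Fact (Nat.Prime 3) := ⟨Nat.prime_three⟩
  obtain ⟨ω, hω⟩ := exists_prime_orderOf_dvd_card' (G := Q) 3 cQ.symm.dvd
  have hω' : orderOf (ω : G) = 3 := (Subgroup.orderOf_coe ω).trans hω
  have ω1 : (ω : G) ≠ 1 := fun e => by rw [e] at hω'; simp at hω'
  have ω3 : (ω : G) ^ 3 = 1 := hω' ▸ pow_orderOf_eq_one _
  have hQ : ∀ x ∈ Q, x = 1 ∨ x = ω ∨ x = (ω : G) ^ 2 := fun x hx => by
    have e : zpowers (ω : G) = Q := eq_of_le_of_card_ge (zpowers_le.2 ω.2) (by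
      rw [Nat.card_zpowers, hω', cQ])
    rw [← e, mem_zpowers_iff_mem_range_orderOf, hω'] at hx
    simp only [Finset.mem_image, Finset.mem_range] at hx
    obtain ⟨j, hj, rfl⟩ := hx
    interval_cases j <;> simp
  have hcen : stabilizer G a ≤ Cen (ω : G) :=
    le_Cen_of_odd (P := four v w) (y := (ω : G) ^ 2) (fun g hg =>
      (hQ _ (q3 g hg _ ω.2)).resolve_left (by simpa using ω1)) (le_inf hV fun k hk => by
      have h3 : (ω : G) * k * (ω : G)⁻¹ * k⁻¹ ∈ four v w :=
        mul_mem (GT.conj_mem_of_mem_normalizer (q1 ω.2).2 hk) (inv_mem hk)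
      have h4 : (ω : G) * k * (ω : G)⁻¹ * k⁻¹ ∈ Q := by
        rw [mul_assoc (ω : G), mul_assoc (ω : G)]
        exact mul_mem ω.2 (q3 k (hV hk) _ (inv_mem ω.2))
      have h5 := eq_one_of_odd_of_mul_self (BW.odd_orderOf hQo h4) (by
        rcases h.pair.mem_four.1 h3 with e | e | e | e <;> rw [e]
        exacts [one_mul _, h.pair.sq_left, h.pair.sq_right, h.pair.mul.sq_right])
      exact mem_Cen.2 (commute_of_conj (mul_inv_eq_one.1 h5)).symm) (r := 45) (by decide)
      (by rw [cGa, K1.card_four h.pair])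
  refine AGL24.recog h.faith cG ⟨⟨fun x y => Subtype.ext (hNc _ x.2 _ y.2)⟩⟩ hsq cN (htr a)
    (fun n hn => hreg n hn a) ω3 (fun n hn hc => hreg n hn a (by_contra fun e => ω1 ?_))
    fun g hg => mem_Cen.1 (hcen hg)
  exact h.semireg q2 q3 hQo _ ω.2 _ e (fix_comm hc (q2 ω.2))

end Cfsg.Agent.Perm.KA
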