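import Mathlib
import Cfsg.Agent.Perm.KA4
import Cfsg.Agent.Sym.Aut

/-!
# Two-point stabilizer `A₄` or `A₅`: the setup
-/

set_option autoImplicit false

namespace Cfsg.Agent.Perm.KA

open Subgroup MulAction Cfsg.Agent.GW TwoCount Equiv

/-- Facts about `Aₙ` with a four-group `⟨v, w⟩`, a 3-cycle `ρ` and a transposition `τ`. -/
structure AF (n : ℕ) (v w ρ : alternatingGroup (Fin n)) (τ : Perm (Fin n)) (c β : ℕ) : Prop where
  n4 : 4 ≤ n
  n6 : n ≠ 6
  odd : Perm.sign τ = -1
  sq : τ * τ = 1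
  pair : v * v = 1 ∧ w * w = 1 ∧ v ≠ 1 ∧ w ≠ 1 ∧ v ≠ w ∧ v * w = w * v
  card : Nat.card (alternatingGroup (Fin n)) = 4 * c
  oc : Odd c
  conj : ∀ u : alternatingGroup (Fin n), u * u = 1 → u ≠ 1 →
    ∃ k : alternatingGroup (Fin n), k * v = u * k
  cen : ∀ k : alternatingGroup (Fin n), v * k = k * v → k = 1 ∨ k = v ∨ k = w ∨ k = v * w
  z : ∀ k : alternatingGroup (Fin n), v * k = k * v → ρ * k = k * ρ → k = 1
  r1 : ρ * v * ρ⁻¹ = w
  r2 : ρ * w * ρ⁻¹ = v * w
  tv : (v : Perm (Fin n)) = τ * v * τ⁻¹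
  tw : (v * w : Perm (Fin n)) = τ * w * τ⁻¹
  cls : ∀ x : alternatingGroup (Fin n), τ * x * τ * x = 1 →
    ∃ h : alternatingGroup (Fin n), (h : Perm (Fin n)) * τ = τ * x * h
  num : (Finset.univ.filter fun x : alternatingGroup (Fin n) => τ * x * τ * x = 1).card = β

theorem af4 : AF 4 ⟨swap 0 1 * swap 2 3, by simp⟩ ⟨swap 0 2 * swap 1 3, by simp⟩
    ⟨swap 1 2 * swap 2 3, by simp⟩ (swap 0 1) 3 6 where
  n4 := le_rfl
  n6 := by decide
  odd := by decide
  sq := by decide
  pair := by decide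
  card := by rw [nat_card_alternatingGroup]; simp; rfl
  oc := by decide
  conj := by decide +kernel
  cen := by decide +kernel
  z := by decide +kernel
  r1 := by decide
  r2 := by decide
  tv := by decide
  tw := by decide
  cls := by decide +kernel
  num := by decide +kernel

theorem af5 : AF 5 ⟨swap 0 1 * swap 2 3, by simp⟩ ⟨swap 0 2 * swap 1 3, by simp⟩
    ⟨swap 1 2 * swap 2 3, by simp⟩ (swap 0 1) 15 10 where
  n4 := by decide
  n6 := by decide
  odd := by decide
  sq := by decide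
  pair := by decide
  card := by rw [nat_card_alternatingGroup]; simp; rfl
  oc := by decide
  conj := by decide +kernel
  cen := by decide +kernel
  z := by decide +kernel
  r1 := by decide
  r2 := by decide
  tv := by decide
  tw := by decide
  cls := by decide +kernel
  num := by decide +kernel

variable {G Ω : Type*} [Group G] [MulAction G Ω] {a b : Ω}

theorem AF.setup {n c β : ℕ} {v w ρ : alternatingGroup (Fin n)} {τ : Perm (Fin n)}
    (f : AF n v w ρ τ c β) [FaithfulSMul G Ω] (h2 : IsMultiplyPretransitive G Ω 2) (hab : a ≠ b)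
    (e : ↥(stabilizer G a ⊓ stabilizer G b) ≃* alternatingGroup (Fin n)) :
    ∃ (m i : ℕ) (t : G), St a b (e.symm v : G) (e.symm w : G) c m i ∧
      (SC a b (e.symm v : G) (e.symm w : G) t β ∨ PC a b t) := by
  let ι : alternatingGroup (Fin n) →* G := (Subgroup.subtype _).comp e.symm.toMonoidHom
  have hι : Function.Injective ι := Subtype.val_injective.comp e.symm.injective
  have ia : ∀ x, ι x • a = a := fun x => (e.symm x).2.1
  have ib : ∀ x, ι x • b = b := fun x => (e.symm x).2.2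
  have hs : ∀ k : G, k • a = a → k • b = b → ∃ x, ι x = k := fun k h1 h2 =>
    ⟨e ⟨k, h1, h2⟩, by simp [ι]⟩
  have o2 : ∀ x, x * x = 1 → x ≠ 1 → orderOf (ι x) = 2 := fun x h1 h2 => by
    rw [orderOf_injective ι hι]; exact orderOf_eq_prime (by rw [pow_two, h1]) h2
  rw [is_two_pretransitive_iff] at h2
  obtain ⟨p1, p2, p3, p4, p5, p6⟩ := f.pair
  have hP : Pair (ι v) (ι w) :=
    ⟨o2 v p1 p3, o2 w p2 p4, fun h => p5 (hι h), (show Commute v w from p6).map ι⟩
  have hS : St a b (ι v) (ι w) c _ _ :=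
    { t2 := ⟨fun _ _ _ _ => trivial, fun x _ y _ x' _ y' _ h1 h3 => by
        obtain ⟨g, g1, g2⟩ := h2 h1 h3
        exact ⟨g, trivial, g1, g2⟩⟩
      faith := fun g hg => eq_of_smul_eq_smul (α := Ω) fun x => by rw [hg, one_smul]
      ne := hab
      pair := hP
      va := ia v
      vb := ib v
      wa := ia w
      wb := ib w
      card := (Nat.card_congr e.toEquiv).trans f.card
      odd := f.oc
      conj := fun u h1 h3 h4 => by
        obtain ⟨x, rfl⟩ := hs u h1 h3
        obtain ⟨k, hk⟩ := f.conj x (hι (by rw [map_mul, Inv.mul_self_of_two h4, map_one]))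
          fun h => Inv.ne_one_of_two h4 (by rw [h, map_one])
        exact ⟨ι k, ia k, ib k, by rw [← map_mul, hk, map_mul, mul_inv_cancel_right]⟩
      cen := fun k h1 h3 h4 => by
        obtain ⟨x, rfl⟩ := hs k h1 h3
        rw [hP.mem_four, ← map_mul, ← ι.map_one]
        simpa only [hι.eq_iff] using f.cen x (hι (by rw [map_mul, map_mul, h4.eq]))
      rho := ⟨ι ρ, ia ρ, ib ρ, by rw [← f.r1]; simp, by rw [← ι.map_mul v, ← f.r2]; simp⟩
      hm := rfl
      hi := rfl }
  obtain ⟨t₀, t1, t2⟩ := h2 hab hab.symm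
  have hK : ∀ x : G, x ∈ stabilizer G a ⊓ stabilizer G b ↔
      t₀ * x * t₀⁻¹ ∈ stabilizer G a ⊓ stabilizer G b := fun x => by
    have e1 := conj_fix (g := t₀) (x := x) (p := a)
    have e2 := conj_fix (g := t₀) (x := x) (p := b)
    rw [t1] at e1
    rw [t2] at e2
    simp only [mem_inf, mem_stabilizer_iff, e1, e2, and_comm]
  obtain ⟨σ, hσ⟩ := Sym.exists_conj_of_aut_alternating (α := Fin n) (by simpa using f.n4)
    (by simpa using f.n6) (e.symm.trans
      (((stabilizer G a ⊓ stabilizer G b).normalizerMonoidHom ⟨t₀, hK⟩).trans e))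
  have h3 : ∀ x y : alternatingGroup (Fin n), (y : Perm (Fin n)) = σ * x * σ⁻¹ →
      t₀ * ι x * t₀⁻¹ = ι y := fun x y h => by
    rw [← hσ] at h
    rw [Subtype.ext h]
    simp [ι]
    rfl
  have key : ∀ s : Perm (Fin n), s * s = 1 → Perm.sign s = Perm.sign σ → ∃ t : G, t • a = b ∧
      t • b = a ∧ orderOf t = 2 ∧ ∀ x y : alternatingGroup (Fin n),
        (y : Perm (Fin n)) = s * x * s⁻¹ → t * ι x * t⁻¹ = ι y := fun s s1 s2 => by
    let k : alternatingGroup (Fin n) := ⟨σ⁻¹ * s, by simp [s2]⟩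
    have h4 : ∀ x y : alternatingGroup (Fin n), (y : Perm (Fin n)) = s * x * s⁻¹ →
        t₀ * ι k * ι x * (t₀ * ι k)⁻¹ = ι y := fun x y h => by
      rw [← h3 (k * x * k⁻¹) y (by rw [h]; simp [k, mul_assoc])]
      simp [mul_assoc]
    have h5 : (t₀ * ι k) • a = b := by rw [mul_smul, ia, t1]
    have h6 : (t₀ * ι k) • b = a := by rw [mul_smul, ib, t2]
    refine ⟨t₀ * ι k, h5, h6, ?_, h4⟩
    generalize t₀ * ι k = t at h4 h5 h6
    obtain ⟨z, hz⟩ := hs (t * t) (by rw [mul_smul, h5, h6]) (by rw [mul_smul, h6, h5])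
    have h7 : ∀ x, x * z = z * x := fun x => hι (by
      have h8 := h4 x (MulAut.conjNormal s x) rfl
      have h9 := h4 (MulAut.conjNormal s x) x (by
        rw [MulAut.conjNormal_apply, inv_eq_of_mul_eq_one_right s1, ← mul_assoc, ← mul_assoc, s1,
          one_mul, mul_assoc, s1, mul_one])
      rw [map_mul, map_mul, hz]
      nth_rw 1 [← h9]
      rw [← h8]
      group)
    refine orderOf_eq_prime (by rw [pow_two, ← hz, f.z z (h7 v) (h7 ρ), map_one]) fun h => hab ?_
    rw [← h5, h, one_smul]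
  rcases Int.units_eq_one_or (Perm.sign σ) with h4 | h4
  · obtain ⟨t, ta, -, tt, h5⟩ := key 1 (one_mul 1) (by simp [h4])
    refine ⟨_, _, t, hS, Or.inr ⟨tt, ta, fun k h6 h7 => ?_⟩⟩
    obtain ⟨x, rfl⟩ := hs k h6 h7
    exact (commute_of_conj (h5 x x (by simp))).symm
  obtain ⟨t, ta, tb, tt, h5⟩ := key τ f.sq (by rw [h4, f.odd])
  have ti := inv_eq_of_mul_eq_one_right (Inv.mul_self_of_two tt)
  have τi := inv_eq_of_mul_eq_one_right f.sq
  have h6 : ∀ x : alternatingGroup (Fin n), t * ι x * (t * ι x) = 1 ↔ τ * x * τ * x = 1 := fun x => by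
    have := h5 x (MulAut.conjNormal τ x) rfl
    rw [ti] at this
    rw [← mul_assoc, this, ← map_mul, map_eq_one_iff _ hι, Subtype.ext_iff, coe_mul,
      MulAut.conjNormal_apply, τi, coe_one]
  have h7 : ∀ u : G, orderOf u = 2 → u • a = b → ∃ x, t * ι x = u := fun u hu ua => by
    have ub : u • b = a := by rw [← ua, ← mul_smul, Inv.mul_self_of_two hu, one_smul]
    obtain ⟨x, hx⟩ := hs (t * u) (by rw [mul_smul, ua, tb]) (by rw [mul_smul, ub, ta])
    exact ⟨x, by rw [hx, ← mul_assoc, Inv.mul_self_of_two tt, one_mul]⟩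
  refine ⟨_, _, t, hS, Or.inl ⟨tt, ta, commute_of_conj (h5 v v f.tv),
    (h5 w (v * w) f.tw).trans (map_mul ι v w), fun u hu ua => ?_, ?_⟩⟩
  · obtain ⟨x, rfl⟩ := h7 u hu ua
    obtain ⟨k, hk⟩ := f.cls x ((h6 x).1 (Inv.mul_self_of_two hu))
    refine isConj_iff.2 ⟨ι k, ?_⟩
    have := h5 k (x * k) (by
      rw [coe_mul, τi, mul_assoc τ, hk, ← mul_assoc, ← mul_assoc, f.sq, one_mul])
    rw [map_mul, ti] at this
    rw [mul_inv_eq_iff_eq_mul, mul_assoc, ← this, ← mul_assoc, ← mul_assoc,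
      Inv.mul_self_of_two tt, one_mul]
  · rw [← f.num, ← Set.ncard_coe_finset, ← Set.ncard_image_of_injective _
      (show Function.Injective fun x => t * ι x from fun x y h => hι (mul_left_cancel h))]
    congr 1
    ext u
    refine ⟨fun hu => ?_, ?_⟩
    · obtain ⟨x, rfl⟩ := h7 u hu.1 hu.2
      exact ⟨x, by simpa using (h6 x).1 (Inv.mul_self_of_two hu.1), rfl⟩
    · rintro ⟨x, hx, rfl⟩
      have h8 : (t * ι x) • a = b := by rw [mul_smul, ia, ta]
      refine ⟨orderOf_eq_prime (by rw [pow_two, h6]; simpa using hx) fun h => hab ?_, h8⟩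
      rw [← h8, show t * ι x = 1 from h, one_smul]

end Cfsg.Agent.Perm.KA
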