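import Mathlib
import Cfsg.Agent.Perm.Basic
import Cfsg.Agent.Perm.FixTools

/-! Tools for 2-transitive groups of degree `p^2+1`: a linear-space bound and a Schur-ring lemma. -/

set_option autoImplicit false

namespace Cfsg.Agent.Perm.Dbl

open MulAction

section design

variable {G Ω : Type*} [Group G] [MulAction G Ω]

theorem inv_mem_of_mapsTo {B : Set Ω} (hB : B.Finite) {g : G} (h : ∀ y ∈ B, g • y ∈ B) :
    ∀ y ∈ B, g⁻¹ • y ∈ B := by
  have hm : Set.MapsTo (fun y => g • y) B B := h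
  have hinj : Set.InjOn (fun y : Ω => g • y) B := fun x _ y _ hxy => MulAction.injective g hxy
  have hbij := (hB.injOn_iff_bijOn_of_mapsTo hm).1 hinj
  intro y hy
  obtain ⟨x, hx, rfl⟩ := hbij.surjOn hy
  simpa using hx

/-- If every element carrying the pair `(a, b)` into `B` stabilises `B`, the images of `B` form a
linear space, so `|B| (|B| - 1) ≤ |Ω| - 1` unless `B` is everything. -/
theorem design_bound [Finite Ω] (h2 : IsMultiplyPretransitive G Ω 2) {B : Set Ω} {a b : Ω}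
    (hab : a ≠ b) (ha : a ∈ B)
    (hB : ∀ g : G, g • a ∈ B → g • b ∈ B → ∀ y ∈ B, g • y ∈ B) (hb : b ∈ B) {x : Ω}
    (hx : x ∉ B) : B.ncard * (B.ncard - 1) ≤ Nat.card Ω - 1 := by
  classical
  have hfin : B.Finite := Set.toFinite B
  have hB' : ∀ (g : G) (u v : Ω), u ≠ v → u ∈ B → v ∈ B → g • u ∈ B → g • v ∈ B →
      ∀ y ∈ B, g • y ∈ B := by
    intro g u v huv hu hv hgu hgv y hy
    obtain ⟨m, hm1, hm2⟩ := exists_smul_eq_two h2 hab huv
    have hm : ∀ y ∈ B, m • y ∈ B := hB m (hm1 ▸ hu) (hm2 ▸ hv)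
    have h1 := hB (g * m) (by rw [mul_smul, hm1]; exact hgu) (by rw [mul_smul, hm2]; exact hgv)
      (m⁻¹ • y) (inv_mem_of_mapsTo hfin hm y hy)
    rwa [mul_smul, smul_inv_smul] at h1
  have hex : ∀ y : B, ∃ g : G, g • a = x ∧ g • b = y := fun y =>
    exists_smul_eq_two h2 hab (fun h => hx (h ▸ y.2))
  choose g hg1 hg2 using hex
  let F : B × ↥(B \ {a}) → ↥({x}ᶜ : Set Ω) := fun q => ⟨g q.1 • (q.2 : Ω), by
    intro h
    have h' : g q.1 • (q.2 : Ω) = g q.1 • a := by rw [hg1]; exact h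
    exact q.2.2.2 (MulAction.injective _ h')⟩
  have hF : Function.Injective F := by
    rintro ⟨y, w⟩ ⟨y', w'⟩ h
    have h' : g y • (w : Ω) = g y' • (w' : Ω) := congrArg Subtype.val h
    by_cases hyy : y = y'
    · subst hyy
      have : (w : Ω) = w' := MulAction.injective _ h'
      rw [Subtype.ext this]
    · exfalso
      have hk : ∀ z ∈ B, ((g y')⁻¹ * g y) • z ∈ B := by
        apply hB' _ a w (fun h => w.2.2 h.symm) ha w.2.1
        · rw [mul_smul, hg1, ← hg1 y', inv_smul_smul]; exact ha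
        · rw [mul_smul, h', inv_smul_smul]; exact w'.2.1
      have h3 : ∀ z ∈ B, (g y')⁻¹ • z ∈ B := by
        apply hB' _ y y' (fun h => hyy (Subtype.ext h)) y.2 y'.2
        · have := hk b hb
          rwa [mul_smul, hg2] at this
        · rw [← hg2 y', inv_smul_smul]; exact hb
      have h4 := inv_mem_of_mapsTo hfin h3 a ha
      rw [inv_inv, hg1] at h4
      exact hx h4
  have hc := Nat.card_le_card_of_injective F hF
  rw [Nat.card_prod, Nat.card_coe_set_eq, Nat.card_coe_set_eq, Nat.card_coe_set_eq,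
    Set.ncard_sdiff_singleton_of_mem ha, Set.ncard_compl, Set.ncard_singleton] at hc
  exact hc

/-- A subset `Δ` of size `p` that is a block for the stabiliser of `α`. -/
structure Blk (G : Type*) {Ω : Type*} [Group G] [MulAction G Ω] (p : ℕ) (α : Ω) (Δ : Set Ω) :
    Prop where
  notMem : α ∉ Δ
  card : Δ.ncard = p
  blk : ∀ g : G, g • α = α → ∀ x ∈ Δ, g • x ∈ Δ → ∀ y ∈ Δ, g • y ∈ Δ

theorem exists_notMem [Finite Ω] {p : ℕ} (hp : 2 ≤ p) (hΩ : Nat.card Ω = p ^ 2 + 1) {B : Set Ω}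
    (hB : B.ncard = p + 1) : ∃ x, x ∉ B := by
  by_contra h
  push Not at h
  have : B = Set.univ := Set.eq_univ_of_forall h
  rw [this, Set.ncard_univ, hΩ] at hB
  nlinarith

/-- The setwise stabiliser of `{α} ∪ Δ` fixes `α`. -/
theorem Blk.fix [Finite Ω] {p : ℕ} (hp : 2 ≤ p) (hΩ : Nat.card Ω = p ^ 2 + 1)
    (h2 : IsMultiplyPretransitive G Ω 2) {α : Ω} {Δ : Set Ω} (h : Blk G p α Δ) {s : G}
    (hs : ∀ y ∈ insert α Δ, s • y ∈ insert α Δ) : s • α = α := by
  by_contra hsα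
  have hfin : (insert α Δ).Finite := Set.toFinite _
  have hne : Δ.Nonempty := Set.nonempty_of_ncard_ne_zero (by rw [h.card]; omega)
  obtain ⟨β, hβ⟩ := hne
  have hαβ : α ≠ β := fun e => h.notMem (e ▸ hβ)
  have hsΔ : s • α ∈ Δ := by
    rcases hs α (Set.mem_insert _ _) with h1 | h1
    · exact absurd h1 hsα
    · exact h1
  have hfixα : ∀ g : G, g • α = α → g • β ∈ insert α Δ → ∀ y ∈ insert α Δ, g • y ∈ insert α Δ := by
    intro g hg hgβ y hy
    rcases hy with rfl | hy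
    · rw [hg]; exact Set.mem_insert _ _
    · rcases hgβ with h1 | h1
      · exact absurd (MulAction.injective g (h1.trans hg.symm)) hαβ.symm
      · exact Set.mem_insert_of_mem _ (h.blk g hg β hβ h1 y hy)
  have hcard : (insert α Δ).ncard = p + 1 := by
    rw [Set.ncard_insert_of_notMem h.notMem, h.card]
  obtain ⟨x, hx⟩ := exists_notMem hp hΩ hcard
  have key := design_bound h2 hαβ (Set.mem_insert _ _) (B := insert α Δ) (by
    intro g hgα hgβ
    rcases hgα with h1 | h1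
    · exact hfixα g h1 hgβ
    · obtain ⟨m, hm1, hm2⟩ := exists_smul_eq_two h2 (a := α) (b := s • α) (c := α) (d := g • α)
        (Ne.symm hsα) (fun e => h.notMem (e ▸ h1))
      have hm : ∀ y ∈ insert α Δ, m • y ∈ insert α Δ := by
        intro y hy
        rcases hy with rfl | hy
        · rw [hm1]; exact Set.mem_insert _ _
        · exact Set.mem_insert_of_mem _ (h.blk m hm1 _ hsΔ (hm2 ▸ h1) y hy)
      have hms : ∀ y ∈ insert α Δ, (m * s) • y ∈ insert α Δ := fun y hy => by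
        rw [mul_smul]; exact hm _ (hs y hy)
      have h5 := hfixα ((m * s)⁻¹ * g)
        (by rw [mul_smul, ← hm2, ← mul_smul m s, inv_smul_smul])
        (by rw [mul_smul]; exact inv_mem_of_mapsTo hfin hms _ hgβ)
      intro y hy
      have h6 := hms _ (h5 y hy)
      rwa [← mul_smul, mul_inv_cancel_left] at h6) (Set.mem_insert_of_mem _ hβ) hx
  rw [hcard, hΩ] at key
  simp only [Nat.add_sub_cancel] at key
  nlinarith

/-- Two-point stabilisers contain no nontrivial `p`-element. -/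
theorem Blk.pelt [Finite G] [Finite Ω] [FaithfulSMul G Ω] {p : ℕ} [hp : Fact p.Prime]
    (hΩ : Nat.card Ω = p ^ 2 + 1)
    (h2 : IsMultiplyPretransitive G Ω 2) {α : Ω} {Δ : Set Ω} (h : Blk G p α Δ) {a b : Ω}
    (hab : a ≠ b) {g : G} (hga : g • a = a) (hgb : g • b = b) {k : ℕ} (hk : g ^ p ^ k = 1) :
    g = 1 := by
  have hp2 := hp.out.two_le
  have hne : Δ.Nonempty := Set.nonempty_of_ncard_ne_zero (by rw [h.card]; omega)
  obtain ⟨β, hβ⟩ := hne
  have hαβ : α ≠ β := fun e => h.notMem (e ▸ hβ)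
  let B : Set Ω := {y | ∀ r : G, r • α = α → r • β = β → (∃ k, r ^ p ^ k = 1) → r • y = y}
  have hsub : insert α Δ ⊆ B := by
    intro y hy r hrα hrβ ⟨j, hj⟩
    rcases hy with rfl | hy
    · exact hrα
    by_cases hyβ : y = β
    · rw [hyβ]; exact hrβ
    have hpg : IsPGroup p (Subgroup.zpowers r) := by
      rw [IsPGroup.iff_card, Nat.card_zpowers]
      obtain ⟨i, -, hi⟩ := (Nat.dvd_prime_pow hp.out).1 (orderOf_dvd_of_pow_eq_one hj)
      exact ⟨i, hi⟩
    have hle : Subgroup.zpowers r ≤ stabilizer G α ⊓ stabilizer G β := by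
      rw [Subgroup.zpowers_le]; exact ⟨hrα, hrβ⟩
    refine Fx.smul_eq_of_card_lt hpg (Δ \ {β}) ?_ ?_ r (Subgroup.mem_zpowers r) y ⟨hy, hyβ⟩
    · intro t ht x hx
      have ht1 : t • α = α := (hle ht).1
      have ht2 : t • β = β := (hle ht).2
      refine ⟨h.blk t ht1 β hβ (ht2.symm ▸ hβ) x hx.1, ?_⟩
      intro e
      exact hx.2 (MulAction.injective t ((Set.mem_singleton_iff.1 e).trans ht2.symm))
    · rw [Nat.card_coe_set_eq, Set.ncard_sdiff_singleton_of_mem hβ, h.card]; omega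
  have hB : ∀ y, y ∈ B := by
    by_contra hcon
    push Not at hcon
    obtain ⟨x, hx⟩ := hcon
    have key := design_bound h2 hαβ (hsub (Set.mem_insert _ _)) (B := B) (by
      intro t htα htβ y hy r hrα hrβ ⟨j, hj⟩
      have h1 := hy (t⁻¹ * r * t)
        (by rw [mul_smul, mul_smul, htα r hrα hrβ ⟨j, hj⟩, inv_smul_smul])
        (by rw [mul_smul, mul_smul, htβ r hrα hrβ ⟨j, hj⟩, inv_smul_smul])
        ⟨j, by
          have : t⁻¹ * r * t = t⁻¹ * r * t⁻¹⁻¹ := by rw [inv_inv]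
          rw [this, conj_pow, hj]; simp⟩
      rw [mul_smul, mul_smul, inv_smul_eq_iff] at h1
      exact h1) (hsub (Set.mem_insert_of_mem _ hβ)) hx
    have hcard : p + 1 ≤ B.ncard := by
      have := Set.ncard_le_ncard hsub (Set.toFinite _)
      rwa [Set.ncard_insert_of_notMem h.notMem, h.card] at this
    rw [hΩ] at key
    simp only [Nat.add_sub_cancel] at key
    have : (p + 1) * p ≤ B.ncard * (B.ncard - 1) := Nat.mul_le_mul hcard (by omega)
    nlinarith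
  obtain ⟨m, hm1, hm2⟩ := exists_smul_eq_two h2 hαβ hab
  have h1 : m⁻¹ * g * m = 1 := by
    apply eq_one_of_smul_eq (X := Ω)
    intro y
    apply hB y
    · rw [mul_smul, mul_smul, hm1, hga, ← hm1, inv_smul_smul]
    · rw [mul_smul, mul_smul, hm2, hgb, ← hm2, inv_smul_smul]
    · refine ⟨k, ?_⟩
      have : m⁻¹ * g * m = m⁻¹ * g * m⁻¹⁻¹ := by rw [inv_inv]
      rw [this, conj_pow, hk]; simp
  have : g = m * (m⁻¹ * g * m) * m⁻¹ := by group
  rw [this, h1]; simp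

end design

section sring

variable {p : ℕ} [hp : Fact p.Prime]

/-- Convolution of integer functions on `ZMod p × ZMod p`. -/
def conv (f g : ZMod p × ZMod p → ℤ) (w : ZMod p × ZMod p) : ℤ := ∑ u, f u * g (w - u)

/-- Fourier coefficient in the second coordinate. -/
noncomputable def four (ζ : ℂ) (f : ZMod p × ZMod p → ℤ) : ℂ := ∑ u, (f u : ℂ) * ζ ^ u.2.val

theorem pow_val_add {ζ : ℂ} (hζ : ζ ^ p = 1) (a b : ZMod p) :
    ζ ^ (a + b).val = ζ ^ a.val * ζ ^ b.val := by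
  rw [← pow_add, ZMod.val_add, ← pow_mod_natCard_aux]
  where
  pow_mod_natCard_aux : ζ ^ ((a.val + b.val) % p) = ζ ^ (a.val + b.val) := by
    conv_rhs => rw [← Nat.mod_add_div (a.val + b.val) p, pow_add, pow_mul, hζ, one_pow, mul_one]

theorem four_conv {ζ : ℂ} (hζ : ζ ^ p = 1) (f g : ZMod p × ZMod p → ℤ) :
    four ζ (conv f g) = four ζ f * four ζ g := by
  unfold four conv
  simp only [Int.cast_sum, Int.cast_mul, Finset.sum_mul]
  rw [Finset.sum_comm]
  refine Finset.sum_congr rfl fun u _ => ?_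
  rw [Finset.mul_sum]
  rw [← Equiv.sum_comp (Equiv.addRight u)]
  refine Finset.sum_congr rfl fun w _ => ?_
  simp only [Equiv.coe_addRight, add_sub_cancel_right, Prod.snd_add, pow_val_add hζ]
  ring

theorem sum_root_iff {ζ : ℂ} (hζ : IsPrimitiveRoot ζ p) (c : ZMod p → ℚ) :
    ∑ a, (c a : ℂ) * ζ ^ a.val = 0 ↔ ∀ i j, c i = c j := by
  have hpp := hp.out
  obtain ⟨n, rfl⟩ : ∃ n, p = n + 1 := ⟨p - 1, by have := hpp.pos; omega⟩
  exact hζ.sum_eq_zero_iff_forall_eq hpp c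

theorem four_supp (ζ : ℂ) {f : ZMod p × ZMod p → ℤ} {i : ZMod p} (hf : ∀ x, x.1 ≠ i → f x = 0) :
    four ζ f = ∑ a : ZMod p, (f (i, a) : ℂ) * ζ ^ a.val := by
  unfold four
  rw [Fintype.sum_prod_type, Finset.sum_eq_single i]
  · intro j _ hj
    refine Finset.sum_eq_zero fun a _ => ?_
    rw [hf (j, a) hj]; simp
  · simp

theorem conv_supp {f g : ZMod p × ZMod p → ℤ} {i j : ZMod p} (hf : ∀ x, x.1 ≠ i → f x = 0)
    (hg : ∀ x, x.1 ≠ j → g x = 0) : ∀ x, x.1 ≠ i + j → conv f g x = 0 := by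
  intro x hx
  refine Finset.sum_eq_zero fun u _ => ?_
  by_cases hu : u.1 = i
  · rw [hg (x - u), mul_zero]
    intro h
    apply hx
    rw [← hu, ← h]; simp
  · rw [hf u hu, zero_mul]

theorem conv_inv {Γ : Set (Equiv.Perm (ZMod p × ZMod p))}
    (hcl : ∀ k ∈ Γ, ∀ u, ∃ k' ∈ Γ, ∀ x, k' x = k (x + u) - k u) {f g : ZMod p × ZMod p → ℤ}
    (hf : ∀ k ∈ Γ, ∀ x, f (k x) = f x) (hg : ∀ k ∈ Γ, ∀ x, g (k x) = g x) :
    ∀ k ∈ Γ, ∀ x, conv f g (k x) = conv f g x := by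
  intro k hk w
  unfold conv
  rw [← Equiv.sum_comp k]
  refine Finset.sum_congr rfl fun u _ => ?_
  obtain ⟨k', hk', h⟩ := hcl k hk u
  rw [hf k hk, ← hg k' hk' (w - u), h, sub_add_cancel]

theorem four_int {ζ : ℂ} (hζ : IsPrimitiveRoot ζ p) {Γ : Set (Equiv.Perm (ZMod p × ZMod p))}
    (htr : ∀ a b : ZMod p, a ≠ 0 → b ≠ 0 → ∃ k ∈ Γ, k (0, a) = (0, b))
    {f : ZMod p × ZMod p → ℤ} (hf : ∀ k ∈ Γ, ∀ x, f (k x) = f x) (hs : ∀ x, x.1 ≠ 0 → f x = 0) :
    ∃ m : ℤ, four ζ f = m := by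
  refine ⟨f (0, 0) - f (0, 1), ?_⟩
  rw [four_supp ζ hs]
  have h0 := (sum_root_iff hζ (fun _ => (f (0, 1) : ℚ))).2 (fun _ _ => rfl)
  have h1 : ∀ a : ZMod p, (f (0, a) : ℂ) * ζ ^ a.val =
      (((f (0, 1) : ℚ) : ℂ)) * ζ ^ a.val + if a = 0 then ((f (0, 0) - f (0, 1) : ℤ) : ℂ) else 0 := by
    intro a
    split_ifs with ha
    · subst ha; simp
    · obtain ⟨k, hk, h⟩ := htr 1 a one_ne_zero ha
      rw [← h, hf k hk]; simp
  simp only [h1, Finset.sum_add_distrib, h0]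
  simp

/-- Schur-ring lemma: an invariant function supported on the coset `{1} × ZMod p` is constant away
from one point. -/
theorem sring (hp2 : p ≠ 2) {Γ : Set (Equiv.Perm (ZMod p × ZMod p))} (h0 : ∀ k ∈ Γ, k 0 = 0)
    (hcl : ∀ k ∈ Γ, ∀ u, ∃ k' ∈ Γ, ∀ x, k' x = k (x + u) - k u)
    (htr : ∀ a b : ZMod p, a ≠ 0 → b ≠ 0 → ∃ k ∈ Γ, k (0, a) = (0, b))
    {f : ZMod p × ZMod p → ℤ} (hf : ∀ k ∈ Γ, ∀ x, f (k x) = f x) (hs : ∀ x, x.1 ≠ 1 → f x = 0) :
    ∃ j, ∀ a b, a ≠ j → b ≠ j → f (1, a) = f (1, b) := by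
  have hpp := hp.out
  obtain ⟨ζ, hζ⟩ : ∃ ζ : ℂ, IsPrimitiveRoot ζ p := ⟨_, Complex.isPrimitiveRoot_exp p hpp.ne_zero⟩
  have hζp := hζ.pow_eq_one
  have hit : ∀ n : ℕ, ∃ F : ZMod p × ZMod p → ℤ, (∀ k ∈ Γ, ∀ x, F (k x) = F x) ∧
      (∀ x, x.1 ≠ ((n + 1 : ℕ) : ZMod p) → F x = 0) ∧ four ζ F = four ζ f ^ (n + 1) := by
    intro n
    induction n with
    | zero => exact ⟨f, hf, by simpa using hs, by simp⟩
    | succ n ih =>
      obtain ⟨F, h1, h2, h3⟩ := ih
      refine ⟨conv F f, conv_inv hcl h1 hf, ?_, by rw [four_conv hζp, h3, ← pow_succ]⟩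
      have := conv_supp h2 hs
      rwa [← Nat.cast_succ] at this
  obtain ⟨m, hm⟩ : ∃ m : ℤ, four ζ f ^ p = m := by
    obtain ⟨F, h1, h2, h3⟩ := hit (p - 1)
    rw [Nat.sub_add_cancel hpp.one_le] at h2 h3
    rw [ZMod.natCast_self] at h2
    obtain ⟨m, hm⟩ := four_int hζ htr h1 h2
    exact ⟨m, h3 ▸ hm⟩
  have hstar : four ζ (fun x => f (-x)) = (starRingEnd ℂ) (four ζ f) := by
    unfold four
    rw [map_sum, ← Equiv.sum_comp (Equiv.neg _)]
    refine Finset.sum_congr rfl fun u _ => ?_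
    simp only [Equiv.neg_apply, neg_neg, map_mul, map_intCast, Prod.snd_neg]
    congr 1
    have h1 : ζ ^ (-u.2).val * ζ ^ u.2.val = 1 := by
      rw [← pow_val_add hζp, neg_add_cancel, ZMod.val_zero, pow_zero]
    have h2 : ‖ζ ^ u.2.val‖ = 1 := by
      rw [norm_pow, Complex.norm_eq_one_of_pow_eq_one hζp hpp.ne_zero, one_pow]
    rw [← Complex.inv_eq_conj h2]
    exact eq_inv_of_mul_eq_one_left h1
  obtain ⟨n, hn⟩ : ∃ n : ℤ, four ζ f * (starRingEnd ℂ) (four ζ f) = n := by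
    have h1 : ∀ k ∈ Γ, ∀ x, (fun x => f (-x)) (k x) = (fun x => f (-x)) x := by
      intro k hk x
      obtain ⟨k', hk', h⟩ := hcl k hk x
      have := hf k' hk' (-x)
      rw [h, neg_add_cancel, h0 k hk, zero_sub] at this
      exact this
    have h2 : ∀ x : ZMod p × ZMod p, x.1 ≠ -1 → (fun x => f (-x)) x = 0 := by
      intro x hx
      apply hs
      intro h
      apply hx
      rw [← h]; simp
    have h3 := conv_supp hs h2
    rw [add_neg_cancel] at h3
    obtain ⟨n, hn⟩ := four_int hζ htr (conv_inv hcl hf h1) h3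
    exact ⟨n, by rw [← hn, four_conv hζp, hstar]⟩
  set θ := four ζ f with hθ
  obtain ⟨j, u, hu⟩ : ∃ (j : ZMod p) (u : ℚ), θ = u * ζ ^ j.val := by
    by_cases hθ0 : θ = 0
    · exact ⟨0, 0, by simp [hθ0]⟩
    have hn0 : (n : ℂ) ≠ 0 := by
      rw [← hn]; exact mul_ne_zero hθ0 (by simpa using hθ0)
    have hm0 : (m : ℂ) ≠ 0 := by rw [← hm]; exact pow_ne_zero _ hθ0
    obtain ⟨t, ht⟩ := hpp.odd_of_ne_two hp2
    have hmn : (m : ℂ) ^ 2 = (n : ℂ) ^ p := by
      rw [← hn, mul_pow, ← map_pow, hm, map_intCast, sq]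
    have hu : ((((m : ℚ) / (n : ℚ) ^ t : ℚ)) : ℂ) = (m : ℂ) / (n : ℂ) ^ t := by push_cast; rfl
    set u : ℂ := (m : ℂ) / (n : ℂ) ^ t with hudef
    have hu0 : u ≠ 0 := div_ne_zero hm0 (pow_ne_zero _ hn0)
    have hu2 : u ^ 2 = n := by
      rw [hudef, div_pow, hmn, ht]; field_simp; ring
    have hup : u ^ p = m := by
      rw [ht, pow_succ, pow_mul, hu2, hudef]; field_simp
    have hω : (θ / u) ^ p = 1 := by rw [div_pow, hm, hup, div_self hm0]
    have : NeZero p := ⟨hpp.ne_zero⟩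
    obtain ⟨i, hi, h⟩ := hζ.eq_pow_of_pow_eq_one hω
    refine ⟨(i : ZMod p), (m : ℚ) / (n : ℚ) ^ t, ?_⟩
    rw [hu, ZMod.val_cast_of_lt hi, h]; field_simp
  refine ⟨j, fun a b ha hb => ?_⟩
  have key := (sum_root_iff hζ (fun a => (f (1, a) : ℚ) - if a = j then u else 0)).1 (by
    have h1 : ∀ a : ZMod p, ((((f (1, a) : ℚ) - if a = j then u else 0 : ℚ)) : ℂ) * ζ ^ a.val =
        (f (1, a) : ℂ) * ζ ^ a.val - if a = j then (u : ℂ) * ζ ^ j.val else 0 := by
      intro a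
      split_ifs with h
      · subst h; push_cast; ring
      · push_cast; ring
    simp only [h1, Finset.sum_sub_distrib, ← four_supp ζ hs]
    rw [← hθ, hu]; simp) a b
  simp only [ha, hb, if_false, sub_zero] at key
  exact_mod_cast key

end sring

end Cfsg.Agent.Perm.Dbl
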