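import Mathlib
import Cfsg.Agent.Perm.DblA
import Cfsg.Agent.Perm.PrimeDegree2

/-! 2-transitive groups of degree `p^2+1` with imprimitive point stabiliser: the basic setup. -/

set_option autoImplicit false

namespace Cfsg.Agent.Perm.Dbl

open MulAction

variable {G Ω : Type*} [Group G] [MulAction G Ω]

/-- Basic setup: `P` is a subgroup of order `p^2` of the stabiliser of `α`. -/
structure St (p : ℕ) (α β : Ω) (P : Subgroup G) : Prop where
  hΩ : Nat.card Ω = p ^ 2 + 1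
  h2 : IsMultiplyPretransitive G Ω 2
  ne : α ≠ β
  p2 : p ≠ 2
  nop : ∀ a b : Ω, a ≠ b → ∀ g : G, g • a = a → g • b = b → ∀ k : ℕ, g ^ p ^ k = 1 → g = 1
  fixP : ∀ u ∈ P, u • α = α
  cardP : Nat.card P = p ^ 2

/-- The orbits of `Z` form a system of blocks for the stabiliser of `α`. -/
structure Sys (p : ℕ) (α : Ω) (P Z : Subgroup G) : Prop where
  le : Z ≤ P
  card : Nat.card Z = p
  perm : ∀ g : G, g • α = α → ∀ x : Ω, ∀ z ∈ Z, ∃ z' ∈ Z, g • z • x = z' • g • x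

/-- Orbit of a point under a subgroup. -/
def orb (Z : Subgroup G) (x : Ω) : Set Ω := {y | ∃ z ∈ Z, z • x = y}

/-- Elements fixing every `Z`-orbit. -/
def kerS (Ω : Type*) [MulAction G Ω] (Z : Subgroup G) : Subgroup G where
  carrier := {g | ∀ x : Ω, ∃ z ∈ Z, g • x = z • x}
  one_mem' := fun x => ⟨1, Z.one_mem, rfl⟩
  mul_mem' := by
    intro g h hg hh x
    obtain ⟨z, hz, e⟩ := hh x
    obtain ⟨z', hz', e'⟩ := hg (z • x)
    exact ⟨z' * z, Z.mul_mem hz' hz, by rw [mul_smul, e, e', mul_smul]⟩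
  inv_mem' := by
    intro g hg x
    obtain ⟨z, hz, e⟩ := hg (g⁻¹ • x)
    refine ⟨z⁻¹, Z.inv_mem hz, ?_⟩
    rw [smul_inv_smul] at e
    rw [eq_inv_smul_iff, ← e]

theorem mem_kerS {Z : Subgroup G} {g : G} : g ∈ kerS Ω Z ↔ ∀ x : Ω, ∃ z ∈ Z, g • x = z • x :=
  Iff.rfl

theorem le_kerS (Z : Subgroup G) : Z ≤ kerS Ω Z := fun z hz _ => ⟨z, hz, rfl⟩

theorem mem_orb_self (Z : Subgroup G) (x : Ω) : x ∈ orb Z x := ⟨1, Z.one_mem, one_smul _ _⟩

theorem prime_sub {p : ℕ} (hp : p.Prime) {T Z : Subgroup G} (hTZ : T ≤ Z) (hZ : Nat.card Z = p) :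
    T = ⊥ ∨ T = Z := by
  have : Finite Z := Nat.finite_of_card_ne_zero (by rw [hZ]; exact hp.ne_zero)
  have h := Subgroup.card_dvd_of_le hTZ
  rw [hZ, Nat.dvd_prime hp] at h
  rcases h with h | h
  · exact Or.inl (Subgroup.card_eq_one.1 h)
  · exact Or.inr (Subgroup.eq_of_le_of_card_ge hTZ (by rw [h, hZ]))

variable {p : ℕ} [hp : Fact p.Prime] {α β : Ω} {P Z : Subgroup G}

namespace St

theorem comm (h : St p α β P) {u v : G} (hu : u ∈ P) (hv : v ∈ P) : u * v = v * u := by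
  have := IsPGroup.commutative_of_card_eq_prime_sq h.cardP ⟨u, hu⟩ ⟨v, hv⟩
  exact congrArg Subtype.val this

omit hp in
theorem pow_eq (h : St p α β P) {u : G} (hu : u ∈ P) : u ^ p ^ 2 = 1 := by
  have := pow_card_eq_one' (G := P) (x := ⟨u, hu⟩)
  rw [h.cardP] at this
  exact congrArg Subtype.val this

omit hp in
theorem semi (h : St p α β P) {u : G} (hu : u ∈ P) {x : Ω} (hx : x ≠ α) (e : u • x = x) : u = 1 :=
  h.nop α x hx.symm u (h.fixP u hu) e 2 (h.pow_eq hu)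

omit hp in
theorem inj (h : St p α β P) {u v : G} (hu : u ∈ P) (hv : v ∈ P) {x : Ω} (hx : x ≠ α)
    (e : u • x = v • x) : u = v := by
  have := h.semi (P.mul_mem (P.inv_mem hv) hu) hx (by rw [mul_smul, e, inv_smul_smul])
  rw [inv_mul_eq_one] at this
  exact this.symm

omit hp in
theorem smul_ne {g : G} (hg : g • α = α) {x : Ω} (hx : x ≠ α) : g • x ≠ α := fun e =>
  hx (MulAction.injective g (e.trans hg.symm))

omit hp in
theorem trans [Finite Ω] (h : St p α β P) {x y : Ω} (hx : x ≠ α) (hy : y ≠ α) :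
    ∃ u ∈ P, u • x = y := by
  let F : P → ↥({α}ᶜ : Set Ω) := fun u => ⟨(u : G) • x, smul_ne (h.fixP u u.2) hx⟩
  have hF : Function.Injective F := fun u v e =>
    Subtype.ext (h.inj u.2 v.2 hx (congrArg Subtype.val e))
  have hb := hF.bijective_of_nat_card_le (by
    rw [Nat.card_coe_set_eq, Set.ncard_compl, Set.ncard_singleton, h.hΩ, h.cardP]; simp)
  obtain ⟨u, hu⟩ := hb.2 ⟨y, hy⟩
  exact ⟨u, u.2, congrArg Subtype.val hu⟩

theorem not_dvd [Finite G] (h : St p α β P) {N : Subgroup G} {a b : Ω} (hab : a ≠ b)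
    (hN : ∀ n ∈ N, n • a = a ∧ n • b = b) : ¬ p ∣ Nat.card N := by
  intro hd
  obtain ⟨g, hg⟩ := exists_prime_orderOf_dvd_card' (G := N) p hd
  have h1 : (g : G) ^ p ^ 1 = 1 := by
    rw [pow_one, ← hg]; exact congrArg Subtype.val (pow_orderOf_eq_one g)
  have h2 := h.nop a b hab g (hN g g.2).1 (hN g g.2).2 1 h1
  have : g = 1 := Subtype.ext h2
  rw [this, orderOf_one] at hg
  exact hp.out.one_lt.ne hg

theorem sub_cases (h : St p α β P) {W : Subgroup G} (hW : W ≤ P) :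
    W = ⊥ ∨ Nat.card W = p ∨ W = P := by
  have : Finite P := Nat.finite_of_card_ne_zero (by rw [h.cardP]; exact pow_ne_zero _ hp.out.ne_zero)
  have hd := Subgroup.card_dvd_of_le hW
  rw [h.cardP, Nat.dvd_prime_pow hp.out] at hd
  obtain ⟨i, hi, e⟩ := hd
  interval_cases i
  · exact Or.inl (Subgroup.card_eq_one.1 (by simpa using e))
  · exact Or.inr (Or.inl (by simpa using e))
  · exact Or.inr (Or.inr (Subgroup.eq_of_le_of_card_ge hW (by rw [e, h.cardP])))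

theorem eq_of_lt (h : St p α β P) {W : Subgroup G} (hW : W ≤ P) (hZ : Nat.card Z = p)
    (hZW : Z ≤ W) {u : G} (hu : u ∈ W) (huZ : u ∉ Z) : W = P := by
  rcases h.sub_cases hW with e | e | e
  · exact absurd (by rw [e] at hu; rw [Subgroup.mem_bot.1 hu]; exact Z.one_mem) huZ
  · have : Finite W := Nat.finite_of_card_ne_zero (by rw [e]; exact hp.out.ne_zero)
    exact absurd (by rw [Subgroup.eq_of_le_of_card_ge hZW (by rw [e, hZ])]; exact hu) huZ
  · exact e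

omit hp in
/-- A `p`-element normalising `W` and moving `β` inside its `W`-orbit lies in `W`. -/
theorem mem_of_norm (h : St p α β P) {W : Subgroup G} (hW : W ≤ P) {v : G} (hv : v • α = α)
    (hn : ∀ w ∈ W, v * w * v⁻¹ ∈ W) {k : ℕ} (hk : v ^ p ^ k = 1) {w : G} (hw : w ∈ W)
    (e : v • β = w • β) : v ∈ W := by
  have h1 : ∀ n : ℕ, ∃ y ∈ W, (w⁻¹ * v) ^ n = y * v ^ n := by
    intro n
    induction n with
    | zero => exact ⟨1, W.one_mem, by simp⟩
    | succ n ih =>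
      obtain ⟨y, hy, e⟩ := ih
      refine ⟨w⁻¹ * (v * y * v⁻¹), W.mul_mem (W.inv_mem hw) (hn y hy), ?_⟩
      rw [pow_succ', e, pow_succ']; group
  obtain ⟨y, hy, e1⟩ := h1 (p ^ k)
  rw [hk, mul_one] at e1
  have h2 : w⁻¹ * v = 1 := by
    apply h.nop α β h.ne _ _ _ (k + 2)
    · rw [pow_add, pow_mul, e1, h.pow_eq (hW hy)]
    · rw [mul_smul, hv, inv_smul_eq_iff, h.fixP w (hW hw)]
    · rw [mul_smul, e, inv_smul_smul]
  rw [inv_mul_eq_one] at h2
  exact h2 ▸ hw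

omit hp in
theorem ncard_orb (h : St p α β P) (hZ : Z ≤ P) {x : Ω} (hx : x ≠ α) :
    (orb Z x).ncard = Nat.card Z := by
  have : orb Z x = (fun z : G => z • x) '' (Z : Set G) := by
    ext y; simp [orb]
  rw [this, Set.ncard_image_of_injOn (fun u hu v hv e => h.inj (hZ hu) (hZ hv) hx e)]
  rfl

omit hp in
theorem blk (h : St p α β P) (hZ : Sys p α P Z) {x : Ω} (hx : x ≠ α) : Blk G p α (orb Z x) where
  notMem := by
    rintro ⟨z, hz, e⟩
    exact smul_ne (h.fixP z (hZ.le hz)) hx e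
  card := by rw [h.ncard_orb hZ.le hx, hZ.card]
  blk := by
    rintro g hg _ ⟨z1, hz1, rfl⟩ ⟨z2, hz2, e⟩ _ ⟨z, hz, rfl⟩
    obtain ⟨z', hz', e'⟩ := hZ.perm g hg (z1 • x) (z * z1⁻¹) (Z.mul_mem hz (Z.inv_mem hz1))
    refine ⟨z' * z2, Z.mul_mem hz' hz2, ?_⟩
    rw [mul_smul, e, ← e', mul_smul, inv_smul_smul]

theorem fix [Finite Ω] (h : St p α β P) (hZ : Sys p α P Z) {x : Ω} (hx : x ≠ α) {s : G}
    (hs : ∀ y ∈ insert α (orb Z x), s • y ∈ insert α (orb Z x)) : s • α = α :=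
  (h.blk hZ hx).fix hp.out.two_le h.hΩ h.h2 hs

omit hp in
theorem sys_of_normal (hZP : Z ≤ P) (hZ : Nat.card Z = p)
    (hn : ∀ g : G, g • α = α → ∀ z ∈ Z, g * z * g⁻¹ ∈ Z) : Sys p α P Z where
  le := hZP
  card := hZ
  perm := fun g hg x z hz => ⟨_, hn g hg z hz, by rw [mul_smul, mul_smul, inv_smul_smul]⟩

omit hp in
theorem ker_fix (h : St p α β P) (hZ : Sys p α P Z) {k : G} (hk : k ∈ kerS Ω Z) : k • α = α := by
  obtain ⟨z, hz, e⟩ := hk α
  rw [e, h.fixP z (hZ.le hz)]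

omit hp in
theorem ker_conj (hZ : Sys p α P Z) {g : G} (hg : g • α = α) {k : G} (hk : k ∈ kerS Ω Z) :
    g * k * g⁻¹ ∈ kerS Ω Z := by
  intro x
  obtain ⟨z, hz, e⟩ := hk (g⁻¹ • x)
  obtain ⟨z', hz', e'⟩ := hZ.perm g hg (g⁻¹ • x) z hz
  exact ⟨z', hz', by rw [mul_smul, mul_smul, e, e', smul_inv_smul]⟩

omit hp in
theorem ker_inf (h : St p α β P) (hZ : Sys p α P Z) {u : G} (hu : u ∈ P) (hk : u ∈ kerS Ω Z) :
    u ∈ Z := by
  obtain ⟨z, hz, e⟩ := hk β
  rw [h.inj hu (hZ.le hz) h.ne.symm e]; exact hz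

theorem zpow_p (hZ : Sys p α P Z) {z : G} (hz : z ∈ Z) : z ^ p = 1 := by
  have := pow_card_eq_one' (G := Z) (x := ⟨z, hz⟩)
  rw [hZ.card] at this
  exact congrArg Subtype.val this

theorem gen (hZ : Sys p α P Z) {z : G} (hz : z ∈ Z) (h1 : z ≠ 1) : Subgroup.zpowers z = Z := by
  rcases prime_sub hp.out ((Subgroup.zpowers_le).2 hz) hZ.card with e | e
  · exact absurd (Subgroup.zpowers_eq_bot.1 e) h1
  · exact e

theorem exists_ne_one (hZ : Sys p α P Z) : ∃ z ∈ Z, z ≠ 1 := by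
  by_contra hc
  push Not at hc
  have : Z = ⊥ := (Subgroup.eq_bot_iff_forall _).2 hc
  have h1 := hZ.card
  rw [this, Subgroup.card_bot] at h1
  exact hp.out.one_lt.ne h1

theorem exists_notMem (h : St p α β P) (hZ : Sys p α P Z) : ∃ c ∈ P, c ∉ Z := by
  by_contra hc
  push Not at hc
  have : Z = P := le_antisymm hZ.le hc
  have h1 := hZ.card
  rw [this, h.cardP] at h1
  have := hp.out.two_le
  nlinarith

theorem pow_mem (h : St p α β P) (hZ : Sys p α P Z) {c : G} (hc : c ∈ P) : c ^ p ∈ Z := by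
  have : (Z.subgroupOf P).Normal := ⟨fun n hn g => by
    have : g * n * g⁻¹ = n := by
      rw [show g * n = n * g from Subtype.ext (h.comm g.2 n.2)]; simp
    rw [this]; exact hn⟩
  have hi : (Z.subgroupOf P).index = p := by
    have h1 := (Z.subgroupOf P).card_mul_index
    rw [Nat.card_congr (Subgroup.subgroupOfEquivOfLe hZ.le).toEquiv, hZ.card, h.cardP, sq] at h1
    exact Nat.eq_of_mul_eq_mul_left hp.out.pos h1
  have := (Z.subgroupOf P).pow_index_mem ⟨c, hc⟩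
  rw [hi] at this
  exact this

variable [Finite G] [Finite Ω] [FaithfulSMul G Ω]

/-- The kernel acts faithfully on every block. -/
theorem ker_faithful (h : St p α β P) (hZ : Sys p α P Z) {x : Ω} (hx : x ≠ α) {k : G}
    (hk : k ∈ kerS Ω Z) (hfix : ∀ z ∈ Z, k • z • x = z • x) : k = 1 := by
  let N : Subgroup G :=
    { carrier := {n | n ∈ kerS Ω Z ∧ ∀ z ∈ Z, n • z • x = z • x}
      one_mem' := ⟨Subgroup.one_mem _, fun z _ => one_smul _ _⟩
      mul_mem' := fun {a b} ha hb => ⟨Subgroup.mul_mem _ ha.1 hb.1, fun z hz => by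
        rw [mul_smul, hb.2 z hz, ha.2 z hz]⟩
      inv_mem' := fun {a} ha => ⟨Subgroup.inv_mem _ ha.1, fun z hz => by
        rw [inv_smul_eq_iff, ha.2 z hz]⟩ }
  have hN : ¬ p ∣ Nat.card N := h.not_dvd hx.symm (fun n hn => ⟨h.ker_fix hZ hn.1, by
    simpa using hn.2 1 Z.one_mem⟩)
  have hconj : ∀ w ∈ Z, ∀ n ∈ N, w * n * w⁻¹ ∈ N := by
    intro w hw n hn
    refine ⟨ker_conj hZ (h.fixP w (hZ.le hw)) hn.1, fun z hz => ?_⟩
    have := hn.2 (w⁻¹ * z) (Z.mul_mem (Z.inv_mem hw) hz)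
    rw [mul_smul] at this
    rw [mul_smul, mul_smul, this, smul_inv_smul]
  apply eq_one_of_smul_eq (X := Ω)
  intro y
  by_cases hy : y = α
  · rw [hy]; exact h.ker_fix hZ hk
  let T : Subgroup G :=
    { carrier := {w | w ∈ Z ∧ ∃ n ∈ N, n • y = w • y}
      one_mem' := ⟨Z.one_mem, 1, N.one_mem, rfl⟩
      mul_mem' := by
        rintro a b ⟨ha, n1, hn1, e1⟩ ⟨hb, n2, hn2, e2⟩
        refine ⟨Z.mul_mem ha hb, a * n2 * a⁻¹ * n1, N.mul_mem (hconj a ha n2 hn2) hn1, ?_⟩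
        simp only [mul_smul, e1, inv_smul_smul, e2]
      inv_mem' := by
        rintro a ⟨ha, n, hn, e⟩
        refine ⟨Z.inv_mem ha, a⁻¹ * n⁻¹ * a⁻¹⁻¹,
          hconj a⁻¹ (Z.inv_mem ha) n⁻¹ (N.inv_mem hn), ?_⟩
        simp only [mul_smul, inv_inv, ← e, inv_smul_smul] }
  rcases prime_sub hp.out (T := T) (fun w hw => hw.1) hZ.card with e | e
  · obtain ⟨z, hz, e1⟩ := hk y
    have : z ∈ T := ⟨hz, k, ⟨hk, hfix⟩, e1⟩
    rw [e, Subgroup.mem_bot] at this
    rw [e1, this, one_smul]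
  · exfalso
    apply hN
    have h1 : orbit N y = orb Z y := by
      ext t
      rw [Fx.mem_orbit_sub]
      constructor
      · rintro ⟨n, hn, rfl⟩
        obtain ⟨z, hz, e1⟩ := hn.1 y
        exact ⟨z, hz, e1.symm⟩
      · rintro ⟨z, hz, rfl⟩
        have : z ∈ T := e ▸ hz
        exact this.2
    have h2 := Fx.card_orbit_dvd N y
    rwa [h1, Nat.card_coe_set_eq, h.ncard_orb hZ.le hy, hZ.card] at h2

theorem ker_cent (h : St p α β P) (hZ : Sys p α P Z) {k : G}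
    (hk : k ∈ kerS Ω Z) (hc : ∀ z ∈ Z, k * z = z * k) : k ∈ Z := by
  obtain ⟨w, hw, e⟩ := hk β
  have h1 : w⁻¹ * k = 1 := by
    apply h.ker_faithful hZ h.ne.symm
      (Subgroup.mul_mem _ (Subgroup.inv_mem _ (le_kerS Z hw)) hk)
    intro z hz
    rw [mul_smul, ← mul_smul k, hc z hz, mul_smul, e, ← mul_smul z,
      h.comm (hZ.le hz) (hZ.le hw), mul_smul, inv_smul_smul]
  rw [inv_mul_eq_one] at h1
  exact h1 ▸ hw

end St

end Cfsg.Agent.Perm.Dbl
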