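import Mathlib
import Cfsg.Agent.Perm.DblB

/-! 2-transitive groups of degree `p^2+1` with imprimitive point stabiliser: the case of a normal
Sylow subgroup. -/

set_option autoImplicit false
set_option linter.unusedSectionVars false

namespace Cfsg.Agent.Perm.Dbl

open MulAction

variable {G Ω : Type*} [Group G] [MulAction G Ω]

/-- Points fixed by the derived subgroup of the two-point stabiliser. -/
def FixD (G : Type*) {Ω : Type*} [Group G] [MulAction G Ω] (α β : Ω) : Set Ω :=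
  {y | ∀ a b : G, a • α = α → a • β = β → b • α = α → b • β = β → (a * b) • y = (b * a) • y}

theorem FixD.smul {α β : Ω} {m : G} (hm : (m • α = α ∧ m • β = β) ∨ (m • α = β ∧ m • β = α))
    {y : Ω} (hy : y ∈ FixD G α β) : m • y ∈ FixD G α β := by
  have hc : ∀ a : G, a • α = α → a • β = β →
      (m⁻¹ * a * m) • α = α ∧ (m⁻¹ * a * m) • β = β := by
    intro a h1 h2
    rcases hm with ⟨e1, e2⟩ | ⟨e1, e2⟩
    · simp only [mul_smul, e1, e2, h1, h2, inv_smul_eq_iff, and_self]
    · simp only [mul_smul, e1, e2, h1, h2, inv_smul_eq_iff, and_self]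
  intro a b ha1 ha2 hb1 hb2
  have := hy _ _ (hc a ha1 ha2).1 (hc a ha1 ha2).2 (hc b hb1 hb2).1 (hc b hb1 hb2).2
  simp only [mul_smul, smul_inv_smul, smul_left_cancel_iff] at this
  simpa only [mul_smul] using this

variable {p : ℕ} [hp : Fact p.Prime] {α β : Ω} {P Z : Subgroup G}

namespace St

variable [Finite G] [Finite Ω] [FaithfulSMul G Ω]

theorem exists_swap (h : St p α β P) : ∃ s : G, s • α = β ∧ s • β = α :=
  exists_smul_eq_two h.h2 h.ne h.ne.symm

theorem comm_conj (hZ : Sys p α P Z) {a b : G} (ha : ∀ z ∈ Z, a * z * a⁻¹ ∈ Z)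
    (hb : ∀ z ∈ Z, b * z * b⁻¹ ∈ Z) {z : G} (hz : z ∈ Z) :
    (a * b) * z * (a * b)⁻¹ = (b * a) * z * (b * a)⁻¹ := by
  by_cases h1 : z = 1
  · simp [h1]
  have hg := gen hZ hz h1
  obtain ⟨i, hi⟩ : a * z * a⁻¹ ∈ Subgroup.zpowers z := by rw [hg]; exact ha z hz
  obtain ⟨j, hj⟩ : b * z * b⁻¹ ∈ Subgroup.zpowers z := by rw [hg]; exact hb z hz
  simp only at hi hj
  have e1 : (a * b) * z * (a * b)⁻¹ = a * (b * z * b⁻¹) * a⁻¹ := by group
  have e2 : (b * a) * z * (b * a)⁻¹ = b * (a * z * a⁻¹) * b⁻¹ := by group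
  rw [e1, e2, ← hi, ← hj, ← conj_zpow, ← conj_zpow, ← hi, ← hj, ← zpow_mul, ← zpow_mul, mul_comm i]

theorem fixD_Z (hZ : Sys p α P Z) (hn : ∀ g : G, g • α = α → ∀ z ∈ Z, g * z * g⁻¹ ∈ Z)
    {y : Ω} (hy : y ∈ FixD G α β) {z : G} (hz : z ∈ Z) : z • y ∈ FixD G α β := by
  intro a b ha1 ha2 hb1 hb2
  have e := comm_conj hZ (hn a ha1) (hn b hb1) hz
  have e1 : (a * b) • z • y = ((a * b) * z * (a * b)⁻¹) • (a * b) • y := by
    rw [mul_smul _ (a * b)⁻¹, inv_smul_smul, mul_smul (a * b)]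
  have e2 : (b * a) • z • y = ((b * a) * z * (b * a)⁻¹) • (b * a) • y := by
    rw [mul_smul _ (b * a)⁻¹, inv_smul_smul, mul_smul (b * a)]
  rw [e1, e2, e, hy a b ha1 ha2 hb1 hb2]

theorem exists_fixD (h : St p α β P) (hZ : Sys p α P Z)
    (hn : ∀ g : G, g • α = α → ∀ z ∈ Z, g * z * g⁻¹ ∈ Z) :
    ∃ x ∈ FixD G α β, x ∉ insert α (orb Z β) := by
  by_contra hc
  push Not at hc
  obtain ⟨s, hs1, hs2⟩ := h.exists_swap
  have hα : α ∈ FixD G α β := fun a b ha1 _ hb1 _ => by simp only [mul_smul, ha1, hb1]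
  have hβ : β ∈ FixD G α β := fun a b _ ha2 _ hb2 => by simp only [mul_smul, ha2, hb2]
  have := h.fix hZ h.ne.symm (s := s) (by
    intro y hy
    apply hc
    apply FixD.smul (Or.inr ⟨hs1, hs2⟩)
    rcases hy with rfl | ⟨z, hz, rfl⟩
    · exact hα
    · exact fixD_Z hZ hn hβ hz)
  exact h.ne (this.symm.trans hs1)

theorem eq_one_of_cent (h : St p α β P) {d : G} (hd1 : d • α = α) (hd2 : d • β = β)
    (hc : ∀ u ∈ P, d * u = u * d) : d = 1 := by
  apply eq_one_of_smul_eq (X := Ω)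
  intro y
  by_cases hy : y = α
  · rw [hy, hd1]
  obtain ⟨u, hu, rfl⟩ := h.trans h.ne.symm hy
  rw [← mul_smul, hc u hu, mul_smul, hd2]

theorem cent_of_fix (h : St p α β P) (hP : ∀ g : G, g • α = α → ∀ u ∈ P, g * u * g⁻¹ ∈ P)
    {d : G} (hd1 : d • α = α) (hd2 : d • β = β) {u : G} (hu : u ∈ P)
    (e : d • u • β = u • β) : d * u = u * d := by
  have h1 : d * u * d⁻¹ = u := by
    apply h.inj (hP d hd1 u hu) hu h.ne.symm
    rw [mul_smul, mul_smul, inv_smul_eq_iff.2 hd2.symm, e]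
  rw [mul_inv_eq_iff_eq_mul] at h1
  exact h1

theorem normal_Z (h : St p α β P) (hZ : Sys p α P Z)
    (hP : ∀ g : G, g • α = α → ∀ u ∈ P, g * u * g⁻¹ ∈ P) :
    ∀ g : G, g • α = α → ∀ z ∈ Z, g * z * g⁻¹ ∈ Z := fun g hg z hz =>
  h.ker_inf hZ (hP g hg z (hZ.le hz)) (ker_conj hZ hg (le_kerS Z hz))

theorem abelian_of_normal (h : St p α β P) (hZ : Sys p α P Z)
    (hP : ∀ g : G, g • α = α → ∀ u ∈ P, g * u * g⁻¹ ∈ P) {a b : G} (ha1 : a • α = α)
    (ha2 : a • β = β) (hb1 : b • α = α) (hb2 : b • β = β) : a * b = b * a := by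
  have hn := h.normal_Z hZ hP
  obtain ⟨x, hx, hx'⟩ := h.exists_fixD hZ hn
  have hxα : x ≠ α := fun e => hx' (e ▸ Set.mem_insert _ _)
  obtain ⟨u, hu, rfl⟩ := h.trans h.ne.symm hxα
  set d := (b * a)⁻¹ * (a * b) with hd
  have hd1 : d • α = α := by rw [hd, mul_smul, inv_smul_eq_iff]; simp only [mul_smul, ha1, hb1]
  have hd2 : d • β = β := by rw [hd, mul_smul, inv_smul_eq_iff]; simp only [mul_smul, ha2, hb2]
  have hW := h.eq_of_lt (W := P ⊓ Subgroup.centralizer {d}) inf_le_left hZ.card (by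
    intro z hz
    refine Subgroup.mem_inf.2 ⟨hZ.le hz, ?_⟩
    rw [Subgroup.mem_centralizer_singleton_iff]
    have e := comm_conj hZ (hn a ha1) (hn b hb1) hz
    rw [hd]
    calc z * ((b * a)⁻¹ * (a * b)) = (b * a)⁻¹ * ((b * a) * z * (b * a)⁻¹) * (a * b) := by group
      _ = (b * a)⁻¹ * ((a * b) * z * (a * b)⁻¹) * (a * b) := by rw [e]
      _ = _ := by group) (u := u) (Subgroup.mem_inf.2 ⟨hu, by
    rw [Subgroup.mem_centralizer_singleton_iff]
    refine (h.cent_of_fix hP hd1 hd2 hu ?_).symm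
    rw [hd, mul_smul, hx a b ha1 ha2 hb1 hb2, inv_smul_smul]⟩)
    (fun huZ => hx' (Set.mem_insert_of_mem _ ⟨u, huZ, rfl⟩))
  have h1 : d = 1 := h.eq_one_of_cent hd1 hd2 (fun v hv => by
    rw [← hW] at hv
    exact (Subgroup.mem_centralizer_singleton_iff.1 (Subgroup.mem_inf.1 hv).2).symm)
  rw [hd, inv_mul_eq_one] at h1
  exact h1.symm

theorem three_fix_aux (h : St p α β P) (hZ : Sys p α P Z)
    (hP : ∀ g : G, g • α = α → ∀ u ∈ P, g * u * g⁻¹ ∈ P) {g : G} (hg1 : g • α = α)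
    (hg2 : g • β = β) {x : Ω} (hxα : x ≠ α) (hxβ : x ≠ β) (hx : g • x = x) : g = 1 := by
  by_contra hne
  have hex : ∀ g : G, g • α = α → g • β = β → ∀ x : Ω, x ≠ α → x ≠ β → g • x = x →
      ∃ u ∈ P, u ≠ 1 ∧ g * u = u * g := by
    intro g hg1 hg2 x hxα hxβ hx
    obtain ⟨u, hu, rfl⟩ := h.trans h.ne.symm hxα
    exact ⟨u, hu, fun e => hxβ (by rw [e, one_smul]), h.cent_of_fix hP hg1 hg2 hu hx⟩
  obtain ⟨u, hu, hu1, huc⟩ := hex g hg1 hg2 x hxα hxβ hx
  set W := P ⊓ Subgroup.centralizer {g} with hWdef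
  have hWmem : ∀ w, w ∈ W ↔ w ∈ P ∧ w * g = g * w := fun w => by
    rw [hWdef, Subgroup.mem_inf, Subgroup.mem_centralizer_singleton_iff]
  have hWc : Nat.card W = p := by
    rcases h.sub_cases (W := W) inf_le_left with e | e | e
    · have : u ∈ W := (hWmem u).2 ⟨hu, huc.symm⟩
      rw [e] at this
      exact absurd (Subgroup.mem_bot.1 this) hu1
    · exact e
    · exact absurd (h.eq_one_of_cent hg1 hg2 (fun v hv => by
        rw [← e] at hv; exact ((hWmem v).1 hv).2.symm)) hne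
  have hWs : Sys p α P W := sys_of_normal inf_le_left hWc (by
    intro m hm w hw
    obtain ⟨hw1, hw2⟩ := (hWmem w).1 hw
    obtain ⟨v, hv, e⟩ := h.trans h.ne.symm (smul_ne hm h.ne.symm)
    have hj1 : (v⁻¹ * m) • α = α := by rw [mul_smul, hm, inv_smul_eq_iff, h.fixP v hv]
    have hj2 : (v⁻¹ * m) • β = β := by rw [mul_smul, ← e, inv_smul_smul]
    have hc := h.abelian_of_normal hZ hP hj1 hj2 hg1 hg2
    set j := v⁻¹ * m with hj
    have hm' : m = v * j := by rw [hj]; group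
    have h3 : j * w * j⁻¹ ∈ P := hP j hj1 w hw1
    have h4 : m * w * m⁻¹ = j * w * j⁻¹ := by
      rw [hm']
      calc v * j * w * (v * j)⁻¹ = v * (j * w * j⁻¹) * v⁻¹ := by group
        _ = _ := by rw [h.comm hv h3]; group
    rw [h4, hWmem]
    refine ⟨h3, ?_⟩
    calc j * w * j⁻¹ * g = j * w * j⁻¹ * (g * j) * j⁻¹ := by group
      _ = j * (w * g) * j⁻¹ := by rw [← hc]; group
      _ = (j * g) * w * j⁻¹ := by rw [hw2]; group
      _ = _ := by rw [hc]; group)
  have hFix : ∀ y, y ∈ insert α (orb W β) ↔ g • y = y := by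
    intro y
    constructor
    · rintro (rfl | ⟨w, hw, rfl⟩)
      · exact hg1
      · rw [← mul_smul, ← ((hWmem w).1 hw).2, mul_smul, hg2]
    · intro hy
      by_cases hyα : y = α
      · exact hyα ▸ Set.mem_insert _ _
      obtain ⟨v, hv, rfl⟩ := h.trans h.ne.symm hyα
      exact Set.mem_insert_of_mem _ ⟨v, (hWmem v).2 ⟨hv, (h.cent_of_fix hP hg1 hg2 hv hy).symm⟩, rfl⟩
  obtain ⟨s, hs1, hs2⟩ := h.exists_swap
  obtain ⟨u', hu', hu1', huc'⟩ := hex (s⁻¹ * g * s)
    (by rw [mul_smul, mul_smul, hs1, hg2, inv_smul_eq_iff, hs1])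
    (by rw [mul_smul, mul_smul, hs2, hg1, inv_smul_eq_iff, hs2]) (s⁻¹ • x)
    (by rw [Ne, inv_smul_eq_iff, hs1]; exact hxβ) (by rw [Ne, inv_smul_eq_iff, hs2]; exact hxα)
    (by rw [mul_smul, mul_smul, smul_inv_smul, hx])
  have hcomm : g * (s * u' * s⁻¹) = (s * u' * s⁻¹) * g := by
    calc g * (s * u' * s⁻¹) = s * (s⁻¹ * g * s * u') * s⁻¹ := by group
      _ = _ := by rw [huc']; group
  have h5 := h.fix hWs h.ne.symm (s := s * u' * s⁻¹) (by
    intro y hy
    rw [hFix] at hy ⊢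
    rw [← mul_smul, hcomm, mul_smul, hy])
  rw [mul_smul, mul_smul, inv_smul_eq_iff.2 hs2.symm] at h5
  have h6 : u' • β = β := MulAction.injective s (h5.trans hs2.symm)
  exact hu1' (h.semi hu' h.ne.symm h6)

theorem three_fix (h : St p α β P) (hZ : Sys p α P Z)
    (hP : ∀ g : G, g • α = α → ∀ u ∈ P, g * u * g⁻¹ ∈ P) {g : G} {a b c : Ω} (hab : a ≠ b)
    (hca : c ≠ a) (hcb : c ≠ b) (ha : g • a = a) (hb : g • b = b) (hc : g • c = c) : g = 1 := by
  obtain ⟨m, hm1, hm2⟩ := exists_smul_eq_two h.h2 h.ne hab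
  have h1 := h.three_fix_aux hZ hP (g := m⁻¹ * g * m) (x := m⁻¹ • c)
    (by rw [mul_smul, mul_smul, hm1, ha, inv_smul_eq_iff, hm1])
    (by rw [mul_smul, mul_smul, hm2, hb, inv_smul_eq_iff, hm2])
    (by rw [Ne, inv_smul_eq_iff, hm1]; exact hca) (by rw [Ne, inv_smul_eq_iff, hm2]; exact hcb)
    (by rw [mul_smul, mul_smul, smul_inv_smul, hc])
  have : g = m * (m⁻¹ * g * m) * m⁻¹ := by group
  rw [this, h1]; simp

omit hp in
theorem card_stab (hΩ : Nat.card Ω = p ^ 2 + 1) (h2 : IsMultiplyPretransitive G Ω 2)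
    (hne : α ≠ β) :
    Nat.card (stabilizer G α) = p ^ 2 * Nat.card ↥(stabilizer G α ⊓ stabilizer G β) := by
  rw [← Fx.card_orbit_mul (stabilizer G α) β]
  congr 1
  have : orbit (stabilizer G α) β = ({α}ᶜ : Set Ω) := by
    ext y
    rw [Fx.mem_orbit_sub]
    constructor
    · rintro ⟨g, hg, rfl⟩
      exact smul_ne hg hne.symm
    · intro hy
      obtain ⟨g, hg1, hg2⟩ := exists_smul_eq_two h2 hne (Ne.symm hy)
      exact ⟨g, hg1, hg2⟩
  rw [this, Nat.card_coe_set_eq, Set.ncard_compl, Set.ncard_singleton, hΩ]; simp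

/-- `P` is not normal in the point stabiliser. -/
theorem not_normal (h : St p α β P) (hZ : Sys p α P Z)
    (hP : ∀ g : G, g • α = α → ∀ u ∈ P, g * u * g⁻¹ ∈ P) : False := by
  classical
  have hp2 := hp.out.two_le
  have hodd : Odd p := hp.out.odd_of_ne_two h.p2
  set H := stabilizer G α ⊓ stabilizer G β with hH
  have hHle : Nat.card H ≤ p - 1 := by
    have h1 := Fx.card_dvd_of_semiregular H (orb Z β \ {β}) (by
      intro g hg x hx
      have hg1 : g • α = α := hg.1
      have hg2 : g • β = β := hg.2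
      refine ⟨(h.blk hZ h.ne.symm).blk g hg1 β (mem_orb_self Z β)
        (hg2.symm ▸ mem_orb_self Z β) x hx.1, fun e => hx.2 ?_⟩
      exact MulAction.injective g ((Set.mem_singleton_iff.1 e).trans hg2.symm)) (by
      intro g hg x hx e
      exact h.three_fix_aux hZ hP hg.1 hg.2
        (fun e' => (h.blk hZ h.ne.symm).notMem (e' ▸ hx.1)) hx.2 e)
    rw [Nat.card_coe_set_eq, Set.ncard_sdiff_singleton_of_mem (mem_orb_self Z β),
      (h.blk hZ h.ne.symm).card] at h1
    exact Nat.le_of_dvd (by omega) h1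
  have : Fintype Ω := Fintype.ofFinite Ω
  have : Fintype G := Fintype.ofFinite G
  have htr : IsPretransitive G Ω := by
    refine ⟨fun x y => ?_⟩
    by_cases hxy : x = y
    · exact ⟨1, by rw [one_smul, hxy]⟩
    · obtain ⟨g, hg, -⟩ := exists_smul_eq_two h.h2 hxy (Ne.symm hxy)
      exact ⟨g, hg⟩
  obtain ⟨s, hs1, hs2⟩ := h.exists_swap
  rcases Nat.even_or_odd (Nat.card H) with hev | hod
  · obtain ⟨t0, ht0⟩ := exists_prime_orderOf_dvd_card' (G := H) 2 hev.two_dvd
    set t : G := (t0 : G) with ht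
    have ht1 : t • α = α := t0.2.1
    have ht2 : t • β = β := t0.2.2
    have htt : t * t = 1 := by
      have := pow_orderOf_eq_one t0
      rw [ht0, sq] at this
      exact congrArg Subtype.val this
    have htne : t ≠ 1 := fun e => by
      have : t0 = 1 := Subtype.ext e
      rw [this, orderOf_one] at ht0
      exact absurd ht0 (by norm_num)
    have hti : t⁻¹ = t := inv_eq_of_mul_eq_one_right htt
    have hinv : ∀ u ∈ P, t * u = u⁻¹ * t := by
      intro u hu
      have h1 := hP t ht1 u hu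
      rw [hti] at h1
      have h2 : t * (t * u * t * u) = (t * u * t * u) * t := by
        calc t * (t * u * t * u) = (t * t) * u * t * u := by group
          _ = u * t * u * (t * t) := by rw [htt]; group
          _ = (u * (t * u * t)) * t := by group
          _ = _ := by rw [h.comm hu h1]
      have h3 : t * u * t * u = 1 := by
        by_contra hne
        apply htne
        have hw := P.mul_mem h1 hu
        refine h.three_fix_aux hZ hP ht1 ht2 (x := (t * u * t * u) • β)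
          (smul_ne (h.fixP _ hw) h.ne.symm) (fun e => hne (h.semi hw h.ne.symm e)) ?_
        rw [← mul_smul, h2, mul_smul, ht2]
      calc t * u = (t * u * t * u) * u⁻¹ * t⁻¹ := by group
        _ = _ := by rw [h3, hti, one_mul]
    have hswap0 : ∀ a b : Ω, a ≠ α → b ≠ α → ∃ g : G, g • α = α ∧ g • a = b ∧ g • b = a := by
      intro a b ha hb
      obtain ⟨u, hu, rfl⟩ := h.trans h.ne.symm ha
      obtain ⟨v, hv, rfl⟩ := h.trans h.ne.symm hb
      refine ⟨u * v * t, by rw [mul_smul, ht1, h.fixP _ (P.mul_mem hu hv)], ?_, ?_⟩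
      · rw [← mul_smul, mul_assoc, hinv u hu, h.comm hu hv, mul_smul, mul_smul, mul_smul, ht2,
          smul_inv_smul]
      · rw [← mul_smul, mul_assoc, hinv v hv, mul_smul, mul_smul, mul_smul, ht2, smul_inv_smul]
    have hswap : ∀ γ : Ω, ∃ g : G, γ ≠ α → γ ≠ β → g • γ = γ ∧ g • α = β ∧ g • β = α := by
      intro γ
      by_cases hγ : γ ≠ α ∧ γ ≠ β
      · obtain ⟨m, hm⟩ := htr.exists_smul_eq α γ
        obtain ⟨g, hg1, hg2, hg3⟩ := hswap0 (m⁻¹ • α) (m⁻¹ • β)
          (by rw [Ne, inv_smul_eq_iff, hm]; exact hγ.1.symm)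
          (by rw [Ne, inv_smul_eq_iff, hm]; exact hγ.2.symm)
        refine ⟨m * g * m⁻¹, fun _ _ => ⟨?_, ?_, ?_⟩⟩
        · rw [mul_smul, mul_smul, inv_smul_eq_iff.2 hm.symm, hg1, hm]
        · rw [mul_smul, mul_smul, hg2, smul_inv_smul]
        · rw [mul_smul, mul_smul, hg3, smul_inv_smul]
      · exact ⟨1, fun h1 h2 => absurd ⟨h1, h2⟩ hγ⟩
    choose f hf using hswap
    let S : Finset G := Finset.univ.filter fun g => g • α = β ∧ g • β = α
    let T : Finset Ω := Finset.univ \ {α, β}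
    have hT : ∀ γ, γ ∈ T ↔ γ ≠ α ∧ γ ≠ β := fun γ => by simp [T]
    have hcount := Finset.card_le_mul_card_image_of_maps_to (s := T) (t := S) (f := f)
      (fun γ hγ => by
        obtain ⟨h1, h2⟩ := (hT γ).1 hγ
        simp only [S, Finset.mem_filter, Finset.mem_univ, true_and]
        exact (hf γ h1 h2).2) 2 (by
        intro g hg
        by_contra hc
        push Not at hc
        obtain ⟨a, ha, b, hb, c, hc, hab, hac, hbc⟩ := Finset.two_lt_card.1 hc
        simp only [Finset.mem_filter, hT] at ha hb hc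
        have h1 : g = 1 := h.three_fix hZ hP hab hac.symm hbc.symm
          (ha.2 ▸ (hf a ha.1.1 ha.1.2).1) (hb.2 ▸ (hf b hb.1.1 hb.1.2).1)
          (hc.2 ▸ (hf c hc.1.1 hc.1.2).1)
        simp only [S, Finset.mem_filter, Finset.mem_univ, true_and] at hg
        rw [h1, one_smul] at hg
        exact h.ne hg.1)
    have hTc : T.card = p ^ 2 - 1 := by
      rw [Finset.card_sdiff_of_subset (Finset.subset_univ _), Finset.card_univ,
        Finset.card_pair h.ne, ← Nat.card_eq_fintype_card, h.hΩ]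
      omega
    have hSc : S.card ≤ Nat.card H := by
      rw [← Nat.card_eq_finsetCard]
      refine Nat.card_le_card_of_injective (fun g : S => (⟨s⁻¹ * g, ?_⟩ : H)) ?_
      · have := g.2
        simp only [S, Finset.mem_filter, Finset.mem_univ, true_and] at this
        refine ⟨?_, ?_⟩
        · change (s⁻¹ * (g : G)) • α = α
          rw [mul_smul, this.1, inv_smul_eq_iff, hs1]
        · change (s⁻¹ * (g : G)) • β = β
          rw [mul_smul, this.2, inv_smul_eq_iff, hs2]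
      · intro a b e
        exact Subtype.ext (mul_left_cancel (congrArg Subtype.val e))
    rw [hTc] at hcount
    have h3 : p ^ 2 - 1 ≤ 2 * (p - 1) := hcount.trans (Nat.mul_le_mul_left 2 (hSc.trans hHle))
    obtain ⟨q, rfl⟩ : ∃ q, p = q + 2 := ⟨p - 2, by omega⟩
    have : (q + 2) ^ 2 = q * q + 4 * q + 4 := by ring
    omega
  · have hst : ∀ a : Ω, Odd (Nat.card (stabilizer G a)) := by
      intro a
      rw [card_stabilizer_eq a α, card_stab h.hΩ h.h2 h.ne]
      exact (hodd.pow).mul hod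
    let σ : G →* ℤˣ := Equiv.Perm.sign.comp (MulAction.toPermHom G Ω)
    have hσ1 : ∀ (g : G) (a : Ω), g • a = a → σ g = 1 := by
      intro g a hg
      have h1 := pow_card_eq_one' (G := stabilizer G a) (x := ⟨g, hg⟩)
      have h2 : g ^ Nat.card (stabilizer G a) = 1 := congrArg Subtype.val h1
      have h3 : σ g ^ Nat.card (stabilizer G a) = 1 := by rw [← map_pow, h2, map_one]
      rcases Int.units_eq_one_or (σ g) with e | e
      · exact e
      · rw [e, (hst a).neg_one_pow] at h3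
        exact absurd h3 (by decide)
    have hσ : ∀ g : G, σ g = 1 := by
      intro g
      by_cases hg : g • α = α
      · exact hσ1 g α hg
      obtain ⟨γ, hγ⟩ : ∃ γ, γ ∉ ({α, g • α} : Finset Ω) := by
        by_contra hc
        push Not at hc
        have h1 := Finset.card_le_card (fun x _ => hc x : Finset.univ ⊆ ({α, g • α} : Finset Ω))
        have h2 := Finset.card_le_two (a := α) (b := g • α)
        rw [Finset.card_univ, ← Nat.card_eq_fintype_card, h.hΩ] at h1
        nlinarith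
      simp only [Finset.mem_insert, Finset.mem_singleton, not_or] at hγ
      obtain ⟨m, hm1, hm2⟩ := exists_smul_eq_two h.h2 hγ.1 hγ.2
      have h1 := hσ1 (m⁻¹ * g) α (by rw [mul_smul, ← hm2, inv_smul_smul])
      rwa [map_mul, map_inv, hσ1 m γ hm1, inv_one, one_mul] at h1
    have hG : 2 ∣ Nat.card G := by
      rw [Fx.card_eq_card_mul α, h.hΩ]
      exact Dvd.dvd.mul_right ((hodd.pow).add_one).two_dvd _
    obtain ⟨t, ht⟩ := exists_prime_orderOf_dvd_card' (G := G) 2 hG
    have hfp : Function.fixedPoints (MulAction.toPermHom G Ω t) = ∅ := by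
      rw [Set.eq_empty_iff_forall_notMem]
      intro a ha
      have ha' : t • a = a := ha
      have h1 := Subgroup.orderOf_dvd_natCard (stabilizer G a) (x := t) ha'
      rw [ht] at h1
      exact (Nat.not_even_iff_odd.2 (hst a)) (even_iff_two_dvd.2 h1)
    have h1 := Equiv.Perm.sign_of_pow_two_eq_one (σ := MulAction.toPermHom G Ω t)
      (by rw [← map_pow, ← ht, pow_orderOf_eq_one, map_one])
    have h2 : Fintype.card (Function.fixedPoints (MulAction.toPermHom G Ω t)) = 0 := by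
      rw [Fintype.card_eq_zero_iff, hfp]; infer_instance
    have h3 := hσ t
    change Equiv.Perm.sign (MulAction.toPermHom G Ω t) = 1 at h3
    rw [h3, h2, ← Nat.card_eq_fintype_card, h.hΩ] at h1
    obtain ⟨q, rfl⟩ := hodd
    have h4 : ((2 * q + 1) ^ 2 + 1 - 0) / 2 = 2 * (q * q + q) + 1 := by
      have : (2 * q + 1) ^ 2 + 1 - 0 = 2 * (2 * (q * q + q) + 1) := by rw [Nat.sub_zero]; ring
      rw [this]; omega
    rw [h4, Odd.neg_one_pow ⟨_, rfl⟩] at h1
    exact absurd h1 (by decide)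

end St

end Cfsg.Agent.Perm.Dbl
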