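import Mathlib
import Cfsg.Agent.Perm.DblC

/-! 2-transitive groups of degree `p^2+1` with imprimitive point stabiliser: if `Z` is normal in the
point stabiliser then so is `P`. -/

set_option autoImplicit false
set_option linter.unusedSectionVars false

namespace Cfsg.Agent.Perm.Dbl

open MulAction

variable {G Ω : Type*} [Group G] [MulAction G Ω]
variable {p : ℕ} [hp : Fact p.Prime] {α β : Ω} {P Z : Subgroup G}

/-- The centraliser of `Z` in the stabiliser of `α`. -/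
def cen (α : Ω) (Z : Subgroup G) : Subgroup G := stabilizer G α ⊓ Subgroup.centralizer (Z : Set G)

omit hp in
theorem mem_cen {g : G} : g ∈ cen α Z ↔ g • α = α ∧ ∀ z ∈ Z, z * g = g * z := Iff.rfl

namespace St

variable [Finite G] [Finite Ω] [FaithfulSMul G Ω]

theorem le_cen (h : St p α β P) (hZ : Sys p α P Z) : P ≤ cen α Z := fun u hu =>
  ⟨h.fixP u hu, fun _ hz => h.comm (hZ.le hz) hu⟩

/-- Burnside's theorem for the action of `cen α Z` on the blocks. -/
theorem dichot (h : St p α β P) (hZ : Sys p α P Z) :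
    (∀ g ∈ cen α Z, ∀ u ∈ P, g * u * g⁻¹ ∈ P) ∨
    (∀ x y : Ω, x ∉ insert α (orb Z β) → y ∉ insert α (orb Z β) →
      ∃ j ∈ cen α Z, j • β = β ∧ ∃ z ∈ Z, j • x = z • y) := by
  set C := cen α Z with hC
  have hPC : P ≤ C := h.le_cen hZ
  let S : Subgroup C :=
    { carrier := {g | ∃ z ∈ Z, z • β = (g : G) • β}
      one_mem' := ⟨1, Z.one_mem, rfl⟩
      mul_mem' := by
        rintro a b ⟨z1, hz1, e1⟩ ⟨z2, hz2, e2⟩
        refine ⟨z2 * z1, Z.mul_mem hz2 hz1, ?_⟩
        rw [Subgroup.coe_mul, mul_smul, mul_smul, ← e2, e1, ← mul_smul, a.2.2 z2 hz2, mul_smul]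
      inv_mem' := by
        rintro a ⟨z, hz, e⟩
        refine ⟨z⁻¹, Z.inv_mem hz, ?_⟩
        rw [Subgroup.coe_inv, eq_inv_smul_iff, ← mul_smul, ← a.2.2 z⁻¹ (Z.inv_mem hz), mul_smul,
          ← e, inv_smul_smul] }
  have hS : ∀ a b : C, (a : C ⧸ S) = (b : C ⧸ S) ↔ ∃ z ∈ Z, z • (a : G) • β = (b : G) • β := by
    intro a b
    rw [QuotientGroup.eq]
    constructor
    · rintro ⟨z, hz, e⟩
      refine ⟨z, hz, ?_⟩
      rw [Subgroup.coe_mul, Subgroup.coe_inv, mul_smul, eq_inv_smul_iff] at e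
      rw [← e, ← mul_smul, a.2.2 z hz, mul_smul]
    · rintro ⟨z, hz, e⟩
      refine ⟨z, hz, ?_⟩
      rw [Subgroup.coe_mul, Subgroup.coe_inv, mul_smul, eq_inv_smul_iff, ← e, ← mul_smul,
        ← a.2.2 z hz, mul_smul]
  have hsurj : ∀ q : C ⧸ S, ∃ u, ∃ hu : u ∈ P, q = ((⟨u, hPC hu⟩ : C) : C ⧸ S) := by
    intro q
    obtain ⟨g, rfl⟩ := QuotientGroup.mk_surjective q
    obtain ⟨u, hu, e⟩ := h.trans h.ne.symm (smul_ne g.2.1 h.ne.symm)
    exact ⟨u, hu, (hS _ _).2 ⟨1, Z.one_mem, by rw [one_smul]; exact e.symm⟩⟩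
  have hsm : ∀ a b : C, a • (b : C ⧸ S) = ((a * b : C) : C ⧸ S) := fun a b => rfl
  have hZtriv : ∀ g : C, (g : G) ∈ Z → ∀ q : C ⧸ S, g • q = q := by
    intro g hg q
    obtain ⟨a, rfl⟩ := QuotientGroup.mk_surjective q
    rw [hsm, eq_comm, hS]
    exact ⟨g, hg, by rw [Subgroup.coe_mul, mul_smul]⟩
  have hcore : ∀ g : C, (∀ q : C ⧸ S, g • q = q) → (g : G) ∈ Z := by
    intro g hg
    refine h.ker_cent hZ (fun x => ?_) (fun z hz => (g.2.2 z hz).symm)
    by_cases hx : x = α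
    · exact ⟨1, Z.one_mem, by rw [hx, one_smul]; exact g.2.1⟩
    obtain ⟨u, hu, rfl⟩ := h.trans h.ne.symm hx
    have := hg ((⟨u, hPC hu⟩ : C) : C ⧸ S)
    rw [hsm, eq_comm, hS] at this
    obtain ⟨z, hz, e⟩ := this
    exact ⟨z, hz, by rw [e, Subgroup.coe_mul, mul_smul]⟩
  have hcard : Nat.card (C ⧸ S) = p := by
    have h1 := Fx.card_orbit_mul (P.subgroupOf C) ((1 : C) : C ⧸ S)
    have h2 : ∀ T : Set (C ⧸ S), (∀ q, q ∈ T ↔ ∃ g ∈ P.subgroupOf C, g • ((1 : C) : C ⧸ S) = q) →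
        T = Set.univ := by
      intro T hT
      rw [Set.eq_univ_iff_forall]
      intro q
      obtain ⟨u, hu, rfl⟩ := hsurj q
      rw [hT]
      exact ⟨⟨u, hPC hu⟩, hu, by rw [hsm, mul_one]⟩
    have h3 : P.subgroupOf C ⊓ stabilizer C ((1 : C) : C ⧸ S) = Z.subgroupOf C := by
      ext g
      rw [Subgroup.mem_inf, Subgroup.mem_subgroupOf, Subgroup.mem_subgroupOf, mem_stabilizer_iff]
      constructor
      · rintro ⟨hg, e⟩
        rw [hsm, mul_one, eq_comm, hS] at e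
        obtain ⟨z, hz, e⟩ := e
        rw [Subgroup.coe_one, one_smul] at e
        rw [← h.inj (hZ.le hz) hg h.ne.symm e]; exact hz
      · intro hg
        exact ⟨hZ.le hg, hZtriv g hg _⟩
    rw [h2 _ (fun q => Fx.mem_orbit_sub), h3, Nat.card_congr (Subgroup.subgroupOfEquivOfLe (hZ.le.trans hPC)).toEquiv,
      Nat.card_congr (Subgroup.subgroupOfEquivOfLe hPC).toEquiv, hZ.card, h.cardP, sq,
      Nat.card_coe_set_eq, Set.ncard_univ] at h1
    exact Nat.eq_of_mul_eq_mul_right hp.out.pos h1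
  obtain ⟨c, hc, hcZ⟩ := h.exists_notMem hZ
  let τ : C := ⟨c, hPC hc⟩
  obtain ⟨e, he0, he⟩ := exists_coord_of_pow_eq_one (G := Equiv.Perm (C ⧸ S)) hcard
    (τ := MulAction.toPermHom C (C ⧸ S) τ) (x₀ := ((1 : C) : C ⧸ S)) (by
      rw [← map_pow]
      ext q
      exact hZtriv (τ ^ p) (h.pow_mem hZ hc) q) (by
      intro e
      change τ • ((1 : C) : C ⧸ S) = _ at e
      rw [hsm, mul_one, eq_comm, hS] at e
      obtain ⟨z, hz, e⟩ := e
      rw [Subgroup.coe_one, one_smul] at e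
      exact hcZ (by rw [← h.inj (hZ.le hz) hc h.ne.symm e]; exact hz))
  have he' : ∀ x : C ⧸ S, e (τ • x) = e x + 1 := he
  rcases affine_or_two_pretransitive he' with ha | h2
  · left
    intro g hg u hu
    let g' : C := ⟨g, hg⟩
    let u' : C := ⟨u, hPC hu⟩
    have htr : ∀ x : C ⧸ S, e (u' • x) = e x + e (u' • ((1 : C) : C ⧸ S)) := by
      intro x
      have hx : x = τ ^ (e x).val • ((1 : C) : C ⧸ S) := by
        apply e.injective
        rw [coord_pow he', he0]; simp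
      have hcm : u' * τ ^ (e x).val = τ ^ (e x).val * u' :=
        Subtype.ext (h.comm hu (P.pow_mem hc _))
      conv_lhs => rw [hx, ← mul_smul, hcm, mul_smul, coord_pow he']
      simp [add_comm]
    obtain ⟨a, b, hab⟩ := ha g'
    set t := e (u' • ((1 : C) : C ⧸ S)) with ht
    have h1 : ∀ x : C ⧸ S, e ((g' * u' * g'⁻¹) • x) = e x + a * t := by
      intro x
      have h2 := hab (g'⁻¹ • x)
      rw [smul_inv_smul] at h2
      rw [mul_smul, mul_smul, hab, htr, h2]; ring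
    have h2 := hcore ((τ ^ (a * t).val)⁻¹ * (g' * u' * g'⁻¹)) (by
      intro q
      rw [mul_smul, inv_smul_eq_iff]
      apply e.injective
      rw [h1, coord_pow he']; simp)
    have h3 := P.mul_mem (P.pow_mem hc (a * t).val) (hZ.le h2)
    simpa [τ, g', u'] using h3
  · right
    intro x y hx hy
    have hne : ∀ x : Ω, x ∉ insert α (orb Z β) → ∃ u, ∃ hu : u ∈ P, u • β = x ∧
        ((1 : C) : C ⧸ S) ≠ ((⟨u, hPC hu⟩ : C) : C ⧸ S) := by
      intro x hx
      obtain ⟨u, hu, e⟩ := h.trans (y := x) h.ne.symm (fun e => hx (e ▸ Set.mem_insert _ _))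
      refine ⟨u, hu, e, fun e1 => hx ?_⟩
      obtain ⟨z, hz, e2⟩ := (hS _ _).1 e1
      rw [Subgroup.coe_one, one_smul] at e2
      exact Set.mem_insert_of_mem _ ⟨z, hz, e2.trans e⟩
    obtain ⟨u, hu, rfl, hu1⟩ := hne x hx
    obtain ⟨v, hv, rfl, hv1⟩ := hne y hy
    obtain ⟨m, hm1, hm2⟩ := exists_smul_eq_two h2 hu1 hv1
    rw [hsm, mul_one, eq_comm, hS] at hm1
    rw [hsm, eq_comm, hS] at hm2
    obtain ⟨z1, hz1, e1⟩ := hm1
    obtain ⟨z2, hz2, e2⟩ := hm2
    rw [Subgroup.coe_one, one_smul] at e1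
    refine ⟨z1⁻¹ * m, C.mul_mem (C.inv_mem (hPC (hZ.le hz1))) m.2, ?_, z1⁻¹ * z2,
      Z.mul_mem (Z.inv_mem hz1) hz2, ?_⟩
    · rw [mul_smul, ← e1, inv_smul_smul]
    · rw [mul_smul, mul_smul, e2, Subgroup.coe_mul, mul_smul]

theorem normal_cen (h : St p α β P) (hZ : Sys p α P Z)
    (hn : ∀ g : G, g • α = α → ∀ z ∈ Z, g * z * g⁻¹ ∈ Z) :
    ∀ g ∈ cen α Z, ∀ u ∈ P, g * u * g⁻¹ ∈ P := by
  rcases h.dichot hZ with h1 | h1
  · exact h1
  set C := cen α Z with hC
  have hPC : P ≤ C := h.le_cen hZ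
  obtain ⟨x, hx, hx'⟩ := h.exists_fixD hZ hn
  have hab : ∀ a b : G, a • α = α → a • β = β → b • α = α → b • β = β → a * b = b * a := by
    intro a b ha1 ha2 hb1 hb2
    have hall : ∀ y, y ∈ FixD G α β := by
      intro y
      by_cases hy : y ∈ insert α (orb Z β)
      · rcases hy with rfl | ⟨z, hz, rfl⟩
        · exact fun a b ha1 _ hb1 _ => by simp only [mul_smul, ha1, hb1]
        · exact fixD_Z hZ hn (fun a b _ ha2 _ hb2 => by simp only [mul_smul, ha2, hb2]) hz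
      · obtain ⟨j, hj, hj2, z, hz, e⟩ := h1 x y hx' hy
        have h2 := fixD_Z hZ hn (FixD.smul (Or.inl ⟨hj.1, hj2⟩) hx) (Z.inv_mem hz)
        rwa [e, inv_smul_smul] at h2
    have : (b * a)⁻¹ * (a * b) = 1 := eq_one_of_smul_eq (X := Ω) (fun y => by
      rw [mul_smul, hall y a b ha1 ha2 hb1 hb2, inv_smul_smul])
    rw [inv_mul_eq_one] at this
    exact this.symm
  let J : Subgroup G := C ⊓ stabilizer G β
  have hJsemi : ∀ j ∈ J, ∀ z ∈ Z, j • x = z • x → j = 1 := by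
    intro j hj z hz e
    have hj1 : j • α = α := hj.1.1
    have hj2 : j • β = β := hj.2
    have h2 : ∀ n : ℕ, j ^ n • x = z ^ n • x := by
      intro n
      induction n with
      | zero => simp
      | succ n ih =>
        rw [pow_succ', mul_smul, ih, ← mul_smul, ← hj.1.2 _ (Z.pow_mem hz n), mul_smul, e,
          ← mul_smul, ← pow_succ]
    have h3 : j ^ p • x = x := by rw [h2, zpow_p hZ hz, one_smul]
    have hk : j ^ p ∈ J := J.pow_mem hj p
    have h4 : j ^ p = 1 := by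
      set k := j ^ p
      apply eq_one_of_smul_eq (X := Ω)
      intro y
      by_cases hy : y ∈ insert α (orb Z β)
      · rcases hy with rfl | ⟨z, hz, rfl⟩
        · exact hk.1.1
        · rw [← mul_smul, ← hk.1.2 z hz, mul_smul, hk.2]
      · obtain ⟨j', hj', hj2', z', hz', e'⟩ := h1 x y hx' hy
        have e2 : y = z'⁻¹ • j' • x := by rw [e', inv_smul_smul]
        rw [e2, ← mul_smul, ← hk.1.2 _ (Z.inv_mem hz'), mul_smul, ← mul_smul k,
          hab k j' hk.1.1 hk.2 hj'.1 hj2', mul_smul, h3]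
    exact h.nop α β h.ne j hj1 hj2 1 (by rw [pow_one, h4])
  have hxα : x ≠ α := fun e => hx' (e ▸ Set.mem_insert _ _)
  have hJ : Nat.card J < p := by
    let F : J × Z → ↥((insert α (orb Z β))ᶜ : Set Ω) := fun q => ⟨(q.2 : G) • (q.1 : G) • x, by
      rintro (e | ⟨z, hz, e⟩)
      · exact smul_ne (h.fixP _ (hZ.le q.2.2)) (smul_ne q.1.2.1.1 hxα) e
      · apply hx'
        refine Set.mem_insert_of_mem _ ⟨(q.2 : G)⁻¹ * z, Z.mul_mem (Z.inv_mem q.2.2) hz, ?_⟩
        apply MulAction.injective (q.1 : G)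
        simp only
        have hq : (q.1 : G) • β = β := q.1.2.2
        rw [← mul_smul, ← q.1.2.1.2 _ (Z.mul_mem (Z.inv_mem q.2.2) hz), mul_smul, hq, mul_smul,
          e, inv_smul_smul]⟩
    have hF : Function.Injective F := by
      rintro ⟨j1, z1⟩ ⟨j2, z2⟩ e
      have e' : (z1 : G) • (j1 : G) • x = (z2 : G) • (j2 : G) • x := congrArg Subtype.val e
      have h2 : (j2 : G)⁻¹ * j1 = 1 := by
        apply hJsemi _ (J.mul_mem (J.inv_mem j2.2) j1.2) ((z1 : G)⁻¹ * z2)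
          (Z.mul_mem (Z.inv_mem z1.2) z2.2)
        rw [mul_smul, inv_smul_eq_iff, ← mul_smul (j2 : G),
          ← j2.2.1.2 _ (Z.mul_mem (Z.inv_mem z1.2) z2.2), mul_smul, mul_smul, ← e', inv_smul_smul]
      rw [inv_mul_eq_one] at h2
      rw [← h2] at e'
      have h3 := h.inj (hZ.le z1.2) (hZ.le z2.2) (smul_ne j2.2.1.1 hxα) e'
      rw [Subtype.ext h2, Subtype.ext h3]
    have hc := Nat.card_le_card_of_injective F hF
    rw [Nat.card_prod, hZ.card, Nat.card_coe_set_eq, Set.ncard_compl,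
      Set.ncard_insert_of_notMem (h.blk hZ h.ne.symm).notMem, (h.blk hZ h.ne.symm).card,
      h.hΩ] at hc
    by_contra hcon
    push Not at hcon
    have h3 : p * p ≤ Nat.card J * p := Nat.mul_le_mul_right p hcon
    have := hp.out.pos
    have h5 : p ≤ p * p := Nat.le_mul_self p
    rw [sq] at hc
    generalize p * p = A at *
    generalize Nat.card J * p = B at *
    omega
  have hidx : (P.subgroupOf C).index < p := by
    refine lt_of_le_of_lt ?_ hJ
    refine Nat.card_le_card_of_surjective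
      (fun j : J => ((⟨j, j.2.1⟩ : C) : C ⧸ P.subgroupOf C)) ?_
    intro q
    obtain ⟨g, rfl⟩ := QuotientGroup.mk_surjective q
    obtain ⟨u, hu, e⟩ := h.trans h.ne.symm (smul_ne (g⁻¹).2.1 h.ne.symm)
    refine ⟨⟨g * u, C.mul_mem g.2 (hPC hu), ?_⟩, ?_⟩
    · change ((g : G) * u) • β = β
      rw [mul_smul, e, Subgroup.coe_inv, smul_inv_smul]
    · rw [QuotientGroup.eq, Subgroup.mem_subgroupOf]
      simpa using hu
  have hpg : IsPGroup p (P.subgroupOf C) := by
    rw [IsPGroup.iff_card, Nat.card_congr (Subgroup.subgroupOfEquivOfLe hPC).toEquiv]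
    exact ⟨2, h.cardP⟩
  have hpos : 0 < (P.subgroupOf C).index := Nat.pos_of_ne_zero Subgroup.index_ne_zero_of_finite
  let Q : Sylow p C := hpg.toSylow (Nat.not_dvd_of_pos_of_lt hpos hidx)
  have hQ : Nat.card (Sylow p C) = 1 := by
    have h2 : Nat.card (Sylow p C) ∣ (P.subgroupOf C).index := Q.card_dvd_index
    have h3 := Nat.le_of_dvd hpos h2
    have h4 := card_sylow_modEq_one p C
    unfold Nat.ModEq at h4
    rwa [Nat.mod_eq_of_lt (by omega), Nat.mod_eq_of_lt hp.out.one_lt] at h4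
  have : Subsingleton (Sylow p C) := (Nat.card_eq_one_iff_unique.1 hQ).1
  have hN : (P.subgroupOf C).Normal := Q.normal_of_subsingleton
  intro g hg u hu
  exact hN.conj_mem ⟨u, hPC hu⟩ hu ⟨g, hg⟩

theorem not_normal_Z (h : St p α β P) (hZ : Sys p α P Z)
    (hn : ∀ g : G, g • α = α → ∀ z ∈ Z, g * z * g⁻¹ ∈ Z) : False := by
  apply h.not_normal hZ
  intro g hg u hu
  have hv : g * u * g⁻¹ ∈ cen α Z := by
    refine ⟨?_, fun z hz => ?_⟩
    · change (g * u * g⁻¹) • α = α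
      rw [mul_smul, mul_smul, inv_smul_eq_iff.2 hg.symm, h.fixP u hu, hg]
    · have h1 := hn g⁻¹ (inv_smul_eq_iff.2 hg.symm) z hz
      have h2 := h.comm (hZ.le h1) hu
      calc z * (g * u * g⁻¹) = g * (g⁻¹ * z * g⁻¹⁻¹ * u) * g⁻¹ := by group
        _ = _ := by rw [h2]; group
  obtain ⟨w, hw, e⟩ := h.trans h.ne.symm (smul_ne hv.1 h.ne.symm)
  exact h.mem_of_norm le_rfl hv.1 (h.normal_cen hZ hn _ hv) (k := 2)
    (by rw [conj_pow, h.pow_eq hu]; simp) hw e.symm

end St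

end Cfsg.Agent.Perm.Dbl
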