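import Mathlib
import Cfsg.Agent.Perm.DblD

/-! 2-transitive groups of degree `p^2+1` with imprimitive point stabiliser: the case where the
kernel on the blocks is 2-transitive on each block. -/

set_option autoImplicit false
set_option linter.unusedSectionVars false

namespace Cfsg.Agent.Perm.Dbl

open MulAction

variable {G Ω : Type*} [Group G] [MulAction G Ω]
variable {p : ℕ} [hp : Fact p.Prime] {α β : Ω} {P Z : Subgroup G}

/-- The kernel is 2-transitive on every block. -/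
def TwoTr (α : Ω) (Z : Subgroup G) : Prop :=
  ∀ x : Ω, x ≠ α → ∀ z1 ∈ Z, ∀ z2 ∈ Z, z1 ≠ 1 → z2 ≠ 1 →
    ∃ k ∈ kerS Ω Z, k • x = x ∧ k • z1 • x = z2 • x

namespace St

variable [Finite G] [Finite Ω] [FaithfulSMul G Ω]

theorem exists_two (h : St p α β P) (hZ : Sys p α P Z) (z : G) :
    ∃ w ∈ Z, w ≠ 1 ∧ w ≠ z := by
  obtain ⟨z0, hz0, h0⟩ := exists_ne_one hZ
  by_cases e : z0 = z
  · refine ⟨z0⁻¹, Z.inv_mem hz0, inv_ne_one.2 h0, fun e1 => h0 ?_⟩
    rw [← e] at e1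
    have h2 : z0 ^ 2 = 1 := by rw [sq]; nth_rewrite 1 [← e1]; simp
    have h3 := zpow_p hZ hz0
    obtain ⟨t, ht⟩ := hp.out.odd_of_ne_two h.p2
    rwa [ht, pow_succ, pow_mul, h2, one_pow, one_mul] at h3
  · exact ⟨z0, hz0, h0, e⟩

theorem twoTr_and_norm (h : St p α β P) (hZ : Sys p α P Z) :
    TwoTr α Z ∧ ∃ k ∈ kerS Ω Z, k ∉ Z ∧ ∀ z ∈ Z, k * z * k⁻¹ ∈ Z := by
  set K := kerS Ω Z with hK
  have hZK : Z ≤ K := le_kerS Z
  have hst : ∀ k ∈ K, ∀ x ∈ orb Z β, k • x ∈ orb Z β := by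
    rintro k hk _ ⟨z, hz, rfl⟩
    obtain ⟨z', hz', e⟩ := hk (z • β)
    exact ⟨z' * z, Z.mul_mem hz' hz, by rw [e, mul_smul]⟩
  let D := Fx.subAct K (orb Z β) hst
  have hDc : Nat.card D = p := by
    rw [← (h.blk hZ h.ne.symm).card, ← Nat.card_coe_set_eq]; rfl
  have hval : ∀ (k : K) (x : D), ((k • x : D) : Ω) = (k : G) • (x : Ω) := fun _ _ => rfl
  let pt : ∀ z ∈ Z, D := fun z hz => ⟨z • β, z, hz, rfl⟩
  have hfaith : ∀ k : K, (∀ x : D, k • x = x) → k = 1 := by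
    intro k hk
    apply Subtype.ext
    exact h.ker_faithful hZ h.ne.symm k.2 (fun z hz => congrArg Subtype.val (hk (pt z hz)))
  have : FaithfulSMul K D := ⟨fun {a b} hab => by
    have := hfaith (b⁻¹ * a) (fun x => by rw [mul_smul, hab, inv_smul_smul])
    rw [inv_mul_eq_one] at this
    exact this.symm⟩
  have : IsPretransitive K D := ⟨by
    rintro ⟨_, z1, hz1, rfl⟩ ⟨_, z2, hz2, rfl⟩
    refine ⟨⟨z2 * z1⁻¹, hZK (Z.mul_mem hz2 (Z.inv_mem hz1))⟩, Subtype.ext ?_⟩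
    rw [hval]
    simp [mul_smul]⟩
  obtain ⟨z0, hz0, h0⟩ := exists_ne_one hZ
  let τ : K := ⟨z0, hZK hz0⟩
  obtain ⟨e, -, he⟩ := exists_coord_of_pow_eq_one (G := K) hDc (τ := τ) (x₀ := pt 1 Z.one_mem)
    (Subtype.ext (zpow_p hZ hz0)) (fun e1 => h0 (by
      have := congrArg Subtype.val e1
      rw [hval] at this
      simp only [pt, one_smul] at this
      exact h.semi (hZ.le hz0) h.ne.symm this))
  have h2 : IsMultiplyPretransitive K D 2 := by
    rcases affine_or_two_pretransitive he with ha | h2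
    · exfalso
      have hKn : ∀ k ∈ K, ∀ z ∈ Z, k * z * k⁻¹ ∈ Z := by
        intro k hk z hz
        let k' : K := ⟨k, hk⟩
        obtain ⟨a, b, hab⟩ := ha k'
        have h1 : k' * τ * k'⁻¹ ∈ Subgroup.zpowers τ := by
          apply mem_zpowers_of_translation he (b := a)
          intro x
          have h2 := hab (k'⁻¹ • x)
          rw [smul_inv_smul] at h2
          rw [mul_smul, mul_smul, hab, he, h2]; ring
        obtain ⟨i, hi⟩ := h1
        have hi' : z0 ^ i = k * z0 * k⁻¹ := congrArg Subtype.val hi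
        rw [← gen hZ hz0 h0] at hz
        obtain ⟨j, rfl⟩ := hz
        simp only
        rw [← conj_zpow, ← hi']
        exact Z.zpow_mem (Z.zpow_mem hz0 i) j
      apply h.not_normal_Z hZ
      intro g hg z hz
      have hv := ker_conj hZ hg (hZK hz)
      obtain ⟨w, hw, e1⟩ := hv β
      exact h.mem_of_norm hZ.le (h.ker_fix hZ hv) (hKn _ hv) (k := 1)
        (by rw [pow_one, conj_pow, zpow_p hZ hz]; simp) hw e1
    · exact h2
  have htw : TwoTr α Z := by
    intro x hx z1 hz1 z2 hz2 hn1 hn2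
    obtain ⟨u, hu, rfl⟩ := h.trans h.ne.symm hx
    have hne : ∀ z (hz : z ∈ Z), z ≠ 1 → pt 1 Z.one_mem ≠ pt z hz := by
      intro z hz hn e1
      have := congrArg Subtype.val e1
      simp only [pt, one_smul] at this
      exact hn (h.semi (hZ.le hz) h.ne.symm this.symm)
    obtain ⟨k, hk1, hk2⟩ := exists_smul_eq_two h2 (hne z1 hz1 hn1) (hne z2 hz2 hn2)
    have e1 := congrArg Subtype.val hk1
    have e2 := congrArg Subtype.val hk2
    rw [hval] at e1 e2
    simp only [pt, one_smul] at e1 e2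
    refine ⟨u * k * u⁻¹, ker_conj hZ (h.fixP u hu) k.2, ?_, ?_⟩
    · rw [mul_smul, mul_smul, inv_smul_smul, e1]
    · rw [← mul_smul z1, h.comm (hZ.le hz1) hu, mul_smul u z1, mul_smul, mul_smul, inv_smul_smul,
        e2, ← mul_smul, h.comm hu (hZ.le hz2), mul_smul]
  refine ⟨htw, ?_⟩
  have hpg : IsPGroup p (Z.subgroupOf K) := by
    rw [IsPGroup.iff_card, Nat.card_congr (Subgroup.subgroupOfEquivOfLe hZK).toEquiv]
    exact ⟨1, by rw [hZ.card, pow_one]⟩
  obtain ⟨Q, hQ⟩ := hpg.exists_le_sylow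
  have hQc := card_sylow_of_prime_degree hDc Q
  have hQe : Z.subgroupOf K = Q := Subgroup.eq_of_le_of_card_ge hQ (by
    rw [hQc, Nat.card_congr (Subgroup.subgroupOfEquivOfLe hZK).toEquiv, hZ.card])
  by_contra hc
  push Not at hc
  have h3 := eq_sylow_of_normal_prime_degree hDc ⊤ Q le_top (by
    intro k hk
    by_contra hkQ
    rw [← hQe] at hkQ
    obtain ⟨z, hz, hz'⟩ := hc k k.2 hkQ
    apply hz'
    have h4 := (Subgroup.mem_normalizer_iff.1 (Subgroup.mem_inf.1 hk).2 ⟨z, hZK hz⟩).1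
      (by rw [← hQe]; exact hz)
    rw [← hQe] at h4
    exact h4)
  obtain ⟨w, hw, hw1, hw2⟩ := h.exists_two hZ z0
  obtain ⟨k, hk, e1, e2⟩ := htw β h.ne.symm z0 hz0 w hw h0 hw1
  have hkZ : k ∈ Z := by
    have : (⟨k, hk⟩ : K) ∈ (Q : Subgroup K) := h3 ▸ Subgroup.mem_top _
    rw [← hQe] at this
    exact this
  rw [h.semi (hZ.le hkZ) h.ne.symm e1, one_smul] at e2
  exact hw2 (h.inj (hZ.le hz0) (hZ.le hw) h.ne.symm e2).symm

theorem elem (h : St p α β P) (hZ : Sys p α P Z) {c : G} (hc : c ∈ P) : c ^ p = 1 := by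
  obtain ⟨-, k, hk, hkZ, hn⟩ := h.twoTr_and_norm hZ
  by_contra hcp
  have hn' : ∀ z ∈ Z, k⁻¹ * z * k ∈ Z := by
    have := Subgroup.mem_normalizer_fintype (S := (Z : Set G)) (x := k) hn
    intro z hz
    have h1 := (Subgroup.mem_normalizer_iff.1 (Subgroup.inv_mem _ this) z).1 hz
    rwa [inv_inv] at h1
  have h1 : k * c * k⁻¹ * c⁻¹ ∈ Z := by
    apply h.ker_cent hZ
    · have := Subgroup.mul_mem _ hk (ker_conj hZ (h.fixP c hc) (Subgroup.inv_mem _ hk))
      simpa only [mul_assoc] using this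
    · intro z hz
      have e1 := h.comm hc (hZ.le (hn' z hz))
      have e2 := h.comm (P.inv_mem hc) (hZ.le hz)
      calc k * c * k⁻¹ * c⁻¹ * z = k * c * k⁻¹ * (c⁻¹ * z) := by group
        _ = k * (c * (k⁻¹ * z * k)) * k⁻¹ * c⁻¹ := by rw [e2]; group
        _ = _ := by rw [e1]; group
  have h2 : k * c ^ p * k⁻¹ = c ^ p := by
    have e1 : k * c * k⁻¹ = (k * c * k⁻¹ * c⁻¹) * c := by group
    rw [← conj_pow, e1, Commute.mul_pow (h.comm (hZ.le h1) hc), zpow_p hZ h1, one_mul]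
  apply hkZ
  apply h.ker_cent hZ hk
  intro z hz
  rw [← gen hZ (h.pow_mem hZ hc) hcp] at hz
  obtain ⟨j, rfl⟩ := hz
  have : Commute k (c ^ p) := by rw [mul_inv_eq_iff_eq_mul] at h2; exact h2
  exact (this.zpow_right j).eq

theorem pow_val_add' {c : G} (hc : c ^ p = 1) (a b : ZMod p) :
    c ^ (a + b).val = c ^ a.val * c ^ b.val := by
  rw [← pow_add, ZMod.val_add]
  conv_rhs => rw [← Nat.mod_add_div (a.val + b.val) p, pow_add, pow_mul, hc, one_pow, mul_one]

/-- The point stabiliser in the kernel fixes a point in a second block. -/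
theorem exists_fixed (h : St p α β P) (hZ : Sys p α P Z) :
    ∃ u ∈ P, u ∉ Z ∧ ∀ k ∈ kerS Ω Z, k • β = β → k • u • β = u • β := by
  classical
  obtain ⟨htw, -⟩ := h.twoTr_and_norm hZ
  obtain ⟨c, hc, hcZ⟩ := h.exists_notMem hZ
  obtain ⟨z0, hz0, h0⟩ := exists_ne_one hZ
  have hcp := h.elem hZ hc
  have hzp := zpow_p hZ hz0
  set K := kerS Ω Z with hK
  let F : ZMod p × ZMod p → G := fun q => c ^ q.1.val * z0 ^ q.2.val
  have hFP : ∀ q, F q ∈ P := fun q => P.mul_mem (P.pow_mem hc _) (P.pow_mem (hZ.le hz0) _)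
  have hFadd : ∀ q r, F (q + r) = F q * F r := by
    intro q r
    simp only [F, Prod.fst_add, Prod.snd_add, pow_val_add' hcp, pow_val_add' hzp]
    have := h.comm (P.pow_mem hc r.1.val) (P.pow_mem (hZ.le hz0) q.2.val)
    calc _ = c ^ q.1.val * (c ^ r.1.val * z0 ^ q.2.val) * z0 ^ r.2.val := by group
      _ = _ := by rw [this]; group
  have hF0 : F 0 = 1 := by simp [F]
  have hzval : ∀ z ∈ Z, ∃ a : ZMod p, z = z0 ^ a.val := by
    intro z hz
    rw [← gen hZ hz0 h0] at hz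
    obtain ⟨n, hn, rfl⟩ := Finset.mem_image.1 ((mem_zpowers_iff_mem_range_orderOf).1 hz)
    refine ⟨n, ?_⟩
    rw [ZMod.val_natCast, ← pow_mod_orderOf, ← pow_mod_orderOf z0 (n % p),
      orderOf_eq_prime hzp h0, Nat.mod_mod]
  have hFZ : ∀ q, F q ∈ Z → q.1 = 0 := by
    intro q hq
    by_contra hne
    have h1 : c ^ q.1.val ∈ Z := by
      have := Z.mul_mem hq (Z.inv_mem (Z.pow_mem hz0 q.2.val))
      simpa [F] using this
    apply hcZ
    have h2 := Z.pow_mem h1 (q.1⁻¹).val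
    rw [← pow_mul, ← pow_mod_orderOf, orderOf_eq_prime hcp (fun e => hcZ (e ▸ Z.one_mem)),
      ← ZMod.val_mul, mul_inv_cancel₀ hne, ZMod.val_one, pow_one] at h2
    exact h2
  have hFinj : Function.Injective F := by
    intro q r e
    have h1 : F (q - r) = 1 := by
      have := hFadd (q - r) r
      rw [sub_add_cancel, e] at this
      exact (mul_eq_right.1 this.symm)
    have h2 := hFZ _ (h1 ▸ Z.one_mem)
    have h3 : z0 ^ (q - r).2.val = 1 := by simpa [F, h2] using h1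
    have h4 := orderOf_dvd_of_pow_eq_one h3
    rw [orderOf_eq_prime hzp h0] at h4
    have h5 : (q - r).2 = 0 := by
      rw [← ZMod.val_eq_zero]
      exact Nat.eq_zero_of_dvd_of_lt h4 (ZMod.val_lt _)
    exact sub_eq_zero.1 (Prod.ext h2 h5)
  have hFsurj : ∀ u ∈ P, ∃ q, F q = u := by
    have hb := (show Function.Injective (fun q => (⟨F q, hFP q⟩ : P)) from
      fun q r e => hFinj (congrArg Subtype.val e)).bijective_of_nat_card_le (by
        rw [h.cardP, Nat.card_prod, Nat.card_zmod, sq])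
    intro u hu
    obtain ⟨q, hq⟩ := hb.2 ⟨u, hu⟩
    exact ⟨q, congrArg Subtype.val hq⟩
  let E : ZMod p × ZMod p → Ω := fun q => F q • β
  have hEinj : Function.Injective E := fun q r e =>
    hFinj (h.inj (hFP q) (hFP r) h.ne.symm e)
  have hEne : ∀ q, E q ≠ α := fun q => smul_ne (h.fixP _ (hFP q)) h.ne.symm
  have hperm : ∀ k : G, k • α = α →
      ∃ σ : Equiv.Perm (ZMod p × ZMod p), ∀ q, E (σ q) = k • E q := by
    intro k hk
    have : ∀ q, ∃ r, E r = k • E q := by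
      intro q
      obtain ⟨u, hu, e⟩ := h.trans h.ne.symm (smul_ne hk (hEne q))
      obtain ⟨r, rfl⟩ := hFsurj u hu
      exact ⟨r, e⟩
    choose σ hσ using this
    have hinj : Function.Injective σ := fun q r e => hEinj (MulAction.injective k (by
      simp only; rw [← hσ, ← hσ, e]))
    exact ⟨Equiv.ofBijective σ (Finite.injective_iff_bijective.1 hinj), hσ⟩
  have hE0 : E 0 = β := by simp only [E, hF0, one_smul]
  have hEz : ∀ (i a b : ZMod p), z0 ^ b.val • E (i, a) = E (i, a + b) := by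
    intro i a b
    have : ((i, a + b) : ZMod p × ZMod p) = (0, b) + (i, a) := by simp [add_comm]
    simp only [E]
    rw [this, hFadd, mul_smul (F _)]
    simp [F]
  let Γ : Set (Equiv.Perm (ZMod p × ZMod p)) :=
    {σ | ∃ k ∈ K, k • β = β ∧ ∀ q, E (σ q) = k • E q}
  let f : ZMod p × ZMod p → ℤ := fun q =>
    if ∃ k ∈ K, k • β = β ∧ E q = k • E (1, 0) then 1 else 0
  have hblock : ∀ k ∈ K, ∀ a, ∃ b, k • E (1, a) = E (1, b) := by
    intro k hk a
    obtain ⟨z, hz, e⟩ := hk (E (1, a))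
    obtain ⟨b, rfl⟩ := hzval z hz
    exact ⟨a + b, by rw [e, hEz]⟩
  obtain ⟨j, hj⟩ := sring h.p2 (Γ := Γ) (f := f) (by
    rintro σ ⟨k, -, hk, e⟩
    apply hEinj
    rw [e, hE0, hk]) (by
    rintro σ ⟨k, hk, hkβ, e⟩ u
    obtain ⟨z, hz, e1⟩ := hk (E u)
    have e2 : F (σ u) = z * F u :=
      h.inj (hFP _) (P.mul_mem (hZ.le hz) (hFP u)) h.ne.symm (by
        rw [mul_smul z]; exact (e u).trans e1)
    have hk' : (F (σ u))⁻¹ * k * F u ∈ K := by
      have h1 := ker_conj hZ (h.fixP _ (P.inv_mem (hFP u)))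
        (K.mul_mem (K.inv_mem (le_kerS Z hz)) hk)
      rw [e2]
      simpa only [mul_inv_rev, inv_inv, mul_assoc] using h1
    obtain ⟨σ', hσ'⟩ := hperm _ (h.ker_fix hZ hk')
    refine ⟨σ', ⟨_, hk', ?_, hσ'⟩, fun x => hEinj ?_⟩
    · rw [mul_smul, mul_smul, inv_smul_eq_iff]; exact (e u).symm
    · rw [hσ', mul_smul, mul_smul, inv_smul_eq_iff]
      simp only [E]
      rw [← mul_smul (F u), ← hFadd, ← mul_smul (F (σ u)), ← hFadd, add_sub_cancel, add_comm u]
      exact (e (x + u)).symm) (by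
    intro a b ha hb
    have hne : ∀ a : ZMod p, a ≠ 0 → z0 ^ a.val ≠ 1 := by
      intro a ha e
      apply ha
      have : F (0, a) = F 0 := by simp [F, e]
      exact congrArg Prod.snd (hFinj this)
    obtain ⟨k, hk, e1, e2⟩ := htw β h.ne.symm _ (Z.pow_mem hz0 a.val) _ (Z.pow_mem hz0 b.val)
      (hne a ha) (hne b hb)
    obtain ⟨σ, hσ⟩ := hperm k (h.ker_fix hZ hk)
    refine ⟨σ, ⟨k, hk, e1, hσ⟩, hEinj ?_⟩
    rw [hσ]
    simpa [E, F] using e2) (by
    rintro σ ⟨k, hk, hkβ, e⟩ q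
    simp only [f]
    congr 1
    apply propext
    constructor
    · rintro ⟨k1, hk1, hk1β, e1⟩
      refine ⟨k⁻¹ * k1, K.mul_mem (K.inv_mem hk) hk1, ?_, ?_⟩
      · rw [mul_smul, hk1β, inv_smul_eq_iff, hkβ]
      · rw [mul_smul, ← e1, e, inv_smul_smul]
    · rintro ⟨k1, hk1, hk1β, e1⟩
      refine ⟨k * k1, K.mul_mem hk hk1, ?_, ?_⟩
      · rw [mul_smul, hk1β, hkβ]
      · rw [mul_smul, ← e1, e]) (by
    intro q hq
    simp only [f]
    rw [if_neg]
    rintro ⟨k, hk, -, e⟩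
    obtain ⟨b, hb⟩ := hblock k hk 0
    rw [hb] at e
    exact hq (congrArg Prod.fst (hEinj e)))
  have hO : ∀ a b, a ≠ j → b ≠ j → (∃ k ∈ K, k • β = β ∧ E (1, a) = k • E (1, 0)) →
      ∃ k ∈ K, k • β = β ∧ E (1, b) = k • E (1, 0) := by
    intro a b ha hb h1
    have := hj a b ha hb
    simp only [f, if_pos h1] at this
    by_contra h2
    rw [if_neg h2] at this
    exact absurd this (by norm_num)
  suffices hs : ∃ a, ∀ k ∈ K, k • β = β → k • E (1, a) = E (1, a) by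
    obtain ⟨a, ha⟩ := hs
    exact ⟨F (1, a), hFP _, fun e => one_ne_zero (hFZ _ e), ha⟩
  by_contra hcon
  push Not at hcon
  have hall : ∀ b, b ≠ j → ∃ k ∈ K, k • β = β ∧ E (1, b) = k • E (1, 0) := by
    by_cases hj0 : j = 0
    · obtain ⟨k, hk, hkβ, hne⟩ := hcon 0
      obtain ⟨a, ha⟩ := hblock k hk 0
      intro b hb
      exact hO a b (fun e => hne (by rw [ha, e, hj0])) hb ⟨k, hk, hkβ, ha.symm⟩
    · intro b hb
      exact hO 0 b (Ne.symm hj0) hb ⟨1, K.one_mem, one_smul _ _, (one_smul _ _).symm⟩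
  have hall' : ∀ b, ∃ k ∈ K, k • β = β ∧ E (1, b) = k • E (1, 0) := by
    intro b
    by_cases hb : b = j
    · subst hb
      obtain ⟨k, hk, hkβ, hne⟩ := hcon b
      obtain ⟨a, ha⟩ := hblock k hk b
      obtain ⟨k1, hk1, hk1β, e⟩ := hall a (fun e => hne (by rw [ha, e]))
      refine ⟨k⁻¹ * k1, K.mul_mem (K.inv_mem hk) hk1, ?_, ?_⟩
      · rw [mul_smul, hk1β, inv_smul_eq_iff, hkβ]
      · rw [mul_smul, ← e, ← ha, inv_smul_smul]
    · exact hall b hb
  apply h.not_dvd (N := K ⊓ stabilizer G β) h.ne (fun n hn => ⟨h.ker_fix hZ hn.1, hn.2⟩)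
  have h1 : orbit ↥(K ⊓ stabilizer G β) (E (1, 0)) = orb Z (E (1, 0)) := by
    ext t
    rw [Fx.mem_orbit_sub]
    constructor
    · rintro ⟨n, hn, rfl⟩
      obtain ⟨z, hz, e1⟩ := hn.1 (E (1, 0))
      exact ⟨z, hz, e1.symm⟩
    · rintro ⟨z, hz, rfl⟩
      obtain ⟨b, rfl⟩ := hzval z hz
      obtain ⟨k, hk, hkβ, e⟩ := hall' (0 + b)
      exact ⟨k, ⟨hk, hkβ⟩, by rw [hEz, e]⟩
  have h2 := Fx.card_orbit_dvd (K ⊓ stabilizer G β) (E (1, 0))
  rwa [h1, Nat.card_coe_set_eq, h.ncard_orb hZ.le (hEne _), hZ.card] at h2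

end St

end Cfsg.Agent.Perm.Dbl
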