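import Mathlib
import Cfsg.Agent.Perm.DblE

/-! 2-transitive groups of degree `p^2+1` with imprimitive point stabiliser: the contradiction for
odd `p`. -/

set_option autoImplicit false
set_option linter.unusedSectionVars false

namespace Cfsg.Agent.Perm.Dbl

open MulAction

variable {G Ω : Type*} [Group G] [MulAction G Ω]
variable {p : ℕ} [hp : Fact p.Prime] {α β : Ω} {P Z U : Subgroup G}

namespace St

variable [Finite G] [Finite Ω] [FaithfulSMul G Ω]

theorem ker_comm (h : St p α β P) (hZ : Sys p α P Z) (hU : Sys p α P U)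
    (hZU : ∀ z ∈ Z, z ∈ U → z = 1) {k k' : G} (hk : k ∈ kerS Ω Z) (hk' : k' ∈ kerS Ω U) :
    k * k' = k' * k := by
  have h1 : k * k' * k⁻¹ * k'⁻¹ ∈ kerS Ω U :=
    Subgroup.mul_mem _ (ker_conj hU (h.ker_fix hZ hk) hk') (Subgroup.inv_mem _ hk')
  have h2 : k * k' * k⁻¹ * k'⁻¹ ∈ kerS Ω Z := by
    have := Subgroup.mul_mem _ hk (ker_conj hZ (h.ker_fix hU hk') (Subgroup.inv_mem _ hk))
    simpa only [mul_assoc] using this
  have h3 : k * k' * k⁻¹ * k'⁻¹ = 1 := by
    apply eq_one_of_smul_eq (X := Ω)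
    intro x
    by_cases hx : x = α
    · rw [hx]; exact h.ker_fix hZ h2
    obtain ⟨z, hz, e1⟩ := h2 x
    obtain ⟨u, hu, e2⟩ := h1 x
    have := h.inj (hZ.le hz) (hU.le hu) hx (e1.symm.trans e2)
    rw [e1, hZU z hz (this ▸ hu), one_smul]
  calc k * k' = (k * k' * k⁻¹ * k'⁻¹) * (k' * k) := by group
    _ = _ := by rw [h3, one_mul]

/-- The orbit of a point under the two-point stabiliser. -/
def horb (G : Type*) {Ω : Type*} [Group G] [MulAction G Ω] (α β y : Ω) : Set Ω :=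
  {t | ∃ g : G, g • α = α ∧ g • β = β ∧ g • y = t}

theorem horb_eq (h : St p α β P) (hZ : Sys p α P Z) {z : G} (hz : z ∈ Z) (h1 : z ≠ 1) :
    horb G α β (z • β) = orb Z β \ {β} := by
  ext t
  constructor
  · rintro ⟨g, hg1, hg2, rfl⟩
    refine ⟨(h.blk hZ h.ne.symm).blk g hg1 β (mem_orb_self Z β) (hg2.symm ▸ mem_orb_self Z β) _
      ⟨z, hz, rfl⟩, fun e => h1 ?_⟩
    exact h.semi (hZ.le hz) h.ne.symm
      (MulAction.injective g ((Set.mem_singleton_iff.1 e).trans hg2.symm))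
  · rintro ⟨⟨w, hw, rfl⟩, hne⟩
    obtain ⟨k, hk, e1, e2⟩ := (h.twoTr_and_norm hZ).1 β h.ne.symm z hz w hw h1
      (fun e => hne (by rw [e, one_smul]; rfl))
    exact ⟨k, h.ker_fix hZ hk, e1, e2⟩

omit hp in
theorem horb_swap {s : G} (hs1 : s • α = β) (hs2 : s • β = α) (y : Ω) :
    horb G α β (s • y) = (fun t => s • t) '' horb G α β y := by
  ext t
  constructor
  · rintro ⟨g, hg1, hg2, rfl⟩
    refine ⟨(s⁻¹ * g * s) • y, ⟨_, ?_, ?_, rfl⟩, ?_⟩
    · rw [mul_smul, mul_smul, hs1, hg2, inv_smul_eq_iff, hs1]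
    · rw [mul_smul, mul_smul, hs2, hg1, inv_smul_eq_iff, hs2]
    · simp only [mul_smul, smul_inv_smul]
  · rintro ⟨_, ⟨g, hg1, hg2, rfl⟩, rfl⟩
    refine ⟨s * g * s⁻¹, ?_, ?_, ?_⟩
    · rw [mul_smul, mul_smul, inv_smul_eq_iff.2 hs2.symm, hg2, hs2]
    · rw [mul_smul, mul_smul, inv_smul_eq_iff.2 hs1.symm, hg1, hs1]
    · simp only [mul_smul, inv_smul_smul]

theorem grid (h : St p α β P) (hZ : Sys p α P Z) (hU : Sys p α P U)
    (hZU : ∀ z ∈ Z, z ∈ U → z = 1) : False := by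
  have hp2 := hp.out.two_le
  obtain ⟨s, hs1, hs2⟩ := h.exists_swap
  obtain ⟨z0, hz0, h0⟩ := exists_ne_one hZ
  obtain ⟨u0, hu0, hu01⟩ := exists_ne_one hU
  have hprod : ∀ v ∈ P, ∃ u ∈ U, ∃ z ∈ Z, v = u * z := by
    let W : Subgroup G :=
      { carrier := {v | ∃ u ∈ U, ∃ z ∈ Z, v = u * z}
        one_mem' := ⟨1, U.one_mem, 1, Z.one_mem, by simp⟩
        mul_mem' := by
          rintro _ _ ⟨u1, hu1, z1, hz1, rfl⟩ ⟨u2, hu2, z2, hz2, rfl⟩
          refine ⟨u1 * u2, U.mul_mem hu1 hu2, z1 * z2, Z.mul_mem hz1 hz2, ?_⟩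
          have := h.comm (hZ.le hz1) (hU.le hu2)
          calc _ = u1 * (z1 * u2) * z2 := by group
            _ = _ := by rw [this]; group
        inv_mem' := by
          rintro _ ⟨u, hu, z, hz, rfl⟩
          refine ⟨u⁻¹, U.inv_mem hu, z⁻¹, Z.inv_mem hz, ?_⟩
          rw [mul_inv_rev, h.comm (hZ.le (Z.inv_mem hz)) (hU.le (U.inv_mem hu))] }
    have hW := h.eq_of_lt (W := W) (by
      rintro _ ⟨u, hu, z, hz, rfl⟩
      exact P.mul_mem (hU.le hu) (hZ.le hz)) hZ.card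
      (fun z hz => ⟨1, U.one_mem, z, hz, by simp⟩) (u := u0)
      ⟨u0, hu0, 1, Z.one_mem, by simp⟩ (fun e => hu01 (hZU u0 e hu0))
    intro v hv
    rw [← hW] at hv
    exact hv
  have hx0α : z0 • β ≠ α := smul_ne (h.fixP _ (hZ.le hz0)) h.ne.symm
  have hx0β : z0 • β ≠ β := fun e => h0 (h.semi (hZ.le hz0) h.ne.symm e)
  have hyα : s • z0 • β ≠ α := fun e => hx0β (MulAction.injective s (e.trans hs2.symm))
  have hyβ : s • z0 • β ≠ β := fun e => hx0α (MulAction.injective s (e.trans hs1.symm))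
  obtain ⟨v, hv, hvy⟩ := h.trans h.ne.symm hyα
  obtain ⟨u, hu, z, hz, rfl⟩ := hprod v hv
  have hsw := horb_swap (G := G) hs1 hs2 (z0 • β)
  rw [h.horb_eq hZ hz0 h0, ← hvy] at hsw
  have hmap : ∀ W : Subgroup G, horb G α β ((u * z) • β) = orb W β \ {β} →
      (∀ y ∈ insert α (orb Z β), s • y ∈ insert α (orb W β)) ∧
      (∀ y ∈ insert α (orb W β), s⁻¹ • y ∈ insert α (orb Z β)) := by
    intro W hW
    rw [hW] at hsw
    constructor
    · rintro y (rfl | hy)
      · rw [hs1]; exact Set.mem_insert_of_mem _ (mem_orb_self W β)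
      · by_cases hyb : y = β
        · rw [hyb, hs2]; exact Set.mem_insert _ _
        · have : s • y ∈ orb W β \ {β} := by rw [hsw]; exact ⟨y, ⟨hy, hyb⟩, rfl⟩
          exact Set.mem_insert_of_mem _ this.1
    · rintro y (rfl | hy)
      · rw [inv_smul_eq_iff.2 hs2.symm]; exact Set.mem_insert_of_mem _ (mem_orb_self Z β)
      · by_cases hyb : y = β
        · rw [hyb, inv_smul_eq_iff.2 hs1.symm]; exact Set.mem_insert _ _
        · have : y ∈ orb W β \ {β} := ⟨hy, hyb⟩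
          rw [hsw] at this
          obtain ⟨t, ht, rfl⟩ := this
          simp only [inv_smul_smul]
          exact Set.mem_insert_of_mem _ ht.1
  by_cases hu1 : u = 1
  · have hz1 : z ≠ 1 := fun e => hyβ (by rw [← hvy, hu1, e, one_mul, one_smul])
    have := (hmap Z (by rw [hu1, one_mul]; exact h.horb_eq hZ hz hz1)).1
    exact h.ne ((h.fix hZ h.ne.symm this).symm.trans hs1)
  by_cases hz1 : z = 1
  · obtain ⟨h1, h2⟩ := hmap U (by rw [hz1, mul_one]; exact h.horb_eq hU hu hu1)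
    have h3 := h.fix hZ h.ne.symm (s := s⁻¹ * u * s) (by
      intro y hy
      rw [mul_smul, mul_smul]
      apply h2
      rcases h1 y hy with e | ⟨w, hw, e⟩
      · rw [e, h.fixP u (hU.le hu)]; exact Set.mem_insert _ _
      · exact Set.mem_insert_of_mem _ ⟨u * w, U.mul_mem hu hw, by rw [mul_smul, e]⟩)
    rw [mul_smul, mul_smul, hs1, inv_smul_eq_iff, hs1] at h3
    exact hu1 (h.semi (hU.le hu) h.ne.symm h3)
  have hc : (horb G α β ((u * z) • β)).ncard = p - 1 := by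
    rw [hsw, Set.ncard_image_of_injective _ (MulAction.injective s),
      Set.ncard_sdiff_singleton_of_mem (mem_orb_self Z β), (h.blk hZ h.ne.symm).card]
  obtain ⟨u', hu', hu'1, hu'2⟩ := h.exists_two hU u
  have huα : u • β ≠ α := smul_ne (h.fixP _ (hU.le hu)) h.ne.symm
  have hzα : z • β ≠ α := smul_ne (h.fixP _ (hZ.le hz)) h.ne.symm
  have hsub : insert (u' • z • β) (orb Z (u • β) \ {u • β}) ⊆ horb G α β ((u * z) • β) := by
    rintro t (rfl | ⟨⟨w, hw, rfl⟩, hne⟩)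
    · obtain ⟨k, hk, e1, e2⟩ := (h.twoTr_and_norm hU).1 (z • β) hzα u hu u' hu' hu1 hu'1
      refine ⟨k, h.ker_fix hU hk, ?_, by rw [mul_smul, e2]⟩
      apply MulAction.injective z
      simp only
      rw [← mul_smul, h.ker_comm hZ hU hZU (le_kerS Z hz) hk, mul_smul, e1]
    · obtain ⟨k, hk, e1, e2⟩ := (h.twoTr_and_norm hZ).1 (u • β) huα z hz w hw hz1
        (fun e => hne (by rw [e, one_smul]; rfl))
      refine ⟨k, h.ker_fix hZ hk, ?_, by rw [h.comm (hU.le hu) (hZ.le hz), mul_smul, e2]⟩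
      apply MulAction.injective u
      simp only
      rw [← mul_smul, ← h.ker_comm hZ hU hZU hk (le_kerS U hu), mul_smul, e1]
  have hle := Set.ncard_le_ncard hsub (Set.toFinite _)
  rw [Set.ncard_insert_of_notMem, Set.ncard_sdiff_singleton_of_mem (mem_orb_self Z _),
    (h.blk hZ huα).card, hc] at hle
  · omega
  · rintro ⟨⟨w, hw, e⟩, -⟩
    rw [← mul_smul, ← mul_smul] at e
    have e1 := h.inj (P.mul_mem (hZ.le hw) (hU.le hu)) (P.mul_mem (hU.le hu') (hZ.le hz))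
      h.ne.symm e
    have e2 : z⁻¹ * w = u' * u⁻¹ := by
      rw [h.comm (hU.le hu') (hZ.le hz)] at e1
      calc z⁻¹ * w = z⁻¹ * (w * u) * u⁻¹ := by group
        _ = _ := by rw [e1]; group
    have e3 := hZU _ (Z.mul_mem (Z.inv_mem hz) hw) (e2 ▸ U.mul_mem hu' (U.inv_mem hu))
    rw [e2, mul_inv_eq_one] at e3
    exact hu'2 e3

theorem false_of_sys (h : St p α β P) (hZ : Sys p α P Z) : False := by
  set K := kerS Ω Z with hK
  have hconj : ∀ v ∈ P, ∀ w ∈ P, (∀ k ∈ K, k • β = β → k • w • β = w • β) ↔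
      (∀ k ∈ K, k • v • β = v • β → k • w • v • β = w • v • β) := by
    intro v hv w hw
    constructor
    · intro h1 k hk e
      have h2 := h1 (v⁻¹ * k * v⁻¹⁻¹) (ker_conj hZ (h.fixP _ (P.inv_mem hv)) hk)
        (by rw [inv_inv, mul_smul, mul_smul, e, inv_smul_smul])
      rw [inv_inv, mul_smul, mul_smul, inv_smul_eq_iff, ← mul_smul v w, h.comm hv hw,
        mul_smul] at h2
      exact h2
    · intro h1 k hk e
      have h2 := h1 (v * k * v⁻¹) (ker_conj hZ (h.fixP _ hv) hk)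
        (by rw [mul_smul, mul_smul, inv_smul_smul, e])
      rw [← mul_smul w v, ← h.comm hv hw, mul_smul v w, mul_smul, mul_smul, inv_smul_smul,
        smul_left_cancel_iff] at h2
      exact h2
  let M : Submonoid G :=
    { carrier := {u | u ∈ P ∧ ∀ k ∈ K, k • β = β → k • u • β = u • β}
      one_mem' := ⟨P.one_mem, fun k _ e => by rw [one_smul, e]⟩
      mul_mem' := by
        rintro a b ⟨ha, ha'⟩ ⟨hb, hb'⟩
        refine ⟨P.mul_mem ha hb, fun k hk e => ?_⟩
        rw [mul_smul]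
        exact (hconj b hb a ha).1 ha' k hk (hb' k hk e) }
  let U : Subgroup G :=
    { M with
      inv_mem' := by
        intro a ha
        have h1 : a⁻¹ = a ^ (p ^ 2 - 1) := by
          apply inv_eq_of_mul_eq_one_right
          rw [← pow_succ', Nat.sub_add_cancel (Nat.one_le_pow _ _ hp.out.pos), h.pow_eq ha.1]
        rw [h1]
        exact M.pow_mem ha _ }
  have hUm : ∀ u, u ∈ U ↔ u ∈ P ∧ ∀ k ∈ K, k • β = β → k • u • β = u • β := fun u => Iff.rfl
  have hZU : ∀ z ∈ Z, z ∈ U → z = 1 := by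
    intro z hz hzU
    by_contra h1
    obtain ⟨w, hw, hw1, hw2⟩ := h.exists_two hZ z
    obtain ⟨k, hk, e1, e2⟩ := (h.twoTr_and_norm hZ).1 β h.ne.symm z hz w hw h1 hw1
    rw [((hUm z).1 hzU).2 k hk e1] at e2
    exact hw2 (h.inj (hZ.le hz) (hZ.le hw) h.ne.symm e2).symm
  have hUP : U ≤ P := fun u hu => hu.1
  obtain ⟨u0, hu0, hu0Z, hu0'⟩ := h.exists_fixed hZ
  have hUc : Nat.card U = p := by
    rcases h.sub_cases hUP with e | e | e
    · have : u0 ∈ U := ⟨hu0, hu0'⟩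
      rw [e, Subgroup.mem_bot] at this
      exact absurd (this ▸ Z.one_mem) hu0Z
    · exact e
    · obtain ⟨z, hz, h1⟩ := exists_ne_one hZ
      exact absurd (hZU z hz (e ▸ hZ.le hz)) h1
  refine h.grid hZ (U := U) ⟨hUP, hUc, ?_⟩ hZU
  intro g hg x u hu
  by_cases hx : x = α
  · exact ⟨1, U.one_mem, by rw [hx, h.fixP u hu.1, one_smul]⟩
  obtain ⟨v, hv, rfl⟩ := h.trans h.ne.symm hx
  obtain ⟨v', hv', e'⟩ := h.trans h.ne.symm (smul_ne hg hx)
  obtain ⟨w, hw, e⟩ := h.trans (smul_ne hg hx) (smul_ne hg (smul_ne (h.fixP u hu.1) hx))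
  refine ⟨w, (hUm w).2 ⟨hw, (hconj v' hv' w hw).2 ?_⟩, e.symm⟩
  intro k hk e1
  rw [e'] at e1 ⊢
  rw [e]
  have h2 := (hconj v hv u hu.1).1 hu.2 (g⁻¹ * k * g⁻¹⁻¹)
    (ker_conj hZ (inv_smul_eq_iff.2 hg.symm) hk)
    (by rw [inv_inv, mul_smul, mul_smul, e1, inv_smul_smul])
  rwa [inv_inv, mul_smul, mul_smul, inv_smul_eq_iff] at h2

end St

theorem false_of_blk [Finite G] [Finite Ω] [FaithfulSMul G Ω] (hp2 : p ≠ 2)
    (hΩ : Nat.card Ω = p ^ 2 + 1) (h2 : IsMultiplyPretransitive G Ω 2) {Δ : Set Ω}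
    (hB : Blk G p α Δ) : False := by
  have hp2' := hp.out.two_le
  obtain ⟨β, hβ⟩ : Δ.Nonempty := Set.nonempty_of_ncard_ne_zero (by rw [hB.card]; omega)
  have hαβ : α ≠ β := fun e => hB.notMem (e ▸ hβ)
  obtain ⟨P0, hP0⟩ := Sylow.exists_subgroup_card_pow_prime (G := stabilizer G α) p (n := 2)
    (by rw [St.card_stab hΩ h2 hαβ]; exact dvd_mul_right _ _)
  let P : Subgroup G := P0.map (stabilizer G α).subtype
  have h : St p α β P :=
    { hΩ := hΩ, h2 := h2, ne := hαβ, p2 := hp2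
      nop := fun a b hab g ha hb k hk => hB.pelt hΩ h2 hab ha hb hk
      fixP := by rintro _ ⟨u, -, rfl⟩; exact u.2
      cardP := by rw [Subgroup.card_map_of_injective (Subgroup.subtype_injective _), hP0] }
  let Z : Subgroup G :=
    { carrier := {u | u ∈ P ∧ u • β ∈ Δ}
      one_mem' := ⟨P.one_mem, by rw [one_smul]; exact hβ⟩
      mul_mem' := fun {a b} ha hb => ⟨P.mul_mem ha.1 hb.1, by
        rw [mul_smul]; exact hB.blk a (h.fixP a ha.1) β hβ ha.2 _ hb.2⟩
      inv_mem' := fun {a} ha => ⟨P.inv_mem ha.1,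
        inv_mem_of_mapsTo (Set.toFinite _) (hB.blk a (h.fixP a ha.1) β hβ ha.2) β hβ⟩ }
  have hZP : Z ≤ P := fun u hu => hu.1
  have horb : orb Z β = Δ := by
    ext y
    constructor
    · rintro ⟨z, hz, rfl⟩; exact hz.2
    · intro hy
      obtain ⟨u, hu, rfl⟩ := h.trans (y := y) hαβ.symm (fun e => hB.notMem (e ▸ hy))
      exact ⟨u, ⟨hu, hy⟩, rfl⟩
  refine h.false_of_sys (Z := Z) ⟨hZP, by rw [← h.ncard_orb hZP hαβ.symm, horb, hB.card], ?_⟩
  intro g hg x z hz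
  by_cases hx : x = α
  · exact ⟨1, Z.one_mem, by rw [hx, h.fixP z hz.1, one_smul]⟩
  obtain ⟨u, hu, rfl⟩ := h.trans hαβ.symm hx
  obtain ⟨v, hv, e⟩ := h.trans hαβ.symm (St.smul_ne hg hx)
  have h3 := hB.blk (v⁻¹ * g * u)
    (by rw [mul_smul, mul_smul, h.fixP u hu, hg, inv_smul_eq_iff, h.fixP v hv]) β hβ
    (by rw [mul_smul, mul_smul, ← e, inv_smul_smul]; exact hβ) _ hz.2
  rw [← horb] at h3
  obtain ⟨z', hz', e'⟩ := h3
  refine ⟨z', hz', ?_⟩
  rw [mul_smul, mul_smul, eq_inv_smul_iff] at e'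
  rw [← mul_smul z, h.comm hz.1 hu, mul_smul, ← e', ← e, ← mul_smul v, h.comm hv hz'.1, mul_smul]

theorem card_of_blk_two [Finite G] [Finite Ω] [FaithfulSMul G Ω]
    (hΩ : Nat.card Ω = 2 ^ 2 + 1) (h2 : IsMultiplyPretransitive G Ω 2) {Δ : Set Ω}
    (hB : Blk G 2 α Δ) : Nat.card G = 20 := by
  have : Fact (Nat.Prime 2) := ⟨Nat.prime_two⟩
  obtain ⟨β, γ, hβγ, hΔ⟩ := Set.ncard_eq_two.1 hB.card
  have hβ : β ∈ Δ := by rw [hΔ]; simp
  have hαβ : α ≠ β := fun e => hB.notMem (e ▸ hβ)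
  have htr : IsPretransitive G Ω := by
    refine ⟨fun x y => ?_⟩
    by_cases hxy : x = y
    · exact ⟨1, by rw [one_smul, hxy]⟩
    · obtain ⟨g, hg, -⟩ := exists_smul_eq_two h2 hxy (Ne.symm hxy)
      exact ⟨g, hg⟩
  have hH : stabilizer G α ⊓ stabilizer G β = ⊥ := by
    rw [eq_bot_iff]
    intro g hg
    have hg1 : g • α = α := hg.1
    have hg2 : g • β = β := hg.2
    have hst := hB.blk g hg1 β hβ (hg2.symm ▸ hβ)
    have hg3 : g • γ = γ := by
      have := hst γ (by rw [hΔ]; simp)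
      rw [hΔ] at this
      rcases this with e | e
      · exact absurd (MulAction.injective g (e.trans hg2.symm)) hβγ.symm
      · exact e
    have hc : ((insert α Δ)ᶜ : Set Ω).ncard = 2 := by
      rw [Set.ncard_compl, Set.ncard_insert_of_notMem hB.notMem, hB.card, hΩ]; norm_num
    obtain ⟨x, y, hxy, hR⟩ := Set.ncard_eq_two.1 hc
    have hfix : ∀ t ∈ insert α Δ, g • t = t := by
      rw [hΔ]
      rintro t (rfl | rfl | rfl)
      · exact hg1
      · exact hg2
      · exact hg3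
    have hmap : ∀ t ∈ ((insert α Δ)ᶜ : Set Ω), g • t ∈ ((insert α Δ)ᶜ : Set Ω) := by
      intro t ht e
      exact ht (MulAction.injective g (hfix _ e) ▸ e)
    apply hB.pelt hΩ h2 hαβ hg1 hg2 (k := 1)
    apply eq_one_of_smul_eq (X := Ω)
    intro t
    rw [pow_one, sq, mul_smul]
    by_cases ht : t ∈ insert α Δ
    · rw [hfix t ht, hfix t ht]
    · have h1 := hmap t ht
      have h3 := hmap _ h1
      have ht' : t ∈ ((insert α Δ)ᶜ : Set Ω) := ht
      rw [hR] at h1 h3 ht'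
      by_cases e : g • t = t
      · rw [e, e]
      · have e2 : g • g • t ≠ g • t := fun e3 => e (MulAction.injective g e3)
        simp only [Set.mem_insert_iff, Set.mem_singleton_iff] at h1 h3 ht'
        rcases ht' with a | a <;> rcases h1 with b | b <;> rcases h3 with c | c <;>
          first | exact absurd (b.trans a.symm) e | exact absurd (c.trans b.symm) e2
                | exact c.trans a.symm
  rw [Fx.card_eq_card_mul α, St.card_stab hΩ h2 hαβ, hH, Subgroup.card_bot, hΩ]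
  norm_num

end Cfsg.Agent.Perm.Dbl
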