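import Mathlib
import Cfsg.Agent.Perm.Basic
import Cfsg.Agent.Perm.Derange
import Cfsg.Agent.Perm.Intertwiner
import Cfsg.Agent.Ch.Decomp
import Cfsg.Agent.S0157

/-!
# Symmetric designs with a 2-transitive automorphism group
-/

set_option autoImplicit false

namespace Cfsg.Agent.Perm.PG

open Subgroup MulAction Finset Cfsg.Agent.Perm.Der

theorem fix_eq_of_card_eq {G Ω Y : Type*} [Group G] [Finite G] [MulAction G Ω] [MulAction G Y]
    [Finite Ω] [Finite Y] [IsPretransitive G Y] (h2 : IsMultiplyPretransitive G Ω 2)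
    (hn : 2 ≤ Nat.card Ω) (hc : Nat.card Y = Nat.card Ω) (ho : norb G (Y × Ω) ≠ 1) :
    (∀ g : G, fix Y g = fix Ω g) ∧ IsMultiplyPretransitive G Y 2 := by
  have := Fintype.ofFinite G
  have hnt' : Nontrivial Ω := Finite.one_lt_card_iff_nontrivial.1 hn
  have hnt'' : Nontrivial Y := Finite.one_lt_card_iff_nontrivial.1 (hc ▸ hn)
  have : IsPretransitive G Ω := isPretransitive_of_is_two_pretransitive
  have hχ := (S0157.result Ω hn).2 h2
  have hG : (Nat.card G : ℂ) ≠ 0 := by exact_mod_cast Nat.card_pos.ne'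
  have s1 := sum_fix_of_trans (G := G) (Ω := Ω)
  have s2 := sum_fix_of_trans (G := G) (Ω := Y)
  have s3 := sum_fix (G := G) (Y × Ω)
  simp only [fix_prod] at s3
  have hρ := (Ch.isCharacter_permChar (G := G) Y).sub_irr IsIrrCharacter.one (by
    rw [S0157.inner_one]
    exact_mod_cast (norb_pos G (Ω := Y)).ne')
  have hpos := norb_pos G (Ω := Y × Ω)
  have key := hρ.eq_irr_of_apply_one hχ (by
    have : classInner ((fun g => (Nat.card (fixedBy Y g) : ℂ)) - fun _ : G => (1 : ℂ))
        (fun g : G => (Nat.card (fixedBy Ω g) : ℂ) - 1) = ((norb G (Y × Ω) - 1 : ℕ) : ℂ) := by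
      rw [classInner, inv_mul_eq_iff_eq_mul₀ hG, Nat.cast_sub hpos]
      have e : ∀ g : G, ((Nat.card (fixedBy Y g) : ℂ) - 1) *
          (starRingEnd ℂ) ((Nat.card (fixedBy Ω g) : ℂ) - 1) =
          ((fix Y g * fix Ω g : ℕ) : ℂ) - (fix Y g : ℕ) - (fix Ω g : ℕ) + 1 := by
        intro g
        simp only [fix, map_sub, map_natCast, map_one]
        push_cast
        ring
      simp only [Pi.sub_apply, e, Finset.sum_add_distrib, Finset.sum_sub_distrib, ← Nat.cast_sum,
        s1, s2, s3]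
      simp only [Finset.sum_const, Finset.card_univ, ← Nat.card_eq_fintype_card]
      push_cast
      ring
    rw [this]
    exact_mod_cast (by omega : norb G (Y × Ω) - 1 ≠ 0)) (by simp [hc])
  refine ⟨fun g => ?_, (S0157.result Y (hc ▸ hn)).1 (by rw [← key] at hχ; exact hχ)⟩
  have := congrFun key g
  simp only [Pi.sub_apply, sub_left_inj, Nat.cast_inj] at this
  exact this

section Des

variable {G Ω Y : Type*} [Group G] [MulAction G Ω] [MulAction G Y] [Fintype Ω] [Fintype Y]
  [DecidableEq Ω] [DecidableEq Y] {R : Ω → Y → Prop} [∀ x D, Decidable (R x D)]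

theorem sum_card_swap (s : Finset Ω) (t : Finset Y) :
    ∑ x ∈ s, #{D ∈ t | R x D} = ∑ D ∈ t, #{x ∈ s | R x D} := by
  simp only [card_filter]
  exact sum_comm

omit [Fintype Y] [DecidableEq Y] in
theorem card_filter_smul (g : G) (P Q : Ω → Prop) [DecidablePred P] [DecidablePred Q]
    (h : ∀ x, Q (g • x) ↔ P x) : #{x | P x} = #{x | Q x} :=
  card_bij (fun x _ => g • x) (fun x hx => by simpa [h] using hx)
    (fun _ _ _ _ e => MulAction.injective g e)
    (fun y hy => ⟨g⁻¹ • y, by simpa [← h] using hy, smul_inv_smul g y⟩)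

theorem count_pairs {k r l : ℕ} (hk : ∀ D, #{x | R x D} = k) (hr : ∀ x, #{D | R x D} = r)
    (hl : ∀ x y, x ≠ y → #{D | R x D ∧ R y D} = l) (x : Ω) :
    r * (k - 1) = (Fintype.card Ω - 1) * l := by
  have h := sum_card_swap (R := R) (univ.erase x) {D | R x D}
  rw [sum_const_nat (m := l) fun y hy => by
      rw [filter_filter, hl x y (ne_of_mem_erase hy).symm],
    sum_const_nat (m := k - 1) fun D hD => by
      rw [filter_erase, card_erase_of_mem (by simpa using hD), hk]] at h
  simpa [hr, card_erase_of_mem] using h.symm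

/-- A symmetric design with an automorphism group. -/
structure Des (G : Type*) [Group G] [MulAction G Ω] [MulAction G Y] (R : Ω → Y → Prop)
    [∀ x D, Decidable (R x D)] (k l : ℕ) : Prop where
  inv : ∀ (g : G) x D, R (g • x) (g • D) ↔ R x D
  blk : ∀ D, #{x | R x D} = k
  pt : ∀ x, #{D | R x D} = k
  blk2 : ∀ D E, D ≠ E → #{x | R x D ∧ R x E} = l
  pt2 : ∀ x y, x ≠ y → #{D | R x D ∧ R y D} = l
  lt : l < k
  pos : 0 < l
  eqn : k * (k - 1) = (Fintype.card Ω - 1) * l
  compl : k + 2 ≤ Fintype.card Ω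

theorem exists_des (inv : ∀ (g : G) x D, R (g • x) (g • D) ↔ R x D)
    (h2 : ∀ x y x' y' : Ω, x ≠ y → x' ≠ y' → ∃ g : G, g • x = x' ∧ g • y = y')
    (h2' : ∀ x y x' y' : Y, x ≠ y → x' ≠ y' → ∃ g : G, g • x = x' ∧ g • y = y')
    (hc : Fintype.card Y = Fintype.card Ω) {B : Y} {a b u v : Ω} (hab : a ≠ b) (huv : u ≠ v)
    (ha : R a B) (hb : R b B) (hu : ¬ R u B) (hv : ¬ R v B) : ∃ k l, Des G R k l := by
  have : Nontrivial Ω := ⟨⟨a, b, hab⟩⟩
  have hn : 1 < Fintype.card Ω := Fintype.one_lt_card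
  have : Nontrivial Y := Fintype.one_lt_card_iff_nontrivial.1 (hc ▸ hn)
  obtain ⟨C, hC⟩ := exists_ne B
  have hk : ∀ D, #{x | R x D} = #{x | R x B} := fun D => by
    obtain ⟨E, hE⟩ := exists_ne D
    obtain ⟨g, rfl, -⟩ := h2' B C D E hC.symm hE.symm
    exact (card_filter_smul g _ _ fun x => inv g x B).symm
  have hr : ∀ x, #{D | R x D} = #{D | R a D} := fun x => by
    obtain ⟨y, hy⟩ := exists_ne x
    obtain ⟨g, rfl, -⟩ := h2 a b x y hab hy.symm
    exact (card_filter_smul g _ _ fun D => inv g a D).symm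
  have hl : ∀ x y, x ≠ y → #{D | R x D ∧ R y D} = #{D | R a D ∧ R b D} := fun x y hxy => by
    obtain ⟨g, rfl, rfl⟩ := h2 a b x y hab hxy
    exact (card_filter_smul g _ _ fun D => by rw [inv, inv]).symm
  have hl' : ∀ D E, D ≠ E → #{x | R x D ∧ R x E} = #{x | R x B ∧ R x C} := fun D E hDE => by
    obtain ⟨g, rfl, rfl⟩ := h2' B C D E hC.symm hDE
    exact (card_filter_smul g _ _ fun x => by rw [inv, inv]).symm
  have e1 : #{D | R a D} = #{x | R x B} := by
    have h := sum_card_swap (R := R) univ univ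
    simp only [hk, hr, sum_const, card_univ, smul_eq_mul, hc] at h
    exact Nat.eq_of_mul_eq_mul_left (by omega) h
  have e2 := count_pairs hk hr hl a
  have e3 := count_pairs (R := fun D x => R x D) hr hk hl' B
  rw [e1] at e2 e3 hr
  rw [hc, e2] at e3
  rw [← Nat.eq_of_mul_eq_mul_left (by omega) e3] at hl'
  refine ⟨_, _, inv, hk, hr, hl', hl, ?_, card_pos.2 ⟨B, by simp [ha, hb]⟩, e2, ?_⟩
  · rw [← hl a u (by rintro rfl; exact hu ha), ← hr a]
    exact card_lt_card ⟨fun D => by simp +contextual, fun hh => by simpa [ha, hu] using @hh B⟩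
  · rw [← card_pair huv, ← card_union_of_disjoint (by simp [hu, hv])]
    exact card_le_univ _

namespace Des

variable {k l : ℕ} (h : Des G R k l)
include h

theorem smul_eq_of_fix {g : G} {B : Y} (hg : ∀ x, R x B → g • x = x) : g • B = B := by
  by_contra hne
  have h1 := h.blk2 _ _ hne
  rw [filter_congr (q := fun x => R x B) fun x _ => ⟨fun hx => hx.2, fun hx =>
    ⟨by rw [← hg x hx, h.inv]; exact hx, hx⟩⟩, h.blk] at h1
  exact h.lt.ne' h1

theorem smul_eq_of_mem {g : G} {B D : Y} (hg : ∀ x, R x B → g • x = x) {y : Ω} (hy : ¬ R y B)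
    (hgy : g • y = y) (hD : R y D) : g • D = D := by
  by_contra hne
  have hDB : D ≠ B := by rintro rfl; exact hy hD
  have h1 : ({x | R x D ∧ R x B} : Finset Ω) = ({x | R x (g • D) ∧ R x D} : Finset Ω) :=
    eq_of_subset_of_card_le (fun x hx => by
      simp only [mem_filter, mem_univ, true_and] at hx ⊢
      exact ⟨by rw [← hg x hx.2, h.inv]; exact hx.1, hx.1⟩)
      ((h.blk2 _ _ hne).trans (h.blk2 _ _ hDB).symm).le
  have h2 : y ∈ ({x | R x D ∧ R x B} : Finset Ω) := by
    rw [h1]
    simpa [hD] using (by rw [← hgy, h.inv]; exact hD : R y (g • D))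
  exact hy (by simpa [hD] using h2)

theorem eq_of_fix_off (h2' : ∀ x y x' y' : Y, x ≠ y → x' ≠ y' → ∃ g : G, g • x = x' ∧ g • y = y')
    {g : G} {B : Y} (hg : ∀ x, R x B → g • x = x) {x : Ω} (hx : g • x ≠ x) {y y' : Ω}
    (hy : ¬ R y B) (hy' : ¬ R y' B) (hgy : g • y = y) (hgy' : g • y' = y') : y = y' := by
  by_contra hne
  have key : ∀ x y, g • x ≠ x → ¬ R y B → g • y = y →
      ({D | R x D ∧ R y D} : Finset Y) = ({D | R (g • x) D ∧ R x D} : Finset Y) :=
    fun x y hx hy hgy =>
    eq_of_subset_of_card_le (fun D hD => by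
      simp only [mem_filter, mem_univ, true_and] at hD ⊢
      exact ⟨by rw [← h.smul_eq_of_mem hg hy hgy hD.2, h.inv]; exact hD.1, hD.1⟩)
      ((h.pt2 _ _ hx).trans (h.pt2 x y (by rintro rfl; exact hx hgy)).symm).le
  have key2 : ∀ x, g • x ≠ x →
      ({D | R x D ∧ R y D} : Finset Y) = ({D | R y D ∧ R y' D} : Finset Y) :=
    fun x hx => eq_of_subset_of_card_le (fun D hD => by
      have h1 := hD
      rw [key x y hx hy hgy, ← key x y' hx hy' hgy'] at h1
      simp only [mem_filter, mem_univ, true_and] at *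
      exact ⟨hD.2, h1.2⟩) ((h.pt2 _ _ hne).trans (h.pt2 x y (by rintro rfl; exact hx hgy)).symm).le
  obtain ⟨D, hD⟩ := card_pos.1 (h.pt2 _ _ hne ▸ h.pos)
  have hall : ∀ z, ¬ R z B → R z D := fun z hz => by
    by_cases hgz : g • z = z
    · rw [← key2 x hx, key x y hx hy hgy, ← key x z hx hz hgz] at hD
      exact (mem_filter.1 hD).2.2
    · rw [← key2 z hgz] at hD
      exact (mem_filter.1 hD).2.1
  have hDB : D ≠ B := by rintro rfl; exact hy (mem_filter.1 hD).2.1
  have hc : Fintype.card Y = Fintype.card Ω := by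
    have h1 := sum_card_swap (R := R) univ univ
    simp only [h.blk, h.pt, sum_const, card_univ, smul_eq_mul] at h1
    exact (Nat.eq_of_mul_eq_mul_right (by have := h.lt; omega) h1).symm
  have h1 := card_filter_add_card_filter_not (s := (univ : Finset Y)) (fun D => R y D)
  rw [h.pt, card_univ, hc] at h1
  obtain ⟨E, hE, E', hE', hEE⟩ := one_lt_card.1
    (by have := h.compl; omega : 1 < #{D | ¬ R y D})
  obtain ⟨s, e1, e2⟩ := h2' E E' B D hEE hDB.symm
  refine (mem_filter.1 hE').2 ((h.inv s _ _).1 (e2 ▸ hall _ fun hh => (mem_filter.1 hE).2 ?_))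
  exact (h.inv s _ _).1 (e1 ▸ hh)

theorem card_fixed_through {g : G} {B : Y} (hg : ∀ x, g • x = x ↔ R x B)
    (hf : #{D : Y | g • D = D} = k) {x : Ω} (hx : ¬ R x B) :
    #{D ∈ ({D : Y | g • D = D} : Finset Y) | R x D} = l := by
  have hB : g • B = B := h.smul_eq_of_fix fun x hx => (hg x).2 hx
  have h1 := sum_card_swap (R := R) {x | ¬ R x B} {D : Y | g • D = D}
  have h2 : ∀ x ∈ ({x | ¬ R x B} : Finset Ω),
      #{D ∈ ({D : Y | g • D = D} : Finset Y) | R x D} ≤ l := fun x hx => by
    rw [← h.pt2 (g • x) x fun e => (mem_filter.1 hx).2 ((hg x).1 e)]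
    refine card_le_card fun D hD => ?_
    simp only [mem_filter, mem_univ, true_and] at hD ⊢
    exact ⟨by rw [← hD.1, h.inv]; exact hD.2, hD.2⟩
  have h3 : ∑ D ∈ ({D : Y | g • D = D} : Finset Y), #{x ∈ ({x | ¬ R x B} : Finset Ω) | R x D} =
      (k - 1) * (k - l) := by
    rw [← add_sum_erase _ _ (a := B) (by simpa using hB), filter_filter,
      filter_false_of_mem (by simp), card_empty, zero_add,
      sum_const_nat (m := k - l) fun D hD => by
        have e := card_filter_add_card_filter_not (s := ({x | R x D} : Finset Ω))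
          (fun x => R x B)
        rw [filter_filter, h.blk2 _ _ (ne_of_mem_erase hD), h.blk, filter_comm] at e
        omega,
      card_erase_of_mem (by simpa using hB), hf]
  have h4 := card_filter_add_card_filter_not (s := (univ : Finset Ω)) (fun x => R x B)
  rw [h.blk, card_univ] at h4
  refine (sum_eq_sum_iff_of_le h2).1 ?_ x (by simpa using hx)
  rw [h1, h3, sum_const, smul_eq_mul]
  have e := h.eqn
  have hl := h.lt
  rw [← h4] at e
  obtain ⟨k, rfl⟩ : ∃ k', k = k' + 1 := ⟨k - 1, by omega⟩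
  rw [add_right_comm, Nat.add_sub_cancel, Nat.add_sub_cancel] at e
  rw [Nat.add_sub_cancel]
  zify [hl.le] at e ⊢
  linear_combination e

theorem smul_eq_of_inter {g : G} {B D D' : Y} (hg : ∀ x, g • x = x ↔ R x B)
    (hf : #{D : Y | g • D = D} = k) (hD : D ≠ B) (hD' : D' ≠ B)
    (hi : ∀ x, R x B → (R x D ↔ R x D')) (e : g • D = D) : g • D' = D' := by
  by_contra hne
  set F : Finset Y := {D : Y | g • D = D} with hF
  have key : ∀ D, D ≠ B → ∑ E ∈ F, #{x ∈ ({x | R x D} : Finset Ω) | R x E} =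
      ∑ x ∈ ({x | R x D ∧ R x B} : Finset Ω), #{E ∈ F | R x E} + (k - l) * l := fun D hD => by
    rw [← sum_card_swap, ← sum_filter_add_sum_filter_not _ (fun x => R x B), filter_filter,
      sum_const_nat (s := ({x ∈ ({x | R x D} : Finset Ω) | ¬ R x B})) (m := l)
        fun x hx => h.card_fixed_through hg hf (mem_filter.1 hx).2]
    have e := card_filter_add_card_filter_not (s := ({x | R x D} : Finset Ω)) (fun x => R x B)
    rw [filter_filter, h.blk2 _ _ hD, h.blk] at e
    rw [show #{x ∈ ({x | R x D} : Finset Ω) | ¬ R x B} = k - l by omega]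
  have h1 := key D hD
  have h2 := key D' hD'
  rw [filter_congr (q := fun x => R x D' ∧ R x B) fun x _ =>
    and_congr_left (hi x), ← h2, ← add_sum_erase _ _ (a := D) (by simpa [hF] using e),
    filter_filter, filter_congr (q := fun x => R x D) fun x _ => and_self_iff, h.blk,
    sum_const_nat (s := F.erase D) (m := l) fun E hE => by
      rw [filter_filter, h.blk2 _ _ (ne_of_mem_erase hE).symm],
    sum_const_nat (s := F) (m := l) fun E hE => by
      rw [filter_filter, h.blk2 D' E (by rintro rfl; exact hne (mem_filter.1 hE).2)],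
    card_erase_of_mem (by simpa [hF] using e), hf] at h1
  have hl := h.lt
  obtain ⟨k, rfl⟩ : ∃ k', k = k' + 1 := ⟨k - 1, by omega⟩
  simp only [Nat.add_sub_cancel, add_mul] at h1
  omega

end Des

end Des

end Cfsg.Agent.Perm.PG
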