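import Mathlib
import Cfsg.Agent.Perm.Witt
import Cfsg.Agent.Perm.FixTools

/-!
# Finite projective planes, perspectivities and Baer involutions
-/

set_option autoImplicit false

namespace Cfsg.Agent.Perm.PG

open Subgroup MulAction

variable {P L : Type*} {I : P → L → Prop} {n : ℕ}

/-- A projective plane of order `n`. -/
structure Plane (I : P → L → Prop) (n : ℕ) : Prop where
  line : ∀ x y, x ≠ y → ∃ l, I x l ∧ I y l
  point : ∀ l m, l ≠ m → ∃ x, I x l ∧ I x m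
  uniq : ∀ {x y l m}, I x l → I y l → I x m → I y m → x = y ∨ l = m
  cardL : ∀ l, {x | I x l}.ncard = n + 1
  cardP : ∀ x, {l | I x l}.ncard = n + 1
  two : 2 ≤ n
  neP : Nonempty P
  neL : Nonempty L

namespace Plane

variable (h : Plane I n)
include h

theorem dual : Plane (fun l x => I x l) n :=
  ⟨h.point, h.line, fun h1 h2 h3 h4 => (h.uniq h1 h3 h2 h4).symm, h.cardP, h.cardL, h.two, h.neL,
    h.neP⟩

theorem eq_line {x y : P} {l m : L} (hxy : x ≠ y) (h1 : I x l) (h2 : I y l) (h3 : I x m)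
    (h4 : I y m) : l = m := (h.uniq h1 h2 h3 h4).resolve_left hxy

theorem eq_point {x y : P} {l m : L} (hlm : l ≠ m) (h1 : I x l) (h2 : I x m) (h3 : I y l)
    (h4 : I y m) : x = y := (h.uniq h1 h3 h2 h4).resolve_right hlm

theorem third (l : L) (x y : P) : ∃ z, I z l ∧ z ≠ x ∧ z ≠ y := by
  by_contra hh
  have : {z | I z l} ⊆ {x, y} := fun z hz => by
    by_contra h1
    simp only [Set.mem_insert_iff, Set.mem_singleton_iff, not_or] at h1
    exact hh ⟨z, hz, h1⟩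
  have h1 := Set.ncard_le_ncard this (Set.toFinite _)
  have h2 := Set.ncard_insert_le x ({y} : Set P)
  rw [h.cardL] at h1
  rw [Set.ncard_singleton] at h2
  have := h.two
  omega

theorem third' (x : P) (l m : L) : ∃ k, I x k ∧ k ≠ l ∧ k ≠ m := h.dual.third x l m

theorem exists_off (l : L) : ∃ x, ¬ I x l := by
  obtain ⟨y⟩ := h.neP
  obtain ⟨m, -, hm, -⟩ := h.third' y l l
  obtain ⟨w, h1, h2⟩ := h.point m l hm
  obtain ⟨x, h3, h4, -⟩ := h.third m w w
  exact ⟨x, fun hx => h4 (h.eq_point hm h3 hx h1 h2)⟩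

theorem exists_line (x y : P) : ∃ l, I x l ∧ I y l := by
  by_cases e : x = y
  · obtain ⟨l⟩ := h.neL
    obtain ⟨k, hk, -⟩ := h.third' x l l
    exact ⟨k, hk, e ▸ hk⟩
  · exact h.line x y e

theorem ncard_sdiff {x : P} {l : L} (hx : I x l) : ({y | I y l} \ {x}).ncard = n := by
  rw [Set.ncard_sdiff_singleton_of_mem (s := {y | I y l}) hx, h.cardL, Nat.add_sub_cancel]

theorem congr {P' L' : Type*} {I' : P' → L' → Prop} (e : P' ≃ P) (f : L' ≃ L)
    (hI : ∀ x l, I' x l ↔ I (e x) (f l)) : Plane I' n where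
  line x y hxy := by
    obtain ⟨l, h1, h2⟩ := h.line _ _ (e.injective.ne hxy)
    exact ⟨f.symm l, by simpa [hI] using h1, by simpa [hI] using h2⟩
  point x y hxy := by
    obtain ⟨l, h1, h2⟩ := h.point _ _ (f.injective.ne hxy)
    exact ⟨e.symm l, by simpa [hI] using h1, by simpa [hI] using h2⟩
  uniq h1 h2 h3 h4 := by
    rw [hI] at h1 h2 h3 h4
    simpa using h.uniq h1 h2 h3 h4
  cardL l := by
    rw [← h.cardL (f l)]
    exact Set.ncard_congr (fun x _ => e x) (fun x hx => (hI _ _).1 hx)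
      (fun _ _ _ _ e1 => e.injective e1) fun y hy => ⟨e.symm y, by simpa [hI] using hy, by simp⟩
  cardP x := by
    rw [← h.cardP (e x)]
    exact Set.ncard_congr (fun x _ => f x) (fun x hx => (hI _ _).1 hx)
      (fun _ _ _ _ e1 => f.injective e1) fun y hy => ⟨f.symm y, by simpa [hI] using hy, by simp⟩
  two := h.two
  neP := h.neP.map e.symm
  neL := h.neL.map f.symm

end Plane

variable {G : Type*} [Group G] [MulAction G P] [MulAction G L]

/-- A collineation group of a projective plane. -/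
structure Act (G : Type*) [Group G] [MulAction G P] [MulAction G L] (I : P → L → Prop) (n : ℕ) :
    Prop extends Plane I n where
  inv : ∀ (g : G) x l, I (g • x) (g • l) ↔ I x l
  faithP : ∀ g : G, (∀ x : P, g • x = x) → g = 1
  faithL : ∀ g : G, (∀ x : L, g • x = x) → g = 1

/-- `g` is a perspectivity with centre `c` and axis `a`. -/
def Per (I : P → L → Prop) (g : G) (c : P) (a : L) : Prop :=
  (∀ x, I x a → g • x = x) ∧ ∀ l, I c l → g • l = l

theorem Per.dual {g : G} {c : P} {a : L} (h : Per I g c a) : Per (fun l x => I x l) g a c :=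
  ⟨h.2, h.1⟩

theorem Per.one (c : P) (a : L) : Per I (1 : G) c a := ⟨fun _ _ => one_smul _ _, fun _ _ => one_smul _ _⟩

theorem Per.mul {g g' : G} {c : P} {a : L} (h : Per I g c a) (h' : Per I g' c a) :
    Per I (g * g') c a :=
  ⟨fun x hx => by rw [mul_smul, h'.1 x hx, h.1 x hx], fun x hx => by
    rw [mul_smul, h'.2 x hx, h.2 x hx]⟩

theorem Per.inv {g : G} {c : P} {a : L} (h : Per I g c a) : Per I g⁻¹ c a :=
  ⟨fun x hx => inv_smul_eq_iff.2 (h.1 x hx).symm, fun x hx => inv_smul_eq_iff.2 (h.2 x hx).symm⟩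

theorem Per.pow {g : G} {c : P} {a : L} (h : Per I g c a) (k : ℕ) : Per I (g ^ k) c a := by
  induction k with
  | zero => rw [pow_zero]; exact Per.one c a
  | succ k ih => rw [pow_succ]; exact ih.mul h

namespace Act

variable (h : Act G I n)
include h

theorem dual : Act G (fun l x => I x l) n :=
  ⟨h.toPlane.dual, fun g l x => h.inv g x l, h.faithL, h.faithP⟩

theorem smul_inc {g : G} {x x' : P} {l l' : L} (e : g • x = x') (e' : g • l = l') (hx : I x l) :
    I x' l' := by rw [← e, ← e', h.inv]; exact hx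

theorem fix_line {g : G} {x y : P} {l : L} (hxy : x ≠ y) (h1 : I x l) (h2 : I y l)
    (e1 : g • x = x) (e2 : g • y = y) : g • l = l :=
  h.eq_line hxy (h.smul_inc e1 rfl h1) (h.smul_inc e2 rfl h2) h1 h2

theorem fix_point {g : G} {x : P} {l m : L} (hlm : l ≠ m) (h1 : I x l) (h2 : I x m)
    (e1 : g • l = l) (e2 : g • m = m) : g • x = x := h.dual.fix_line hlm h1 h2 e1 e2

theorem fix_axis {g : G} {a : L} (hg : ∀ x, I x a → g • x = x) : g • a = a := by
  obtain ⟨y⟩ := h.neP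
  obtain ⟨u, hu, -⟩ := h.third a y y
  obtain ⟨v, hv, hvu, -⟩ := h.third a u u
  exact h.fix_line hvu hv hu (hg v hv) (hg u hu)

theorem conj_per {g s : G} {c : P} {a : L} (hg : Per I g c a) :
    Per I (s * g * s⁻¹) (s • c) (s • a) :=
  ⟨fun x hx => by
    rw [mul_smul, mul_smul, hg.1 _ (h.smul_inc rfl (inv_smul_smul s a) hx), smul_inv_smul],
   fun x hx => by
    rw [mul_smul, mul_smul, hg.2 _ (h.smul_inc (inv_smul_smul s c) rfl hx), smul_inv_smul]⟩

theorem fix_lines {g : G} {a : L} (hg : ∀ x, I x a → g • x = x) {y : P} (hy : ¬ I y a)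
    (e : g • y = y) (l : L) (hl : I y l) : g • l = l := by
  obtain ⟨w, h1, h2⟩ := h.point l a (by rintro rfl; exact hy hl)
  exact h.fix_line (by rintro rfl; exact hy h2) hl h1 e (hg w h2)

theorem per_eq_one {g : G} {c y : P} {a : L} (hg : Per I g c a) (hyc : y ≠ c) (hy : ¬ I y a)
    (e : g • y = y) : g = 1 := by
  obtain ⟨k, hk1, hk2⟩ := h.line y c hyc
  have key : ∀ z, ¬ I z k → g • z = z := fun z hz => by
    obtain ⟨l, h1, h2⟩ := h.exists_line y z
    obtain ⟨m, h3, h4⟩ := h.exists_line c z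
    refine h.fix_point (fun e1 => hz ?_) h2 h4 (h.fix_lines hg.1 hy e l h1) (hg.2 m h3)
    subst e1
    rwa [h.eq_line hyc hk1 hk2 h1 h3]
  refine h.faithP g fun z => ?_
  by_cases hz : I z k
  · obtain ⟨l, h1, h2, -⟩ := h.third' z k k
    obtain ⟨u, hu, huz, -⟩ := h.third l z z
    obtain ⟨v, hv, hvz, hvu⟩ := h.third l z u
    exact h.fix_point h2 h1 hz (h.fix_line hvu hv hu
      (key v fun hh => hvz (h.eq_point h2 hv hh h1 hz))
      (key u fun hh => huz (h.eq_point h2 hu hh h1 hz))) (hg.2 k hk2)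
  · exact key z hz

theorem per_eq_one' {g : G} {c : P} {a l : L} (hg : Per I g c a) (hla : l ≠ a) (hl : ¬ I c l)
    (e : g • l = l) : g = 1 := h.dual.per_eq_one hg.dual hla hl e

theorem centre_eq {g : G} {c c' : P} {a : L} (hg : Per I g c a) (h1 : g ≠ 1)
    (hg' : ∀ l, I c' l → g • l = l) : c = c' := by
  by_contra hne
  obtain ⟨k, hk1, hk2⟩ := h.line c c' hne
  obtain ⟨l, h2, h3, h4⟩ := h.third' c' k a
  exact h1 (h.per_eq_one' hg h4 (fun hh => h3 (h.eq_line hne hh h2 hk1 hk2)) (hg' l h2))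

theorem exists_centre {g : G} {a : L} (hg : ∀ x, I x a → g • x = x)
    (hn : ∀ y, ¬ I y a → g • y ≠ y) : ∃ z, I z a ∧ Per I g z a := by
  have ha := h.fix_axis hg
  have key : ∀ y, ¬ I y a → ∃ l, I y l ∧ g • l = l := fun y hy => by
    obtain ⟨l, h1, h2⟩ := h.line _ _ (hn y hy)
    obtain ⟨w, h3, h4⟩ := h.point l a (by rintro rfl; exact hy h2)
    refine ⟨l, h2, h.eq_line (x := w) (y := g • y) (fun e => hy ?_)
      (h.smul_inc (hg w h4) rfl h3) (h.smul_inc rfl rfl h2) h3 h1⟩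
    rwa [e, ← ha, h.inv] at h4
  obtain ⟨y₀, hy₀⟩ := h.exists_off a
  obtain ⟨l₀, h1, h2⟩ := key y₀ hy₀
  have hl₀ : l₀ ≠ a := by rintro rfl; exact hy₀ h1
  obtain ⟨z, hz1, hz2⟩ := h.point l₀ a hl₀
  refine ⟨z, hz2, hg, fun l hl => ?_⟩
  by_cases hla : l = a
  · exact hla ▸ ha
  obtain ⟨y, hy, hyz, -⟩ := h.third l z z
  obtain ⟨m, h3, h4⟩ := key y fun hh => hyz (h.eq_point hla hy hh hl hz2)
  by_cases hm : m = l₀
  · rw [h.eq_line hyz hy hl h3 (hm ▸ hz1)]; exact h4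
  obtain ⟨u, hu1, hu2⟩ := h.point m l₀ hm
  have hua : I u a := by
    by_contra hh
    exact hn u hh (h.fix_point hm hu1 hu2 h4 h2)
  rw [h.eq_line hyz hy hl h3 (h.eq_point hl₀ hu2 hua hz1 hz2 ▸ hu1)]
  exact h4

theorem exists_per {g : G} {a : L} (hg : ∀ x, I x a → g • x = x) : ∃ z, Per I g z a := by
  by_cases hn : ∀ y, ¬ I y a → g • y ≠ y
  · obtain ⟨z, -, hz⟩ := h.exists_centre hg hn
    exact ⟨z, hz⟩
  · push Not at hn
    obtain ⟨y, hy, e⟩ := hn
    exact ⟨y, hg, h.fix_lines hg hy e⟩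

variable [Finite P] [Finite L]

theorem baer_count {g : G} (hg : g * g = 1) (hL : ∀ l, ∃ x, I x l ∧ g • x ≠ x) {l : L}
    (hl : g • l = l) : {x : P | g • x = x}.ncard = {x : P | I x l ∧ g • x = x}.ncard + n := by
  obtain ⟨y, hy, hgy⟩ := hL l
  have h1 : {x : P | g • x = x} = {x : P | I x l ∧ g • x = x} ∪ {x : P | ¬ I x l ∧ g • x = x} := by
    ext x; simp only [Set.mem_union, Set.mem_ofPred_eq]; tauto
  rw [h1, Set.ncard_union_eq (Set.disjoint_left.2 fun x h1 h2 => h2.1 h1.1),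
    ← h.toPlane.dual.ncard_sdiff hy, add_right_inj]
  choose f hf1 hf2 using fun x => h.exists_line x y
  have hnf : ∀ m, I y m → m ≠ l → g • m ≠ m := fun m h1 h2 e => hgy (h.fix_point h2 h1 hy e hl)
  refine Set.ncard_congr (fun x _ => f x) (fun x hx => ⟨hf2 x, fun e => hx.1 (e ▸ hf1 x)⟩)
    (fun x x' hx hx' e => ?_) fun m hm => ?_
  · by_contra hne
    exact hnf _ (hf2 x) (fun e => hx.1 (e ▸ hf1 x))
      (h.fix_line hne (hf1 x) (e ▸ hf1 x') hx.2 hx'.2)
  · have h2 := hnf m hm.1 hm.2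
    obtain ⟨x, h3, h4⟩ := h.point _ _ h2
    have h5 : g • x = x := h.eq_point h2 (h.smul_inc rfl rfl h4)
      (h.smul_inc rfl (by rw [← mul_smul, hg, one_smul]) h3) h3 h4
    have h6 : x ≠ y := by rintro rfl; exact hgy h5
    exact ⟨x, ⟨fun hh => hm.2 (h.eq_line h6 h4 hm.1 hh hy), h5⟩,
      h.eq_line h6 (hf1 x) (hf2 x) h4 hm.1⟩

theorem baer_proj {g : G} {x : P} {l : L} (hx : g • x = x) (hl : g • l = l) (hxl : ¬ I x l) :
    {y : P | I y l ∧ g • y = y}.ncard ≤ {m : L | I x m ∧ g • m = m}.ncard := by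
  choose f hf1 hf2 using fun y => h.exists_line y x
  refine Set.ncard_le_ncard_of_injOn f (fun y hy => ⟨hf2 y, h.fix_line ?_ (hf1 y) (hf2 y) hy.2 hx⟩)
    (fun y hy y' hy' e => ?_) (Set.toFinite _)
  · rintro rfl; exact hxl hy.1
  · exact h.eq_point (l := f y) (m := l) (fun e => hxl (e ▸ hf2 y)) (hf1 y) hy.1 (e ▸ hf1 y') hy'.1

theorem baer_total {g : G} {x : P} (hx : g • x = x) {f : ℕ}
    (hf : ∀ l, g • l = l → {y : P | I y l ∧ g • y = y}.ncard = f + 1) :
    {y : P | g • y = y}.ncard = {m : L | I x m ∧ g • m = m}.ncard * f + 1 := by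
  classical
  choose k hk1 hk2 using fun y => h.exists_line y x
  have := Fintype.ofFinite P
  have := Fintype.ofFinite L
  have h1 := Finset.card_eq_sum_card_fiberwise (f := k)
    (s := ({y : P | g • y = y} \ {x}).toFinset) (t := {m : L | I x m ∧ g • m = m}.toFinset)
    (fun y hy => by
      simp only [Set.coe_toFinset] at hy ⊢
      exact ⟨hk2 y, h.fix_line hy.2 (hk1 y) (hk2 y) hy.1 hx⟩)
  rw [Finset.sum_const_nat (m := f) fun m hm => by
    rw [Set.mem_toFinset] at hm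
    have h2 := hf m hm.2
    rw [← Set.ncard_sdiff_singleton_add_one (s := {y | I y m ∧ g • y = y}) (a := x) ⟨hm.1, hx⟩,
      add_left_inj] at h2
    rw [← h2, ← Set.ncard_coe_finset]
    congr 1
    ext y
    simp only [Finset.coe_filter, Set.mem_toFinset, Set.mem_sdiff, Set.mem_ofPred_eq,
      Set.mem_singleton_iff]
    exact ⟨fun hh => ⟨⟨hh.2 ▸ hk1 y, hh.1.1⟩, hh.1.2⟩,
      fun hh => ⟨⟨hh.1.2, hh.2⟩, h.eq_line hh.2 (hk1 y) (hk2 y) hh.1.1 hm.1⟩⟩,
    ← Set.ncard_eq_toFinset_card', ← Set.ncard_eq_toFinset_card'] at h1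
  rw [← h1, Set.ncard_sdiff_singleton_add_one (s := {y | g • y = y}) hx]

omit [Finite P] [Finite L] in
theorem exists_fixed_line {g : G} (hg : g * g = 1) {y : P} (hy : g • y ≠ y) :
    ∃ l : L, g • l = l := by
  obtain ⟨l, h1, h2⟩ := h.line _ _ hy
  exact ⟨l, h.eq_line hy (h.smul_inc rfl rfl h2)
    (h.smul_inc (by rw [← mul_smul, hg, one_smul]) rfl h1) h1 h2⟩

/-- Baer's theorem on involutions. -/
theorem baer {g : G} (hg : g * g = 1) :
    (∃ c a, Per I g c a) ∨ ∃ m, n = m * m ∧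
      Plane (fun (x : {x : P // g • x = x}) (l : {l : L // g • l = l}) => I x l) m := by
  by_cases hL : ∀ l, ∃ x, I x l ∧ g • x ≠ x
  swap
  · push Not at hL
    obtain ⟨a, ha⟩ := hL
    obtain ⟨c, hc⟩ := h.exists_per ha
    exact Or.inl ⟨c, a, hc⟩
  by_cases hP : ∀ x, ∃ l, I x l ∧ g • l ≠ l
  swap
  · push Not at hP
    obtain ⟨a, ha⟩ := hP
    obtain ⟨c, hc⟩ := h.dual.exists_per ha
    exact Or.inl ⟨a, c, hc.dual⟩
  right
  obtain ⟨y, -, hy⟩ := hL h.neL.some
  obtain ⟨k, -, hk⟩ := hP h.neP.some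
  obtain ⟨l₀, hl₀⟩ := h.exists_fixed_line hg hy
  obtain ⟨x₀, hx₀⟩ := h.dual.exists_fixed_line hg hk
  have c1 := fun l hl => h.baer_count hg hL (l := l) hl
  have c2 := fun x hx => h.dual.baer_count hg hP (l := x) hx
  set f := {x : P | I x l₀ ∧ g • x = x}.ncard with hf
  set r := {l : L | I x₀ l ∧ g • l = l}.ncard with hr
  have d1 : ∀ l, g • l = l → {x : P | I x l ∧ g • x = x}.ncard = f := fun l hl => by
    have := c1 l hl; have := c1 l₀ hl₀; omega
  have d2 : ∀ x, g • x = x → {l : L | I x l ∧ g • l = l}.ncard = r := fun x hx => by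
    have := c2 x hx; have := c2 x₀ hx₀; omega
  have hn := h.two
  have hf1 : f ≠ 0 := fun e => by
    have h1 : ∀ l, I x₀ l → g • l ≠ l := fun l h1 h2 => by
      have := d1 l h2
      rw [e, Set.ncard_eq_zero] at this
      exact Set.eq_empty_iff_forall_notMem.1 this x₀ ⟨h1, hx₀⟩
    have h2 : 1 < {x : P | g • x = x}.ncard := by rw [c1 l₀ hl₀]; omega
    obtain ⟨x, hx, hne⟩ := Set.exists_ne_of_one_lt_ncard h2 x₀
    obtain ⟨l, h3, h4⟩ := h.line _ _ hne
    exact h1 l h4 (h.fix_line hne h3 h4 hx hx₀)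
  obtain ⟨f, hf'⟩ : ∃ f', f = f' + 1 := ⟨f - 1, by omega⟩
  have e1 := h.baer_total hx₀ (f := f) fun l hl => (d1 l hl).trans hf'
  rw [c1 l₀ hl₀, ← hf, ← hr, hf'] at e1
  obtain ⟨r, hr'⟩ : ∃ r', r = r' + 1 := ⟨r - 1, by
    rcases Nat.eq_zero_or_pos r with e | e
    · rw [e] at e1; omega
    · omega⟩
  have e2 : n = r * f := by rw [hr', add_mul] at e1; omega
  have hrf : r = f := by
    have hf0 : 0 < f := Nat.pos_of_ne_zero (by rintro rfl; omega)
    have hr0 : 0 < r := Nat.pos_of_ne_zero (by rintro rfl; omega)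
    obtain ⟨x, hx, l, hl, hxl⟩ : ∃ x : P, g • x = x ∧ ∃ l : L, g • l = l ∧ ¬ I x l := by
      by_contra hh
      push Not at hh
      obtain ⟨u, v, hu, hv, huv⟩ := (Set.one_lt_ncard_iff (Set.toFinite _)).1
        (by omega : 1 < {x : P | I x l₀ ∧ g • x = x}.ncard)
      obtain ⟨u', v', hu', hv', huv'⟩ := (Set.one_lt_ncard_iff (Set.toFinite _)).1
        (by omega : 1 < {l : L | I x₀ l ∧ g • l = l}.ncard)
      exact huv' (h.eq_line huv (hh _ hu.2 _ hu'.2) (hh _ hv.2 _ hu'.2) (hh _ hu.2 _ hv'.2)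
        (hh _ hv.2 _ hv'.2))
    have h1 := h.baer_proj hx hl hxl
    have h2 := h.dual.baer_proj hl hx hxl
    rw [d1 l hl, d2 x hx] at h1 h2
    omega
  subst hrf
  refine ⟨r, e2, fun x y hxy => ?_, fun x y hxy => ?_, fun h1 h2 h3 h4 => ?_, fun l => ?_,
    fun l => ?_, by nlinarith, ⟨⟨x₀, hx₀⟩⟩, ⟨⟨l₀, hl₀⟩⟩⟩
  · obtain ⟨l, h1, h2⟩ := h.line _ _ (Subtype.val_injective.ne hxy)
    exact ⟨⟨l, h.fix_line (Subtype.val_injective.ne hxy) h1 h2 x.2 y.2⟩, h1, h2⟩
  · obtain ⟨l, h1, h2⟩ := h.point _ _ (Subtype.val_injective.ne hxy)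
    exact ⟨⟨l, h.fix_point (Subtype.val_injective.ne hxy) h1 h2 x.2 y.2⟩, h1, h2⟩
  · exact (h.uniq h1 h2 h3 h4).imp Subtype.ext Subtype.ext
  · rw [← hf', ← d1 l l.2]
    exact Set.ncard_congr (fun x _ => x.1) (fun x hx => ⟨hx, x.2⟩) (fun _ _ _ _ => Subtype.ext)
      fun y hy => ⟨⟨y, hy.2⟩, hy.1, rfl⟩
  · rw [← hr', ← d2 l l.2]
    exact Set.ncard_congr (fun x _ => x.1) (fun x hx => ⟨hx, x.2⟩) (fun _ _ _ _ => Subtype.ext)
      fun y hy => ⟨⟨y, hy.2⟩, hy.1, rfl⟩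

end Act

end Cfsg.Agent.Perm.PG
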