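import Mathlib
import Cfsg.Agent.Perm.PGPlane

/-!
# Planes of odd order with many involutory homologies have prime power order
-/

set_option autoImplicit false

namespace Cfsg.Agent.Perm.PG

open Subgroup MulAction Fx

theorem two_orbit {G X : Type*} [Group G] [MulAction G X] [Finite X] (K : Subgroup G) (S : Set X)
    (hS : Odd S.ncard) (hinv : ∀ k ∈ K, ∀ x ∈ S, k • x ∈ S)
    (hst : ∀ k ∈ K, ∀ x ∈ S, ∀ y ∈ S, k • x = x → k • y = y) (A : X → Prop)
    (hA : ∀ x ∈ S, ∀ y ∈ S, A x → A y → ∃ k ∈ K, k • x = y)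
    (hB : ∀ x ∈ S, ∀ y ∈ S, ¬ A x → ¬ A y → ∃ k ∈ K, k • x = y) :
    ∀ x ∈ S, ∀ y ∈ S, ∃ k ∈ K, k • x = y := by
  have key : ∀ x ∈ S, ∀ y ∈ S, A x → ¬ A y → ∃ k ∈ K, k • x = y := fun x hx y hy h1 h2 => by
    by_contra hne
    have e1 : S = orbit K x ∪ orbit K y := by
      ext z
      constructor
      · intro hz
        by_cases h3 : A z
        · exact Or.inl (mem_orbit_sub.2 (hA x hx z hz h1 h3))
        · exact Or.inr (mem_orbit_sub.2 (hB y hy z hz h2 h3))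
      · rintro (⟨k, rfl⟩ | ⟨k, rfl⟩)
        exacts [hinv k k.2 x hx, hinv k k.2 y hy]
    have e2 : Disjoint (orbit K x) (orbit K y) := Set.disjoint_left.2 fun z h3 h4 => by
      obtain ⟨k, hk, rfl⟩ := mem_orbit_sub.1 h3
      obtain ⟨k', hk', e⟩ := mem_orbit_sub.1 h4
      exact hne ⟨k'⁻¹ * k, mul_mem (inv_mem hk') hk, by rw [mul_smul, ← e, inv_smul_smul]⟩
    have e3 : (orbit K x).ncard = (orbit K y).ncard := by
      rw [← Nat.card_coe_set_eq, ← Nat.card_coe_set_eq, card_orbit_eq_relIndex,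
        card_orbit_eq_relIndex, ← inf_relIndex_right, ← inf_relIndex_right (stabilizer G y)]
      congr 1
      ext k
      exact ⟨fun hk => ⟨hst k hk.2 x hx y hy hk.1, hk.2⟩, fun hk => ⟨hst k hk.2 y hy x hx hk.1, hk.2⟩⟩
    rw [e1, Set.ncard_union_eq e2, e3, ← two_mul] at hS
    exact (Nat.not_odd_iff_even.2 (even_two_mul _)) hS
  intro x hx y hy
  by_cases h1 : A x <;> by_cases h2 : A y
  · exact hA x hx y hy h1 h2
  · exact key x hx y hy h1 h2
  · obtain ⟨k, hk, e⟩ := key y hy x hx h2 h1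
    exact ⟨k⁻¹, inv_mem hk, by rw [← e, inv_smul_smul]⟩
  · exact hB x hx y hy h1 h2

variable {P L : Type*} {I : P → L → Prop} {n : ℕ} {G : Type*} [Group G] [MulAction G P]
  [MulAction G L]

/-- An involutory homology. -/
def Hm (I : P → L → Prop) (t : G) (c : P) (a : L) : Prop :=
  ¬ I c a ∧ Per I t c a ∧ t ≠ 1 ∧ t * t = 1

theorem Hm.dual {t : G} {c : P} {a : L} (h : Hm I t c a) : Hm (fun l x => I x l) t a c :=
  ⟨h.1, h.2.1.dual, h.2.2⟩

namespace Act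

variable (h : Act G I n)
include h

theorem fix_centre {g : G} {c : P} {a : L} (hg : Per I g c a) : g • c = c :=
  h.dual.fix_axis hg.2

/-- The group of elations with axis `a`. -/
def El (a : L) : Subgroup G where
  carrier := {g | ∃ z, I z a ∧ Per I g z a}
  one_mem' := by
    obtain ⟨y⟩ := h.neP
    obtain ⟨z, hz, -⟩ := h.third a y y
    exact ⟨z, hz, Per.one z a⟩
  inv_mem' := fun ⟨z, hz, hg⟩ => ⟨z, hz, hg.inv⟩
  mul_mem' := by
    rintro s t ⟨z, hz, hs⟩ ⟨w, hw, ht⟩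
    by_cases hzw : z = w
    · exact ⟨z, hz, hs.mul (hzw ▸ ht)⟩
    have hf : ∀ x, I x a → (s * t) • x = x := fun x hx => by
      rw [mul_smul, ht.1 x hx, hs.1 x hx]
    by_cases hn : ∀ y, ¬ I y a → (s * t) • y ≠ y
    · exact h.exists_centre hf hn
    push Not at hn
    obtain ⟨y, hy, e⟩ := hn
    obtain ⟨l, h1, h2⟩ := h.exists_line y z
    obtain ⟨m, h3, h4⟩ := h.exists_line y w
    have hlm : l ≠ m := fun e' => hy (by
      rwa [h.eq_line hzw hz hw h2 (e' ▸ h4)])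
    have e1 : t • y = s⁻¹ • y := by rw [eq_inv_smul_iff, ← mul_smul, e]
    have e2 : t • y = y := h.eq_point hlm (e1 ▸ h.smul_inc rfl (hs.inv.2 l h2) h1)
      (h.smul_inc rfl (ht.2 m h4) h3) h1 h3
    rw [h.per_eq_one ht (by rintro rfl; exact hy hw) hy e2, mul_one]
    exact ⟨z, hz, hs⟩

theorem mem_El {a : L} {g : G} : g ∈ h.El a ↔ ∃ z, I z a ∧ Per I g z a := Iff.rfl

theorem El_fix {a : L} {g : G} (hg : g ∈ h.El a) {x : P} (hx : I x a) : g • x = x := by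
  obtain ⟨z, -, hz⟩ := hg
  exact hz.1 x hx

theorem El_per {a l : L} {g : G} (hg : g ∈ h.El a) {x : P} (hx : I x a) (hl : I x l) (hla : l ≠ a)
    (e : g • l = l) : Per I g x a := by
  obtain ⟨z, hz, hg⟩ := hg
  by_cases hzl : I z l
  · rwa [h.eq_point hla hl hx hzl hz]
  · rw [h.per_eq_one' hg hla hzl e]
    exact Per.one x a

theorem El_comm {a : L} {s t : G} {z w : P} (hz : I z a) (hw : I w a) (hzw : z ≠ w)
    (hs : Per I s z a) (ht : Per I t w a) : s * t = t * s := by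
  have h1 := h.conj_per (s := t) hs.inv
  have h2 := h.conj_per (s := s) ht
  rw [ht.1 z hz, h.fix_axis ht.1] at h1
  rw [hs.1 w hw, h.fix_axis hs.1] at h2
  by_contra hne
  refine hzw (h.centre_eq (hs.mul h1) (fun e => hne ?_) ?_)
  · rw [← mul_assoc, ← mul_assoc, mul_inv_eq_one, mul_inv_eq_iff_eq_mul] at e
    exact e
  · have := (h2.mul ht.inv).2
    simpa only [mul_assoc] using this

theorem El_pow {a : L} {s t : G} {z w : P} (hz : I z a) (hw : I w a) (hzw : z ≠ w)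
    (hs : Per I s z a) (ht : Per I t w a) (h1 : s ≠ 1) {p : ℕ} (hp : s ^ p = 1) : t ^ p = 1 := by
  obtain ⟨u, -, hu⟩ := (h.El a).mul_mem ⟨z, hz, hs⟩ ⟨w, hw, ht⟩
  have e : (s * t) ^ p = t ^ p := by
    rw [Commute.mul_pow (h.El_comm hz hw hzw hs ht), hp, one_mul]
  by_contra hne
  have h2 : w = u := h.centre_eq (ht.pow p) hne (e ▸ (hu.pow p).2)
  subst h2
  exact hzw (h.centre_eq hs h1 (by simpa using (hu.mul ht.inv).2))

variable [Finite G]

theorem El_pGroup {a : L} {s t : G} {z w : P} (hz : I z a) (hw : I w a) (hzw : z ≠ w)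
    (hs : Per I s z a) (ht : Per I t w a) (h1 : s ≠ 1) (h2 : t ≠ 1) :
    ∃ p, p.Prime ∧ IsPGroup p (h.El a) := by
  obtain ⟨p, hp, hd⟩ := Nat.exists_prime_and_dvd (mt orderOf_eq_one_iff.1 h1)
  have ho := orderOf_pow_orderOf_div (orderOf_pos s).ne' hd
  have h3 : s ^ (orderOf s / p) ≠ 1 := fun e => hp.ne_one (by rw [← ho, e, orderOf_one])
  have h4 : (s ^ (orderOf s / p)) ^ p = 1 := by
    have := pow_orderOf_eq_one (s ^ (orderOf s / p))
    rwa [ho] at this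
  refine ⟨p, hp, fun ⟨g, u, hu, hg⟩ => ⟨1, Subtype.ext ?_⟩⟩
  rw [pow_one]
  change g ^ p = 1
  by_cases e : z = u
  · exact h.El_pow hw hu (e ▸ hzw.symm) ht hg h2 (h.El_pow hz hw hzw (hs.pow _) ht h3 h4)
  · exact h.El_pow hz hu e (hs.pow _) hg h3 h4

variable [Finite P] [Finite L]

omit [Finite G] [Finite L] in
theorem orderOf_dvd {g : G} {z : P} {a : L} (hz : I z a) (hg : Per I g z a) : orderOf g ∣ n := by
  obtain ⟨l, hl, hla, -⟩ := h.third' z a a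
  rw [← Nat.card_zpowers, ← h.ncard_sdiff hl, ← Nat.card_coe_set_eq]
  have hk : ∀ k ∈ zpowers g, Per I k z a := fun k ⟨j, hj⟩ => by
    subst hj
    rcases Int.eq_nat_or_neg j with ⟨i, rfl | rfl⟩
    · simpa using hg.pow i
    · simpa using (hg.pow i).inv
  refine card_dvd_of_semiregular _ _ (fun k hk' x hx => ⟨h.smul_inc rfl ((hk k hk').2 l hl) hx.1,
    fun e => hx.2 ?_⟩) fun k hk' x hx e => h.per_eq_one (hk k hk') hx.2
      (fun hh => hx.2 (h.eq_point hla hx.1 hh hl hz)) e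
  exact MulAction.injective k (e.trans ((hk k hk').1 z hz).symm)

omit [Finite G] [Finite P] [Finite L] in
theorem Hm_fix {t : G} {c y : P} {a : L} (ht : Hm I t c a) (e : t • y = y) : y = c ∨ I y a := by
  by_contra hh
  push Not at hh
  exact ht.2.2.1 (h.per_eq_one ht.2.1 hh.1 hh.2 e)

omit [Finite L] in
/-- Centres of involutory homologies with a common axis are conjugate under elations. -/
theorem andre (hn : Odd n) {t t' : G} {c c' : P} {a : L} (ht : Hm I t c a) (ht' : Hm I t' c' a) :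
    ∃ d ∈ h.El a, d • c' = c := by
  by_cases hc : c' = c
  · exact ⟨1, one_mem _, by rw [one_smul, hc]⟩
  have i1 : t⁻¹ = t := inv_eq_of_mul_eq_one_right ht.2.2.2
  have i2 : t'⁻¹ = t' := inv_eq_of_mul_eq_one_right ht'.2.2.2
  have hf : ∀ x, I x a → (t * t') • x = x := fun x hx => by
    rw [mul_smul, ht'.2.1.1 x hx, ht.2.1.1 x hx]
  have hs1 : t * t' ≠ 1 := fun e => hc (h.centre_eq ht'.2.1 ht'.2.2.1 (by
    rw [← eq_inv_of_mul_eq_one_left e] at i2
    rw [← i2]; exact ht.2.1.2))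
  obtain ⟨z, hz, hs⟩ := h.exists_centre hf fun y hy e => by
    have h1 : Per I (t * t') y a := ⟨hf, h.fix_lines hf hy e⟩
    have h2 := h.conj_per (s := t) h1
    have h3 := h.conj_per (s := t') h1
    rw [show t * (t * t') * t⁻¹ = (t * t')⁻¹ by
      rw [← mul_assoc, ht.2.2.2, one_mul, mul_inv_rev, i2]] at h2
    rw [show t' * (t * t') * t'⁻¹ = (t * t')⁻¹ by
      rw [← mul_assoc, mul_inv_cancel_right, mul_inv_rev, i1, i2]] at h3
    have h4 := h.centre_eq h1.inv (inv_ne_one.2 hs1) h2.2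
    have h5 := h.centre_eq h1.inv (inv_ne_one.2 hs1) h3.2
    exact hc (((h.Hm_fix ht' h5.symm).resolve_right hy).symm.trans
      ((h.Hm_fix ht h4.symm).resolve_right hy))
  obtain ⟨k, hk⟩ := Odd.of_dvd_nat hn (h.orderOf_dvd hz hs)
  refine ⟨(t * t') ^ (k + 1), ⟨z, hz, hs.pow _⟩, (h.centre_eq ht.2.1 ht.2.2.1 ?_).symm⟩
  have h1 := h.conj_per (s := (t * t') ^ (k + 1)) ht'.2.1
  have h2 : t' * ((t * t') ^ (k + 1))⁻¹ = (t * t') ^ (k + 1) * t' := by
    have : SemiconjBy t' (t * t')⁻¹ (t * t') := by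
      rw [SemiconjBy, mul_inv_rev, i1, i2, ← mul_assoc, ht'.2.2.2, mul_assoc, ht'.2.2.2, one_mul,
        mul_one]
    rw [← inv_pow]
    exact this.pow_right (k + 1)
  rw [mul_assoc, h2, ← mul_assoc, ← pow_add, show k + 1 + (k + 1) = 2 * k + 1 + 1 by ring, ← hk,
    pow_succ, pow_orderOf_eq_one, one_mul, mul_assoc, ht'.2.2.2, mul_one] at h1
  exact h1.2

/-- The elations with axis `g` are transitive on the other lines through `x`. -/
def Be (x : P) (g : L) : Prop :=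
  ∀ u ∈ {l | I x l} \ {g}, ∀ v ∈ {l | I x l} \ {g}, ∃ d ∈ h.El g, d • u = v

theorem be_or (hn : Odd n)
    (hT : ∀ x g y l, I x g → I y g → I x l → y ≠ x → l ≠ g →
      ∃ (t : G) (c : P) (a : L), Hm I t c a ∧ t • x = x ∧ t • g = g ∧ t • y = y ∧ t • l = l)
    {x : P} {g : L} (hx : I x g) : h.Be x g ∨ h.dual.Be g x := by
  by_cases hB : ∀ l ∈ {l | I x l} \ {g}, ∃ (t : G) (c : P), Hm I t c g ∧ I c l
  · refine Or.inl fun u hu v hv => ?_
    obtain ⟨t, c, ht, hc⟩ := hB u hu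
    obtain ⟨t', c', ht', hc'⟩ := hB v hv
    obtain ⟨d, hd, e⟩ := h.andre hn ht' ht
    exact ⟨d, hd, h.eq_line (x := x) (y := c') (by rintro rfl; exact ht'.1 hx)
      (h.smul_inc (h.El_fix hd hx) rfl hu.1) (h.smul_inc e rfl hc) hv.1 hc'⟩
  push Not at hB
  obtain ⟨l₀, hl₀, hB⟩ := hB
  refine Or.inr (two_orbit _ _ (by rwa [h.ncard_sdiff hx]) (fun k hk y hy => ?_)
    (fun k hk y hy y' hy' e => ?_) (fun y => ∃ (t : G) (a : L), Hm I t x a ∧ I y a)
    (fun y hy y' hy' ⟨t, a, ht, ha⟩ ⟨t', a', ht', ha'⟩ => ?_) fun y hy y' hy' h1 h2 => ?_)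
  · obtain ⟨b, -, hb⟩ := id hk
    exact ⟨h.smul_inc rfl (h.dual.El_fix hk hx) hy.1,
      fun e => hy.2 (MulAction.injective k (e.trans (h.fix_centre hb.dual).symm))⟩
  · exact (h.dual.El_per hk hx hy.1 hy.2 e).2 y' hy'.1
  · obtain ⟨d, hd, e⟩ := h.dual.andre hn ht'.dual ht.dual
    exact ⟨d, hd, h.eq_point (l := g) (m := a') (by rintro rfl; exact ht'.1 hx)
      (h.smul_inc rfl (h.dual.El_fix hd hx) hy.1) (h.smul_inc rfl e ha) hy'.1 ha'⟩
  · have key : ∀ y ∈ {y | I y g} \ {x}, (¬ ∃ (t : G) (a : L), Hm I t x a ∧ I y a) →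
        ∃ t : G, Hm I t y l₀ := fun y hy h1 => by
      obtain ⟨t, c, a, ht, e1, -, e2, e3⟩ := hT x g y l₀ hx hy.1 hl₀.1 hy.2 hl₀.2
      rcases h.Hm_fix ht e1 with rfl | hxa
      · exact absurd ⟨t, a, ht, (h.Hm_fix ht e2).resolve_left hy.2⟩ h1
      rcases h.Hm_fix ht e2 with rfl | hya
      · rcases h.dual.Hm_fix ht.dual e3 with rfl | hh
        · exact ⟨t, ht⟩
        · exact absurd (h.eq_line hy.2 hh hl₀.1 hy.1 hx) hl₀.2
      · obtain rfl := h.eq_line hy.2 hya hxa hy.1 hx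
        exact absurd ((h.dual.Hm_fix ht.dual e3).resolve_left hl₀.2) (hB t c ht)
    obtain ⟨t, ht⟩ := key y hy h1
    obtain ⟨t', ht'⟩ := key y' hy' h2
    obtain ⟨d, hd, e⟩ := h.andre hn ht' ht
    refine ⟨d, ⟨l₀, hl₀.1, (h.El_per hd hl₀.1 hx (Ne.symm hl₀.2) ?_).dual⟩, e⟩
    exact h.eq_line hy'.2 (h.smul_inc e rfl hy.1) (h.smul_inc (h.El_fix hd hl₀.1) rfl hx) hy'.1 hx

omit [Finite G] [Finite P] [Finite L] in
theorem Be.exists_move {x : P} {g : L} (hB : h.Be x g) :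
    ∃ (d : G) (z : P), I z g ∧ z ≠ x ∧ Per I d z g ∧ d ≠ 1 := by
  obtain ⟨u, hu, hug, -⟩ := h.third' x g g
  obtain ⟨v, hv, hvg, hvu⟩ := h.third' x g u
  obtain ⟨d, ⟨z, hz, hd⟩, e⟩ := hB u ⟨hu, hug⟩ v ⟨hv, hvg⟩
  exact ⟨d, z, hz, by rintro rfl; exact hvu (e.symm.trans (hd.2 u hu)), hd,
    by rintro rfl; exact hvu (by rw [← e, one_smul])⟩

omit [Finite G] [Finite P] in
theorem Be.pow {x : P} {g : L} (hx : I x g) (hB : h.Be x g) {p : ℕ} (hp : p.Prime)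
    (hP : IsPGroup p (h.El g)) : ∃ k, n = p ^ k := by
  have := Fact.mk hp
  obtain ⟨u, hu, hug, -⟩ := h.third' x g g
  obtain ⟨k, hk⟩ := hP.card_orbit u
  refine ⟨k, (h.toPlane.dual.ncard_sdiff hx).symm.trans ?_⟩
  rw [← hk, Nat.card_coe_set_eq]
  congr 1
  ext v
  refine ⟨fun hv => mem_orbit_sub.2 (hB u ⟨hu, hug⟩ v hv), fun hv => ?_⟩
  obtain ⟨d, hd, rfl⟩ := mem_orbit_sub.1 hv
  exact ⟨h.smul_inc (h.El_fix hd hx) rfl hu, fun e => hug (MulAction.injective d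
    (e.trans (h.fix_axis fun y hy => h.El_fix hd hy).symm))⟩

theorem Be.prime_pow {x : P} {g : L} (hx : I x g) (hB : h.Be x g)
    (ho : ∀ x g, I x g → h.Be x g ∨ h.dual.Be g x) : ∃ p k, p.Prime ∧ n = p ^ k := by
  obtain ⟨d, z, hz, -, hd, hd1⟩ := hB.exists_move
  by_cases h1 : ∃ (s : G) (w : P), I w g ∧ w ≠ z ∧ Per I s w g ∧ s ≠ 1
  · obtain ⟨s, w, hw, hwz, hs, hs1⟩ := h1
    obtain ⟨p, hp, hP⟩ := h.El_pGroup hw hz hwz hs hd hs1 hd1
    obtain ⟨k, hk⟩ := hB.pow h hx hp hP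
    exact ⟨p, k, hp, hk⟩
  have h2 := (ho z g hz).resolve_left fun hh => h1 hh.exists_move
  obtain ⟨s, b, hb, hbg, hs, hs1⟩ := h2.exists_move
  obtain ⟨p, hp, hP⟩ := h.dual.El_pGroup hb hz hbg hs hd.dual hs1 hd1
  obtain ⟨k, hk⟩ := h2.pow h.dual hz hp hP
  exact ⟨p, k, hp, hk⟩

theorem prime_pow (hn : Odd n)
    (hT : ∀ x g y l, I x g → I y g → I x l → y ≠ x → l ≠ g →
      ∃ (t : G) (c : P) (a : L), Hm I t c a ∧ t • x = x ∧ t • g = g ∧ t • y = y ∧ t • l = l) :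
    ∃ p k, p.Prime ∧ n = p ^ k := by
  obtain ⟨x⟩ := h.neP
  obtain ⟨g, hg, -⟩ := h.exists_line x x
  rcases h.be_or hn hT hg with h1 | h1
  · exact h1.prime_pow h hg fun x g hx => h.be_or hn hT hx
  · exact h1.prime_pow h.dual hg fun g x hx => (h.be_or hn hT hx).symm

end Act

end Cfsg.Agent.Perm.PG
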