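import Mathlib
import Cfsg.Agent.Perm.PGPlanePP
import Cfsg.Agent.Perm.PGDesign
import Cfsg.Agent.GT.HallTools
import Cfsg.Agent.Inv.SylowElt

/-!
# A 2-transitive collineation group contains a perspectivity
-/

set_option autoImplicit false

namespace Cfsg.Agent.Perm.PG

open Subgroup MulAction Fx Cfsg.Agent.Perm.Der

theorem card_orbit_dvd_mul {G X : Type*} [Group G] [MulAction G X] {K H : Subgroup G}
    (hKH : K ≤ H) (x : X) : Nat.card (orbit H x) ∣ Nat.card (orbit K x) * K.relIndex H := by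
  rw [card_orbit_eq_relIndex, card_orbit_eq_relIndex, ← inf_relIndex_right _ K,
    relIndex_mul_relIndex _ _ _ inf_le_right hKH]
  exact relIndex_dvd_of_le_left _ inf_le_left

theorem dvd_ncard_of_orbits {G X : Type*} [Group G] [MulAction G X] [Finite X] (H : Subgroup G)
    (S : Set X) (hS : ∀ h ∈ H, ∀ x ∈ S, h • x ∈ S) {d : ℕ}
    (h : ∀ x ∈ S, d ∣ Nat.card (orbit H x)) : d ∣ S.ncard := by
  classical
  change d ∣ Nat.card (subAct H S hS)
  rw [Nat.card_congr (selfEquivSigmaOrbits H (subAct H S hS))]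
  have := Fintype.ofFinite (orbitRel.Quotient H (subAct H S hS))
  rw [Nat.card_sigma]
  refine Finset.dvd_sum fun c _ => ?_
  have := h _ c.out.2
  rwa [← SubMulAction.val_image_orbit, Nat.card_coe_set_eq,
    Set.ncard_image_of_injective _ Subtype.val_injective] at this

variable {P L : Type*}

/-- The full collineation group. -/
def Col (I : P → L → Prop) : Subgroup (Equiv.Perm P × Equiv.Perm L) where
  carrier := {g | ∀ x l, I (g.1 x) (g.2 l) ↔ I x l}
  one_mem' := fun _ _ => Iff.rfl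
  mul_mem' := fun ha hb x l => (ha _ _).trans (hb x l)
  inv_mem' := fun {g} hg x l => by simpa using (hg (g.1⁻¹ x) (g.2⁻¹ l)).symm

instance instColActP (I : P → L → Prop) : MulAction (Col I) P :=
  MulAction.compHom P ((MonoidHom.fst _ _).comp (Col I).subtype)

instance instColActL (I : P → L → Prop) : MulAction (Col I) L :=
  MulAction.compHom L ((MonoidHom.snd _ _).comp (Col I).subtype)

variable {I : P → L → Prop} {n : ℕ}

theorem Plane.eq_one_of_fix (h : Plane I n) {σ : Equiv.Perm P} {τ : Equiv.Perm L}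
    (hI : ∀ x l, I (σ x) (τ l) ↔ I x l) (h1 : ∀ x, σ x = x) : τ = 1 := by
  ext l
  obtain ⟨y⟩ := h.neP
  obtain ⟨u, hu, -⟩ := h.third l y y
  obtain ⟨v, hv, hvu, -⟩ := h.third l u u
  exact h.eq_line hvu (h1 v ▸ (hI v l).2 hv :) (h1 u ▸ (hI u l).2 hu :) hv hu

theorem Plane.act (h : Plane I n) : Act (Col I) I n where
  toPlane := h
  inv g := g.2
  faithP g hg := Subtype.ext (Prod.ext (Equiv.ext hg) (h.eq_one_of_fix g.2 hg))
  faithL g hg := Subtype.ext (Prod.ext (h.dual.eq_one_of_fix (fun l x => g.2 x l) hg)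
    (Equiv.ext hg))

variable {G : Type*} [Group G] [MulAction G P] [MulAction G L] [Finite P] [Finite L]

namespace Act

variable (h : Act G I n)
include h

theorem card_P : Nat.card P = (n + 1) * n + 1 := by
  obtain ⟨x⟩ := h.neP
  have := h.baer_total (one_smul G x) (f := n) fun l _ => by simpa using h.cardL l
  simpa [h.cardP, Set.ncard_univ] using this

theorem card_off (l : L) : {x | ¬ I x l}.ncard = n * n := by
  have h1 := Set.ncard_add_ncard_compl {x | I x l}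
  rw [h.cardL, h.card_P] at h1
  change _ + {x | ¬ I x l}.ncard = _ at h1
  rw [add_mul] at h1
  omega

variable (h2 : ∀ x y x' y' : P, x ≠ y → x' ≠ y' → ∃ g : G, g • x = x' ∧ g • y = y')
include h2

omit [Finite P] [Finite L] in
theorem flag {x x' : P} {l l' : L} (hx : I x l) (hx' : I x' l') :
    ∃ g : G, g • x = x' ∧ g • l = l' := by
  obtain ⟨y, hy, hyx, -⟩ := h.third l x x
  obtain ⟨y', hy', hyx', -⟩ := h.third l' x' x'
  obtain ⟨g, e1, e2⟩ := h2 x y x' y' hyx.symm hyx'.symm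
  exact ⟨g, e1, h.eq_line hyx' (h.smul_inc e2 rfl hy) (h.smul_inc e1 rfl hx) hy' hx'⟩

variable [Finite G]

theorem fix_eq : (∀ g : G, fix L g = fix P g) ∧ IsMultiplyPretransitive G L 2 := by
  obtain ⟨x⟩ := h.neP
  have : IsPretransitive G L := ⟨fun l l' => by
    obtain ⟨y, hy, -⟩ := h.third l x x
    obtain ⟨y', hy', -⟩ := h.third l' x x
    obtain ⟨g, -, e⟩ := h.flag h2 hy hy'
    exact ⟨g, e⟩⟩
  refine fix_eq_of_card_eq (is_two_pretransitive_iff.2 fun h1 h3 => h2 _ _ _ _ h1 h3)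
    (by rw [h.card_P]; nlinarith [h.two]) (by rw [h.card_P, h.dual.card_P]) fun e => ?_
  obtain ⟨l, hl, -⟩ := h.exists_line x x
  obtain ⟨y, hy⟩ := h.exists_off l
  obtain ⟨g, hg⟩ := (isPretransitive_of_norb_le_one G e.le).exists_smul_eq (l, x) (l, y)
  exact hy (h.smul_inc (congrArg Prod.snd hg) (congrArg Prod.fst hg) hl)

theorem antiflag {x x' : P} {l l' : L} (hx : ¬ I x l) (hx' : ¬ I x' l') :
    ∃ g : G, g • x = x' ∧ g • l = l' := by
  have := Fintype.ofFinite G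
  have e1 := sum_fix (G := G) (L × P)
  have e2 := sum_fix (G := G) (P × P)
  simp only [fix_prod, (h.fix_eq h2).1] at e1 e2
  obtain ⟨u, hu, -⟩ := h.third l x x
  obtain ⟨v, -, hvu, -⟩ := h.third l u u
  have e3 : norb G (P × P) = 2 := by
    refine (Nat.card_eq_two_iff' (Quotient.mk _ (u, u))).2 ⟨Quotient.mk _ (u, v), fun e => ?_, ?_⟩
    · obtain ⟨g, hg⟩ := Quotient.exact e
      exact hvu ((congrArg Prod.snd hg).symm.trans (congrArg Prod.fst hg))
    · rintro ⟨a, b⟩ hab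
      by_cases e : a = b
      · subst e
        obtain ⟨w, -, hw, -⟩ := h.third l a a
        obtain ⟨g, hg, -⟩ := h2 u v a w hvu.symm hw.symm
        exact (hab (Quotient.sound ⟨g, Prod.ext hg hg⟩)).elim
      · obtain ⟨g, hg, hg'⟩ := h2 u v a b hvu.symm e
        exact Quotient.sound ⟨g, Prod.ext hg hg'⟩
  have e4 : norb G (L × P) = 2 := by
    rw [← e3]
    exact Nat.eq_of_mul_eq_mul_right Nat.card_pos (e1.symm.trans e2)
  have key : ∀ {y k}, ¬ I y k → (Quotient.mk _ (k, y) : orbitRel.Quotient G (L × P)) ≠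
      Quotient.mk _ (l, u) := fun hy e => by
    obtain ⟨g, hg⟩ := Quotient.exact e
    exact hy (h.smul_inc (congrArg Prod.snd hg) (congrArg Prod.fst hg) hu)
  obtain ⟨g, hg⟩ := Quotient.exact
    (((Nat.card_eq_two_iff' (Quotient.mk _ (l, u))).1 e4).unique (key hx') (key hx))
  exact ⟨g, congrArg Prod.snd hg, congrArg Prod.fst hg⟩

theorem config {x y y' : P} {l : L} (hx : I x l) (hy : ¬ I y l) (hy' : ¬ I y' l) :
    ∃ g : G, g • x = x ∧ g • l = l ∧ g • y = y' := by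
  have e1 : orbit (stabilizer G l) y = {x | ¬ I x l} := by
    ext z
    refine ⟨fun hz => ?_, fun hz => ?_⟩
    · obtain ⟨g, hg, rfl⟩ := mem_orbit_sub.1 hz
      exact fun hh => hy (by rwa [← mem_stabilizer_iff.1 hg, h.inv] at hh)
    · obtain ⟨g, e, e'⟩ := h.antiflag h2 hy hz
      exact mem_orbit_sub.2 ⟨g, e', e⟩
  have e2 : orbit (stabilizer G l) x = {x | I x l} := by
    ext z
    refine ⟨fun hz => ?_, fun hz => ?_⟩
    · obtain ⟨g, hg, rfl⟩ := mem_orbit_sub.1 hz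
      exact h.smul_inc rfl hg hx
    · obtain ⟨g, e, e'⟩ := h.flag h2 hx hz
      exact mem_orbit_sub.2 ⟨g, e', e⟩
  have e3 := card_orbit_dvd_mul (K := stabilizer G x ⊓ stabilizer G l) inf_le_right y
  rw [inf_relIndex_right, ← card_orbit_eq_relIndex, e1, e2, Nat.card_coe_set_eq,
    Nat.card_coe_set_eq, Nat.card_coe_set_eq, h.card_off, h.cardL] at e3
  have e4 := Nat.le_of_dvd ((Set.ncard_pos (Set.toFinite _)).2 ⟨y, mem_orbit_self y⟩)
    (Nat.Coprime.dvd_of_dvd_mul_right (Nat.Coprime.mul_left (by simp) (by simp)) e3)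
  have e5 : orbit ↥(stabilizer G x ⊓ stabilizer G l) y = {x | ¬ I x l} :=
    Set.eq_of_subset_of_ncard_le (fun z hz => by
      obtain ⟨g, hg, rfl⟩ := mem_orbit_sub.1 hz
      exact e1 ▸ mem_orbit_sub.2 ⟨g, hg.2, rfl⟩) (by rwa [h.card_off])
  obtain ⟨g, hg, e⟩ := mem_orbit_sub.1 (e5.ge hy')
  exact ⟨g, hg.1, hg.2, e⟩

theorem orbit_two {x y : P} {u : L} (hx : I x u) (hy : ¬ I y u) :
    orbit (stabilizer G (x, y)) u = {l | I x l ∧ ¬ I y l} := by
  ext v
  refine ⟨fun hv => ?_, fun hv => ?_⟩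
  · obtain ⟨g, hg, rfl⟩ := mem_orbit_sub.1 hv
    obtain ⟨e1, e2⟩ := Prod.ext_iff.1 (mem_stabilizer_iff.1 hg)
    exact ⟨h.smul_inc e1 rfl hx, fun hh => hy ((h.inv g y u).1 (by
      rwa [show g • y = y from e2]))⟩
  · obtain ⟨g, e1, e2⟩ := h.flag h2 hx hv.1
    obtain ⟨s, e3, e4, e5⟩ := h.config h2 hv.1 (y := g • y) (by rwa [← e2, h.inv]) hv.2
    exact mem_orbit_sub.2 ⟨s * g, Prod.ext (by simp [mul_smul, e1, e3]) (by simp [mul_smul, e5]),
      by rw [mul_smul, e2, e4]⟩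

theorem card_orbit_two {x y : P} {u : L} (hx : I x u) (hy : ¬ I y u) :
    Nat.card (orbit (stabilizer G (x, y)) u) = n := by
  obtain ⟨g, h3, h4⟩ := h.line x y (by rintro rfl; exact hy hx)
  rw [h.orbit_two h2 hx hy, Nat.card_coe_set_eq, ← h.toPlane.dual.ncard_sdiff h3]
  congr 1
  ext l
  exact and_congr_right fun hl => not_congr ⟨fun hh => h.eq_line (by rintro rfl; exact hy hx)
    hl hh h3 h4, fun hh => hh ▸ h4⟩

omit [Finite G] [Finite P] [Finite L] h in
theorem card_stab_two {x y x' y' : P} (hxy : x ≠ y) (hxy' : x' ≠ y') :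
    Nat.card (stabilizer G (x, y)) = Nat.card (stabilizer G (x', y')) := by
  obtain ⟨g, rfl, rfl⟩ := h2 x y x' y' hxy hxy'
  exact (card_stabilizer_smul g (x, y)).symm

theorem pow_dvd_orbit {x y x' y' : P} (hxy : x ≠ y) {p k : ℕ} (hp : p.Prime) (hk : p ^ k ∣ n)
    {R : Subgroup G} (hR : R ≤ stabilizer G (x, y)) (hi : ¬ p ∣ R.relIndex (stabilizer G (x, y)))
    (hR' : R ≤ stabilizer G (x', y')) {u : L} (hx : I x' u) (hy : ¬ I y' u) :
    p ^ k ∣ Nat.card (orbit R u) := by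
  rw [relIndex_dvd_iff_of_card_eq hR hR'
    (card_stab_two h2 hxy (by rintro rfl; exact hy hx))] at hi
  have := card_orbit_dvd_mul hR' u
  rw [h.card_orbit_two h2 hx hy] at this
  exact (Nat.Coprime.pow_left k ((Nat.Prime.coprime_iff_not_dvd hp).2 hi)).dvd_of_dvd_mul_right
    (hk.trans this)

theorem exists_syl {x y : P} (hxy : x ≠ y) {p : ℕ} (hp : p.Prime) (hn : p ∣ n) :
    ∃ R ≤ stabilizer G (x, y), ¬ p ∣ R.relIndex (stabilizer G (x, y)) ∧
      ∃ z ∈ R, orderOf z = p ∧ ∀ r ∈ R, Commute r z := by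
  have := Fact.mk hp
  obtain ⟨R, hR, hP, hi⟩ := GT.HT.exists_sylow_le p (stabilizer G (x, y))
  refine ⟨R, hR, hi, Inv.exists_central_of_isPGroup hP ?_⟩
  rintro rfl
  obtain ⟨g, h3, h4⟩ := h.line x y hxy
  obtain ⟨u, hu, hug, -⟩ := h.third' x g g
  rw [relIndex_bot_left] at hi
  exact hi (hn.trans (h.card_orbit_two h2 hu (fun hh => hug (h.eq_line hxy hu hh h3 h4)) ▸
    card_orbit_dvd _ u))

theorem exists_per_of_even (hn : Even n) : ∃ (z : G) (c : P) (a : L), z ≠ 1 ∧ Per I z c a := by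
  obtain ⟨g⟩ := h.neL
  obtain ⟨x, hx, -⟩ := h.third g h.neP.some h.neP.some
  obtain ⟨y, hy, hyx, -⟩ := h.third g x x
  obtain ⟨R, hR, hi, z, hz, ho, hc⟩ := h.exists_syl h2 hyx.symm Nat.prime_two hn.two_dvd
  have hz1 : z ≠ 1 := by rintro rfl; simp at ho
  rcases h.baer (g := z) (by rw [← pow_two, ← ho, pow_orderOf_eq_one]) with ⟨c, a, hz⟩ | ⟨m, e, hm⟩
  · exact ⟨z, c, a, hz1, hz⟩
  exfalso
  have hfix : ∀ r ∈ R, r • x = x ∧ r • y = y := fun r hr =>
    Prod.ext_iff.1 (mem_stabilizer_iff.1 (hR hr))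
  have hg : ∀ r ∈ R, r • g = g := fun r hr => h.fix_line hyx hy hx (hfix r hr).2 (hfix r hr).1
  have h1 := hm.dual.ncard_sdiff (x := ⟨g, hg z hz⟩) (l := ⟨x, (hfix z hz).1⟩) hx
  rw [← Set.ncard_image_of_injective _ Subtype.val_injective] at h1
  have hm0 : m ≠ 0 := by have := hm.two; omega
  have h3 : 2 ^ n.factorization 2 ∣ m := by
    rw [← h1]
    refine dvd_ncard_of_orbits R _ ?_ ?_
    · rintro r hr _ ⟨⟨l, hl⟩, ⟨h3, h4⟩, rfl⟩
      exact ⟨⟨r • l, by rw [← mul_smul, ← (hc r hr).eq, mul_smul, hl]⟩,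
        ⟨h.smul_inc (hfix r hr).1 rfl h3, fun e => h4 (Subtype.ext (MulAction.injective r
          ((congrArg Subtype.val e).trans (hg r hr).symm)))⟩, rfl⟩
    · rintro _ ⟨⟨l, hl⟩, ⟨h3, h4⟩, rfl⟩
      exact h.pow_dvd_orbit h2 hyx.symm Nat.prime_two (Nat.ordProj_dvd n 2) hR hi hR h3
        fun hh => h4 (Subtype.ext (h.eq_line hyx hh h3 hy hx))
  have h4 := (Nat.prime_two.pow_dvd_iff_le_factorization hm0).1 h3
  have h5 : 2 ∣ m := by
    rw [e] at hn
    exact (Nat.prime_two.dvd_mul.1 hn.two_dvd).elim id id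
  have h6 := (Nat.prime_two.dvd_iff_one_le_factorization hm0).1 h5
  rw [e, Nat.factorization_mul hm0 hm0, Finsupp.add_apply] at h4
  omega

theorem exists_per_of_pow {p k : ℕ} (hp : p.Prime) (hn : n = p ^ k) :
    ∃ (z : G) (c : P) (a : L), z ≠ 1 ∧ Per I z c a := by
  obtain ⟨g⟩ := h.neL
  obtain ⟨x, hx, -⟩ := h.third g h.neP.some h.neP.some
  obtain ⟨y, hy, hyx, -⟩ := h.third g x x
  obtain ⟨R, hR, hi, z, hz, ho, hc⟩ := h.exists_syl h2 hyx.symm hp
    (hn ▸ dvd_pow_self p (by rintro rfl; have := h.two; rw [pow_zero] at hn; omega))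
  have hz1 : z ≠ 1 := by rintro rfl; exact hp.one_lt.ne (by simpa using ho)
  have hfix : ∀ r ∈ R, r • x = x ∧ r • y = y := fun r hr =>
    Prod.ext_iff.1 (mem_stabilizer_iff.1 (hR hr))
  have hg : ∀ r ∈ R, r • g = g := fun r hr => h.fix_line hyx hy hx (hfix r hr).2 (hfix r hr).1
  have hcl : ∀ r ∈ R, ∀ l : L, z • l = l → z • r • l = r • l := fun r hr l hl => by
    rw [← mul_smul, ← (hc r hr).eq, mul_smul, hl]
  have key : ∀ w u, I w g → (∀ r ∈ R, r • w = w) → I w u → u ≠ g → z • u = u →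
      ∃ (z : G) (c : P) (a : L), z ≠ 1 ∧ Per I z c a := fun w u hw hRw hu hug hzu => by
    obtain ⟨v, hv, hvw, hRv⟩ : ∃ v, I v g ∧ v ≠ w ∧ ∀ r ∈ R, r • v = v := by
      by_cases e : x = w
      · exact ⟨y, hy, e ▸ hyx, fun r hr => (hfix r hr).2⟩
      · exact ⟨x, hx, e, fun r hr => (hfix r hr).1⟩
    have hvu : ¬ I v u := fun hh => hug (h.eq_line hvw hh hu hv hw)
    have hR' : R ≤ stabilizer G (w, v) := fun r hr => Prod.ext (hRw r hr) (hRv r hr)
    have h1 := h.pow_dvd_orbit h2 hyx.symm hp hn.symm.dvd hR hi hR' hu hvu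
    have h3 : orbit R u = orbit (stabilizer G (w, v)) u := Set.eq_of_subset_of_ncard_le
      (fun l hl => by
        obtain ⟨r, hr, rfl⟩ := mem_orbit_sub.1 hl
        exact mem_orbit_sub.2 ⟨r, hR' hr, rfl⟩) (by
        rw [← Nat.card_coe_set_eq, h.card_orbit_two h2 hu hvu, hn]
        exact Nat.le_of_dvd ((Set.ncard_pos (Set.toFinite _)).2 ⟨u, mem_orbit_self u⟩) h1)
    rw [h.orbit_two h2 hu hvu] at h3
    obtain ⟨a, ha⟩ := h.dual.exists_per (g := z) (a := w) fun l hl => by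
      by_cases e : I v l
      · rw [h.eq_line hvw e hl hv hw]; exact hg z hz
      · obtain ⟨r, hr, rfl⟩ := mem_orbit_sub.1 (h3 ▸ ⟨hl, e⟩ : l ∈ orbit R u)
        exact hcl r hr u hzu
    exact ⟨z, w, a, hz1, ha.dual⟩
  by_cases h1 : ∃ v, ¬ I v g ∧ z • v = v
  · obtain ⟨v, hv, e⟩ := h1
    obtain ⟨u, h3, h4⟩ := h.exists_line x v
    exact key x u hx (fun r hr => (hfix r hr).1) h3 (by rintro rfl; exact hv h4)
      (h.fix_line (by rintro rfl; exact hv hx) h3 h4 (hfix z hz).1 e)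
  push Not at h1
  obtain ⟨u, hzu, hug⟩ : ∃ u : L, z • u = u ∧ u ≠ g := by
    obtain ⟨a, b, hab, ha, hb⟩ := exists_of_two_le_fix (Ω := L) (g := z)
      ((h.fix_eq h2).1 z ▸ two_le_fix hyx (hfix z hz).2 (hfix z hz).1)
    by_cases e : a = g
    · exact ⟨b, hb, e ▸ hab.symm⟩
    · exact ⟨a, ha, e⟩
  obtain ⟨w, h3, h4⟩ := h.point u g hug
  refine key w u h4 (fun r hr => ?_) h3 hug hzu
  by_cases e : r • u = u
  · exact h.fix_point hug h3 h4 e (hg r hr)
  obtain ⟨v, h5, h6⟩ := h.point _ _ e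
  have h7 : I v g := by
    by_contra hh
    exact h1 v hh (h.fix_point e h5 h6 (hcl r hr u hzu) hzu)
  obtain rfl := h.eq_point hug h6 h7 h3 h4
  exact h.eq_point (fun e' => hug (MulAction.injective r (e'.trans (hg r hr).symm)))
    (h.smul_inc rfl rfl h3) (h.smul_inc rfl (hg r hr) h4) h5 h7

end Act

end Cfsg.Agent.Perm.PG
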