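import Mathlib
import Cfsg.Agent.Perm.FixTools
import Cfsg.Agent.Perm.Regular
import Cfsg.Agent.Perm.Derange
import Cfsg.Agent.Perm.SharpTwo
import Cfsg.Agent.Perm.SocleLight
import Cfsg.Agent.Ch.Burnside

/-! Primitive groups with at most two classes of derangements. -/

namespace Cfsg.Agent.Perm.DC

open MulAction Cfsg.Agent.Inv.Fz Cfsg.Agent.Perm.Fx Cfsg.Agent.Perm.SL Cfsg.Agent.Perm.Der Subgroup

variable {G : Type*} [Group G] {Ω : Type*} [MulAction G Ω]

/-- number of conjugacy classes of derangements -/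
noncomputable def ncl (G Ω : Type*) [Group G] [MulAction G Ω] : ℕ :=
  Nat.card {c : ConjClasses G // ∃ g : G, ConjClasses.mk g = c ∧ ∀ ω : Ω, g • ω ≠ ω}

theorem conj_of_ncl_le_one [Finite G] (h : ncl G Ω ≤ 1) {a b : G} (ha : ∀ ω : Ω, a • ω ≠ ω)
    (hb : ∀ ω : Ω, b • ω ≠ ω) : IsConj a b := by
  have := Finite.card_le_one_iff_subsingleton.1 h
  have h1 := this.elim ⟨_, a, rfl, ha⟩ ⟨_, b, rfl, hb⟩
  exact ConjClasses.mk_eq_mk_iff_isConj.1 (congrArg Subtype.val h1)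

theorem ncl_eq_one {a : G} (ha : ∀ ω : Ω, a • ω ≠ ω)
    (h : ∀ a b : G, (∀ ω : Ω, a • ω ≠ ω) → (∀ ω : Ω, b • ω ≠ ω) → IsConj a b) : ncl G Ω = 1 := by
  rw [ncl, Nat.card_eq_one_iff_unique]
  refine ⟨⟨?_⟩, ⟨⟨_, a, rfl, ha⟩⟩⟩
  rintro ⟨_, x, rfl, hx⟩ ⟨_, y, rfl, hy⟩
  exact Subtype.ext (ConjClasses.mk_eq_mk_iff_isConj.2 (h x y hx hy))

theorem conj_of_ncl_le_two [Finite G] (h : ncl G Ω ≤ 2) {a b c : G} (ha : ∀ ω : Ω, a • ω ≠ ω)
    (hb : ∀ ω : Ω, b • ω ≠ ω) (hc : ∀ ω : Ω, c • ω ≠ ω) :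
    IsConj a b ∨ IsConj a c ∨ IsConj b c := by
  by_contra hn
  simp only [not_or, ← ConjClasses.mk_eq_mk_iff_isConj] at hn
  let S := {c : ConjClasses G // ∃ g : G, ConjClasses.mk g = c ∧ ∀ ω : Ω, g • ω ≠ ω}
  have h1 := Set.ncard_le_card ({⟨_, a, rfl, ha⟩, ⟨_, b, rfl, hb⟩, ⟨_, c, rfl, hc⟩} : Set S)
  rw [Set.ncard_eq_three.2 ⟨_, _, _, fun e => hn.1 (congrArg Subtype.val e),
    fun e => hn.2.1 (congrArg Subtype.val e), fun e => hn.2.2 (congrArg Subtype.val e), rfl⟩] at h1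
  exact absurd (h1.trans h) (by omega)

theorem orderOf_eq_of_isConj {a b : G} (h : IsConj a b) : orderOf a = orderOf b := by
  obtain ⟨c, rfl⟩ := isConj_iff.1 h
  exact ((MulAut.conj c).orderOf_eq a).symm

theorem exists_three_orders (T : Type*) [Group T] [Finite T] [IsSimpleGroup T]
    (hc : ¬ IsMulCommutative T) : ∃ a b c : T, a ≠ 1 ∧ b ≠ 1 ∧ c ≠ 1 ∧ orderOf a ≠ orderOf b ∧
      orderOf a ≠ orderOf c ∧ orderOf b ≠ orderOf c := by
  have h1 : 2 < (Nat.card T).primeFactors.card := by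
    by_contra h
    have := Ch.burnside_isSolvable_of_card_primeFactors_le_two (G := T) (by omega)
    exact hc ⟨⟨IsSimpleGroup.comm_iff_isSolvable.2 this⟩⟩
  obtain ⟨p, q, r, hp, hq, hr, h2, h3, h4⟩ := Finset.two_lt_card_iff.1 h1
  have key : ∀ p ∈ (Nat.card T).primeFactors, ∃ a : T, a ≠ 1 ∧ orderOf a = p := by
    intro p hp
    have := Fact.mk (Nat.prime_of_mem_primeFactors hp)
    obtain ⟨a, ha⟩ := exists_prime_orderOf_dvd_card' p (Nat.dvd_of_mem_primeFactors hp)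
    refine ⟨a, ?_, ha⟩
    rintro rfl
    rw [orderOf_one] at ha
    exact this.out.one_lt.ne ha
  obtain ⟨a, ha, rfl⟩ := key p hp
  obtain ⟨b, hb, rfl⟩ := key q hq
  obtain ⟨c, hc, rfl⟩ := key r hr
  exact ⟨a, b, c, ha, hb, hc, h2, h3, h4⟩

/-- Jordan: a subgroup moving `α` has an element without fixed points on the orbit of `α` -/
theorem exists_der_orbit [Finite G] (T : Subgroup G) {α : Ω} (h : ¬ T ≤ stabilizer G α) :
    ∃ d ∈ T, ∀ t ∈ T, d • t • α ≠ t • α := by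
  have := Finite.finite_mulAction_orbit (M := T) α
  have hf : Finite (orbit T α) := this
  have h1 := derSub_isPretransitive (G := T) (Ω := orbit T α)
  by_contra hn
  push Not at hn
  apply h
  intro t ht
  obtain ⟨⟨g, hg⟩, hg'⟩ := h1.exists_smul_eq ⟨α, mem_orbit_self α⟩ ⟨_, mem_orbit α (⟨t, ht⟩ : T)⟩
  have h2 : derSub T (orbit T α) = ⊥ := by
    rw [eq_bot_iff, closure_le]
    intro d hd
    obtain ⟨s, hs, hs'⟩ := hn d d.2
    exact absurd (Subtype.ext hs') (hd ⟨_, mem_orbit α (⟨s, hs⟩ : T)⟩)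
  rw [h2, mem_bot] at hg
  subst hg
  have : α = t • α := by simpa using congrArg Subtype.val hg'
  exact this.symm

variable [Finite G] [FaithfulSMul G Ω]

theorem affine_of_ncl (hprim : IsPreprimitive G Ω) [Nontrivial Ω]
    (hnas : ¬ ∃ T : Subgroup G, T.Normal ∧ IsSimpleGroup T ∧ ¬ IsMulCommutative T ∧
      centralizer (T : Set G) = ⊥) (h : ncl G Ω ≤ 2) :
    ∃ N : Subgroup G, N.Normal ∧ N ≠ ⊥ ∧ IsMulCommutative N ∧ ∀ ω : Ω, stabilizer N ω = ⊥ := by
  obtain ⟨α, β, hαβ⟩ := exists_pair_ne Ω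
  have hnt : Nontrivial G := by
    obtain ⟨g, hg⟩ := exists_smul_eq G α β
    exact ⟨⟨g, 1, by rintro rfl; exact hαβ (by rw [← hg, one_smul])⟩⟩
  obtain ⟨N, hN⟩ := GT.exists_isMinNormal G
  have := hN.normal
  have hNt := Perm.isPretransitive_of_normal_ne_bot hprim N hN.ne_bot
  by_cases hc : IsMulCommutative N
  · exact ⟨N, hN.normal, hN.ne_bot, hc, Perm.stabilizer_eq_bot_of_comm N hc⟩
  exfalso
  have hH' : stabilizer G α ≠ ⊤ := by
    intro h
    obtain ⟨g, hg⟩ := exists_smul_eq G α β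
    have : g ∈ stabilizer G α := h ▸ mem_top g
    exact hαβ (Eq.trans (Eq.symm this) hg)
  have hHN : stabilizer G α ⊔ N = ⊤ := by rw [sup_comm]; exact Perm.sup_stabilizer_eq_top N α
  obtain ⟨T, hT⟩ := exists_cp hN.ne_bot
  have hTs := hT.simple hN
  have hTc := hT.not_comm hN hc
  have hTH := hT.not_le hN hc hHN hH'
  have hsemi : ¬ ∀ t ∈ T, t • α = α → t = 1 := by
    intro hs
    have h1 : ∀ t : T, t ≠ 1 → ∀ ω : Ω, (t : G) • ω ≠ ω := by
      intro t ht ω hω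
      obtain ⟨n, hn, rfl⟩ := Perm.exists_mem_smul_eq N α ω
      have := hs _ (hT.conj_mem (N.inv_mem hn) t.2) (by
        rw [inv_inv, mul_smul, mul_smul, hω, inv_smul_smul])
      exact ht (Subtype.ext (conj_eq_one_iff.1 this))
    obtain ⟨a, b, c, ha, hb, hc, h2, h3, h4⟩ := exists_three_orders T hTc
    rcases conj_of_ncl_le_two h (h1 a ha) (h1 b hb) (h1 c hc) with h5 | h5 | h5 <;>
      have := orderOf_eq_of_isConj h5 <;> simp only [orderOf_coe] at this <;> contradiction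
  rcases dichotomy hN hc (fun K hK => Perm.eq_stabilizer_or_eq_top hprim α hK) with hP | hP
  swap
  · exact hsemi fun t ht => inf_eq_bot_of_subdirect hN hT (hP T hT) hTH ht
  by_cases hTn : T.Normal
  · have h1 : centralizer (T : Set G) ≠ ⊥ := fun h => hnas ⟨T, hTn, hTs, hTc, h⟩
    exact hsemi fun t ht =>
      eq_one_of_commute_transitive (normal_transitive h1) (fun c hc => (hc t ht).symm)
  obtain ⟨T', hT', hne⟩ := hT.exists_ne hTn
  have hcen := hT.le_centralizer hT' hne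
  obtain ⟨d, hd, hder⟩ := exists_der_orbit T hTH
  have hd1 : d ≠ 1 := by rintro rfl; exact hder 1 T.one_mem (one_smul _ _)
  have h1 : ∀ s ∈ T', ∀ ω : Ω, (d * s) • ω ≠ ω := by
    intro s hs ω hω
    obtain ⟨n, hn, rfl⟩ := Perm.exists_mem_smul_eq N α ω
    have h2 := hP T hT _ (hT.conj_mem (N.inv_mem hn) hd) _
      ⟨hT'.le (hT'.conj_mem (N.inv_mem hn) hs), hcen (hT'.conj_mem (N.inv_mem hn) hs)⟩ (by
        change _ • α = α
        rw [show n⁻¹ * d * n⁻¹⁻¹ * (n⁻¹ * s * n⁻¹⁻¹) = n⁻¹ * (d * s) * n by group, mul_smul,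
          mul_smul, hω, inv_smul_smul])
    obtain ⟨t, ht, c, hc, rfl⟩ := hT.decomp hN hn
    apply hder t ht
    have h3 : (t * c)⁻¹ * d * (t * c)⁻¹⁻¹ = t⁻¹ * d * t := by
      have := hc.2 _ (T.mul_mem (T.mul_mem (T.inv_mem ht) hd) ht)
      calc _ = c⁻¹ * (t⁻¹ * d * t * c) := by group
        _ = _ := by rw [this]; group
    rw [h3] at h2
    have h4 : (t⁻¹ * d * t) • α = α := h2
    rwa [mul_smul, mul_smul, inv_smul_eq_iff] at h4
  -- unique factorisation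
  have huf : ∀ {U U' : Subgroup G}, Cp N U → Cp N U' → U ≠ U' → ∀ a ∈ U, ∀ a' ∈ U, ∀ b ∈ U',
      ∀ b' ∈ U', a * b = a' * b' → a = a' ∧ b = b' := by
    intro U U' hU hU' hUU a ha a' ha' b hb b' hb' e
    have e1 : a'⁻¹ * a = b' * b⁻¹ := by
      calc _ = a'⁻¹ * (a * b) * b⁻¹ := by group
        _ = _ := by rw [e]; group
    have e2 : a'⁻¹ * a = 1 := by
      by_contra h3
      exact hUU (hU.eq_of_mem hU' (U.mul_mem (U.inv_mem ha') ha)
        (e1 ▸ U'.mul_mem hb' (U'.inv_mem hb)) h3)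
    rw [e2] at e1
    exact ⟨(inv_mul_eq_one.1 e2).symm, (mul_inv_eq_one.1 e1.symm).symm⟩
  have hmem : ∀ {U U' : Subgroup G}, Cp N U → Cp N U' → U ≠ U' → ∀ a ∈ U, ∀ b ∈ U', a ≠ 1 →
      ∀ s ∈ T', a * b = d * s → U = T ∨ U = T' := by
    intro U U' hU hU' hUU a ha b hb ha1 s hs e
    by_contra hn
    push Not at hn
    have e1 : a * b ∈ centralizer (U : Set G) :=
      e ▸ mul_mem (hU.le_centralizer hT hn.1 hd) (hU.le_centralizer hT' hn.2 hs)
    have e2 := mul_mem e1 (inv_mem (hU.le_centralizer hU' hUU hb))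
    rw [mul_inv_cancel_right] at e2
    exact ha1 (hU.eq_one hN hc ha e2)
  have h2 : ∀ s ∈ T', ∀ s' ∈ T', s' ≠ 1 → IsConj (d * s) (d * s') → orderOf s = orderOf s' := by
    intro s hs s' hs' hs1 hcj
    obtain ⟨g, hg⟩ := isConj_iff.1 hcj
    have e : (g * d * g⁻¹) * (g * s * g⁻¹) = d * s' := by rw [← hg]; group
    have hUU : cj g T ≠ cj g T' := fun e => hne (cj_inj.1 e)
    have hod : orderOf (g * d * g⁻¹) = orderOf d := (MulAut.conj g).orderOf_eq d
    have hos : orderOf (g * s * g⁻¹) = orderOf s := (MulAut.conj g).orderOf_eq s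
    have hd2 : g * d * g⁻¹ ∈ cj g T := conj_mem_cj.2 hd
    have hs2 : g * s * g⁻¹ ∈ cj g T' := conj_mem_cj.2 hs
    have hcomm := (hT.cj g).le_centralizer (hT'.cj g) hUU hs2 _ hd2
    have h3 := hmem (hT.cj g) (hT'.cj g) hUU _ hd2 _ hs2 (by simpa using hd1) s' hs' e
    by_cases hs0 : s = 1
    · subst hs0
      rw [mul_one, mul_inv_cancel, mul_one] at e
      rcases h3 with h3 | h3
      · rw [h3] at hd2
        exact absurd (huf hT hT' hne _ hd2 _ hd _ T'.one_mem _ hs' (by rw [mul_one, e])).2.symm hs1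
      · rw [h3] at hd2
        exact absurd (huf hT hT' hne _ T.one_mem _ hd _ hd2 _ hs' (by rw [one_mul, e])).1.symm hd1
    have h4 := hmem (hT'.cj g) (hT.cj g) hUU.symm _ hs2 _ hd2 (by simpa using hs0) s' hs'
      (hcomm ▸ e)
    rcases h3 with h3 | h3 <;> rcases h4 with h4 | h4
    · exact absurd (h3.trans h4.symm) hUU
    · rw [h3] at hd2; rw [h4] at hs2
      rw [← (huf hT hT' hne _ hd2 _ hd _ hs2 _ hs' e).2, hos]
    · rw [h3] at hd2; rw [h4] at hs2
      have := huf hT hT' hne _ hs2 _ hd _ hd2 _ hs' (hcomm ▸ e)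
      rw [← this.2, hod, ← this.1, hos]
    · exact absurd (h3.trans h4.symm) hUU
  have := hT'.simple hN
  obtain ⟨a, b, -, ha, hb, -, hab, -⟩ := exists_three_orders T' (hT'.not_comm hN hc)
  have ha' : (a : G) ≠ 1 := fun e => ha (Subtype.ext e)
  have hb' : (b : G) ≠ 1 := fun e => hb (Subtype.ext e)
  rcases conj_of_ncl_le_two h (h1 1 T'.one_mem) (h1 a a.2) (h1 b b.2) with h5 | h5 | h5
  · have := h2 _ T'.one_mem _ a.2 ha' h5
    rw [orderOf_one] at this
    exact ha' (orderOf_eq_one_iff.1 this.symm)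
  · have := h2 _ T'.one_mem _ b.2 hb' h5
    rw [orderOf_one] at this
    exact hb' (orderOf_eq_one_iff.1 this.symm)
  · exact hab (by simpa only [orderOf_coe] using h2 _ a.2 _ b.2 hb' h5)

omit [FaithfulSMul G Ω] [Finite G] in
/-- conjugate elements of an abelian transitive normal subgroup are conjugate under `G_α` -/
theorem exists_stab_of_isConj {N : Subgroup G} [N.Normal] [IsPretransitive N Ω]
    (hc : IsMulCommutative N) (α : Ω) {a b : G} (ha : a ∈ N) (h : IsConj a b) :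
    ∃ g : G, g • α = α ∧ g • a • α = b • α := by
  obtain ⟨g, rfl⟩ := isConj_iff.1 h
  obtain ⟨n, hn, s, hs, rfl⟩ := Perm.exists_mem_mul_stabilizer N α g
  refine ⟨s, hs, ?_⟩
  have h1 := le_centralizer_iff_isMulCommutative.2 hc hn _ (‹N.Normal›.conj_mem a ha s)
  have : n * s * a * (n * s)⁻¹ = s * a * s⁻¹ := by
    calc _ = n * (s * a * s⁻¹) * n⁻¹ := by group
      _ = _ := by rw [← h1]; group
  rw [this, mul_smul, mul_smul, (inv_smul_eq_iff.2 hs.symm : s⁻¹ • α = α)]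

theorem count [Finite Ω] [IsPretransitive G Ω] {N : Subgroup G} [IsPretransitive N Ω] {α : Ω}
    (hreg : stabilizer N α = ⊥) (hder : ∀ g : G, (∀ ω : Ω, g • ω ≠ ω) → g ∈ N) {k : ℕ}
    (hk : k + 1 ≤ norb G (Ω × Ω)) (hn : Nat.card Ω - 1 ≤ k * Nat.card (stabilizer G α)) :
    k * Nat.card (stabilizer G α) = Nat.card Ω - 1 ∧ ∀ g : G, g ≠ 1 → fix Ω g ≤ 1 := by
  have := Fintype.ofFinite G
  have : Nonempty Ω := ⟨α⟩
  have h1 := card_mul_nder (G := G) (Ω := Ω)
  have h2 := sum_fix_mul_pred (G := G) (Ω := Ω)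
  have h3 : nder G Ω ≤ Nat.card Ω - 1 := by
    have e : {g : G | ∀ ω : Ω, g • ω ≠ ω} ⊆ (N : Set G) \ {1} := by
      intro g hg
      refine ⟨hder g hg, ?_⟩
      rintro rfl
      exact hg α (one_smul _ _)
    have := Set.ncard_le_ncard e
    rw [Set.ncard_sdiff_singleton_of_mem N.one_mem, ← Nat.card_coe_set_eq (N : Set G)] at this
    rw [← Perm.card_subgroup_eq_of_regular N α hreg]
    exact this
  have h4 := card_eq_card_mul (G := G) α
  have hpos : 0 < Nat.card Ω := Nat.card_pos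
  set A := ∑ g : G, fix Ω g * (fix Ω g - 1)
  set B := ∑ g : G, (fix Ω g - 1) * (Nat.card Ω - fix Ω g) with hB
  have h5 : k * Nat.card G ≤ A := by
    have := Nat.mul_le_mul_right (Nat.card G) hk
    rw [← h2, add_mul, one_mul] at this
    omega
  have h6 := Nat.mul_le_mul_left (Nat.card Ω) (h3.trans hn)
  have h7 : Nat.card Ω * (k * Nat.card (stabilizer G α)) = k * Nat.card G := by rw [h4]; ring
  have h8 : B = 0 := by omega
  refine ⟨le_antisymm (le_trans ?_ h3) hn, fun g hg => ?_⟩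
  · apply Nat.le_of_mul_le_mul_left _ hpos
    omega
  · rw [hB, Finset.sum_eq_zero_iff] at h8
    rcases Nat.mul_eq_zero.1 (h8 g (Finset.mem_univ _)) with h9 | h9
    · omega
    · exact absurd (eq_one_of_fix_eq (Ω := Ω) (le_antisymm (fix_le g) (by omega))) hg

omit [FaithfulSMul G Ω] in
theorem card_orbit_le (H : Subgroup G) (x : Ω) : (orbit H x).ncard ≤ Nat.card H :=
  Nat.le_of_dvd Nat.card_pos (card_orbit_dvd H x)

omit [FaithfulSMul G Ω] [Finite G] in
theorem der_of_mem {N : Subgroup G} (hreg : ∀ ω : Ω, stabilizer N ω = ⊥) {n : G} (hn : n ∈ N)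
    (h1 : n ≠ 1) (ω : Ω) : n • ω ≠ ω := Perm.smul_ne_of_semiregular (hreg ω) hn h1

omit [FaithfulSMul G Ω] [Finite G] in
theorem two_trans_of_conj {N : Subgroup G} [N.Normal] [IsPretransitive N Ω]
    (hc : IsMulCommutative N) (h : ∀ a ∈ N, ∀ b ∈ N, a ≠ 1 → b ≠ 1 → IsConj a b) :
    IsMultiplyPretransitive G Ω 2 := by
  rw [is_two_pretransitive_iff]
  intro a b c d hab hcd
  obtain ⟨m, -, rfl⟩ := Perm.exists_mem_smul_eq N a c
  obtain ⟨x, hx, hx'⟩ := Perm.exists_mem_smul_eq N (m • a) (m • b)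
  obtain ⟨y, hy, rfl⟩ := Perm.exists_mem_smul_eq N (m • a) d
  obtain ⟨g, hg, hg'⟩ := exists_stab_of_isConj hc (m • a) hx (h x hx y hy
    (by rintro rfl; exact hab (smul_left_cancel m (by rw [← hx', one_smul])))
    (by rintro rfl; exact hcd (one_smul _ _).symm))
  exact ⟨g * m, by rw [mul_smul, hg], by rw [mul_smul, ← hx', hg']⟩

omit [FaithfulSMul G Ω] [Finite G] in
theorem ncl_of_sharp [Finite Ω] [Nontrivial Ω] (h2 : IsMultiplyPretransitive G Ω 2)
    (hs : ∀ (g : G) (a b : Ω), a ≠ b → g • a = a → g • b = b → g = 1) : ncl G Ω = 1 := by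
  obtain ⟨K, p, -, hK, hKn, -, -, -, hKt, -⟩ :=
    Perm.exists_kernel_of_sharp_two h2 hs Finite.one_lt_card
  obtain ⟨α, β, hαβ⟩ := exists_pair_ne Ω
  obtain ⟨k, hk, hk'⟩ := Perm.exists_mem_smul_eq K α β
  have hreg : stabilizer K α = ⊥ := by
    rw [Perm.stabilizer_subgroup_eq_bot_iff]
    intro g hg hg'
    exact ((hK g).1 hg).resolve_right fun h => h α hg'
  refine ncl_eq_one (a := k) (((hK k).1 hk).resolve_left ?_) fun a b ha hb => ?_
  · rintro rfl; exact hαβ (by rw [← hk', one_smul])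
  · obtain ⟨g, -, hg⟩ := Perm.exists_conj_of_regular_normal h2 hreg ((hK a).2 (Or.inr ha))
      ((hK b).2 (Or.inr hb)) (by rintro rfl; exact ha α (one_smul _ _))
      (by rintro rfl; exact hb α (one_smul _ _))
    exact isConj_iff.2 ⟨g, hg⟩

end Cfsg.Agent.Perm.DC
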