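import Mathlib
import Cfsg.Agent.Perm.FixTools
import Cfsg.Agent.Perm.Regular
import Cfsg.Agent.Inv.FzBasic

/-! Extremely primitive groups: elementwise form and Manning's theorem. -/

namespace Cfsg.Agent.Perm.EP

open MulAction Cfsg.Agent.Inv.Fz Cfsg.Agent.Perm.Fx

variable {G : Type*} [Group G] {Ω : Type*} [MulAction G Ω]

/-- two-point stabilizers are maximal in (or equal to) one-point stabilizers -/
def IsEP (G Ω : Type*) [Group G] [MulAction G Ω] : Prop :=
  ∀ α β : Ω, ∀ K : Subgroup G, stabilizer G α ⊓ stabilizer G β ≤ K → K ≤ stabilizer G α →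
    K = stabilizer G α ⊓ stabilizer G β ∨ K = stabilizer G α

theorem isEP_of (hep : ∀ α ω : Ω, IsPreprimitive (stabilizer G α) (orbit (stabilizer G α) ω)) :
    IsEP G Ω := by
  intro α β K h1 h2
  have h := eq_stabilizer_or_eq_top (hep α β) ⟨β, mem_orbit_self β⟩
    (H := K.subgroupOf (stabilizer G α)) (by
      intro g hg
      have : (g : G) • β = β := congrArg Subtype.val hg
      exact h1 ⟨g.2, this⟩)
  rcases h with h | h
  · left
    refine le_antisymm (fun g hg => ⟨h2 hg, ?_⟩) h1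
    have : (⟨g, h2 hg⟩ : stabilizer G α) ∈ K.subgroupOf (stabilizer G α) := hg
    rw [h] at this
    exact congrArg Subtype.val this
  · right
    exact le_antisymm h2 (Subgroup.subgroupOf_eq_top.1 h)

/-- a normal subgroup of `G_α` is trivial or transitive on each suborbit -/
theorem IsEP.fix_or_trans (h : IsEP G Ω) {α : Ω} {M : Subgroup G} (hM : M ≤ stabilizer G α)
    (hn : stabilizer G α ≤ Subgroup.normalizer (M : Set G)) (β : Ω) :
    (∀ m ∈ M, ∀ g : G, g • α = α → m • g • β = g • β) ∨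
      ∀ g : G, g • α = α → ∃ m ∈ M, m • β = g • β := by
  rcases h α β (stabilizer G α ⊓ stabilizer G β ⊔ M) le_sup_left (sup_le inf_le_left hM) with h | h
  · left
    intro m hm g hg
    have h1 : g⁻¹ * m * g⁻¹⁻¹ ∈ M :=
      (Subgroup.mem_normalizer_iff.1 (hn ((stabilizer G α).inv_mem hg)) m).1 hm
    have h2 : g⁻¹ * m * g⁻¹⁻¹ ∈ stabilizer G α ⊓ stabilizer G β := h ▸ Subgroup.mem_sup_right h1
    have h3 : (g⁻¹ * m * g⁻¹⁻¹) • β = β := h2.2
    rwa [inv_inv, mul_smul, mul_smul, inv_smul_eq_iff] at h3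
  · right
    intro g hg
    have : g ∈ stabilizer G α ⊓ stabilizer G β ⊔ M := h.symm ▸ hg
    obtain ⟨a, ha, b, hb, rfl⟩ := (mem_sup_iff_of_le_normalizer (inf_le_left.trans hn)).1 this
    refine ⟨a * b * a⁻¹, (Subgroup.mem_normalizer_iff.1 (hn ha.1) b).1 hb, ?_⟩
    rw [mul_smul, (inv_smul_eq_iff.2 (Eq.symm ha.2) : a⁻¹ • β = β)]

/-- the stabilizer of a set, elementwise -/
def setStab (G : Type*) [Group G] [MulAction G Ω] (S : Set Ω) : Subgroup G where
  carrier := {g | ∀ x, g • x ∈ S ↔ x ∈ S}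
  mul_mem' := fun {a b} ha hb x => by rw [mul_smul, ha, hb]
  one_mem' := fun x => by rw [one_smul]
  inv_mem' := fun {a} ha x => by rw [← ha, smul_inv_smul]

theorem le_setStab {S : Set Ω} {H : Subgroup G} (h : ∀ g ∈ H, ∀ x ∈ S, g • x ∈ S) :
    H ≤ setStab G S := fun g hg x =>
  ⟨fun hx => by simpa using h g⁻¹ (H.inv_mem hg) _ hx, h g hg x⟩

theorem eq_univ_of_setStab [IsPretransitive G Ω] {S : Set Ω} (h : setStab G S = ⊤) {x : Ω}
    (hx : x ∈ S) (y : Ω) : y ∈ S := by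
  obtain ⟨g, rfl⟩ := exists_smul_eq G x y
  have : g ∈ setStab G S := h ▸ Subgroup.mem_top g
  exact (this x).2 hx

variable [Finite G] [FaithfulSMul G Ω]

theorem sup_stabilizer (hprim : IsPreprimitive G Ω) {α β : Ω} (hH : stabilizer G α ≠ ⊥)
    (hne : α ≠ β) : stabilizer G α ⊔ stabilizer G β = ⊤ := by
  rcases eq_stabilizer_or_eq_top hprim α
    (le_sup_left : stabilizer G α ≤ stabilizer G α ⊔ stabilizer G β) with h | h
  · have h1 : stabilizer G β ≤ stabilizer G α := h ▸ le_sup_right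
    exact absurd (stabilizer_eq_bot_of_stabilizer_eq hprim hne (stabilizer_eq_of_le h1).symm α) hH
  · exact h

theorem mem_of_invariant (hprim : IsPreprimitive G Ω) {α β : Ω} (hH : stabilizer G α ≠ ⊥)
    (hne : α ≠ β) {S : Set Ω} (h1 : ∀ g ∈ stabilizer G α, ∀ x ∈ S, g • x ∈ S)
    (h2 : ∀ g ∈ stabilizer G β, ∀ x ∈ S, g • x ∈ S) {x : Ω} (hx : x ∈ S) (y : Ω) : y ∈ S := by
  refine eq_univ_of_setStab (G := G) ?_ hx y
  rw [eq_top_iff, ← sup_stabilizer hprim hH hne]
  exact sup_le (le_setStab h1) (le_setStab h2)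

/-- length of the suborbit of `G_x` through `y` -/
noncomputable def sz (G : Type*) [Group G] [MulAction G Ω] (x y : Ω) : ℕ :=
  Nat.card (orbit (stabilizer G x) y)

omit [FaithfulSMul G Ω] in
theorem sz_smul (g : G) (x y : Ω) : sz G (g • x) (g • y) = sz G x y := by
  have h1 := card_orbit_mul (stabilizer G (g • x)) (g • y)
  have h2 := card_orbit_mul (stabilizer G x) y
  have h3 : stabilizer G (g • x) ⊓ stabilizer G (g • y) = cj g (stabilizer G x ⊓ stabilizer G y) := by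
    ext h; simp only [Subgroup.mem_inf, stabilizer_smul_conj, mem_cj]
  rw [h3, card_cj, card_stabilizer_smul, ← h2] at h1
  exact Nat.eq_of_mul_eq_mul_right Nat.card_pos h1

omit [FaithfulSMul G Ω] in
theorem sz_comm [IsPretransitive G Ω] (x y : Ω) : sz G x y = sz G y x := by
  have h1 := card_orbit_mul (stabilizer G y) x
  have h2 := card_orbit_mul (stabilizer G x) y
  rw [inf_comm, card_stabilizer_eq y x, ← h2] at h1
  exact (Nat.eq_of_mul_eq_mul_right Nat.card_pos h1).symm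

omit [Finite G] [FaithfulSMul G Ω] in
theorem orbit_inv (H : Subgroup G) (y : Ω) : ∀ g ∈ H, ∀ x ∈ orbit H y, g • x ∈ orbit H y := by
  intro g hg x hx
  obtain ⟨a, ha, rfl⟩ := mem_orbit_sub.1 hx
  exact mem_orbit_sub.2 ⟨g * a, H.mul_mem hg ha, mul_smul _ _ _⟩

/-- a normal subgroup of `G_α` fixing another point fixes the longest suborbits pointwise -/
theorem IsEP.fix_longest (h : IsEP G Ω) (hprim : IsPreprimitive G Ω) {α β γ : Ω}
    (hH : stabilizer G α ≠ ⊥) (hne : α ≠ β) {M : Subgroup G} (hM : M ≤ stabilizer G α)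
    (hn : stabilizer G α ≤ Subgroup.normalizer (M : Set G)) (hβ : M ≤ stabilizer G β)
    (hγ : sz G β γ ≤ sz G α γ) : M ≤ stabilizer G γ := by
  rcases h.fix_or_trans hM hn γ with h1 | h1
  · intro m hm
    simpa using h1 m hm 1 (one_smul _ _)
  · have h2 : orbit (stabilizer G α) γ ⊆ orbit (stabilizer G β) γ := by
      intro x hx
      obtain ⟨a, ha, rfl⟩ := mem_orbit_sub.1 hx
      obtain ⟨m, hm, hm'⟩ := h1 a ha
      exact mem_orbit_sub.2 ⟨m, hβ hm, hm'⟩
    have h3 : orbit (stabilizer G α) γ = orbit (stabilizer G β) γ :=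
      Set.eq_of_subset_of_ncard_le h2 hγ (Finite.finite_mulAction_orbit γ)
    have h4 := mem_of_invariant hprim hH hne (orbit_inv _ γ) (h3 ▸ orbit_inv _ γ)
      (mem_orbit_self γ) α
    obtain ⟨a, ha, ha'⟩ := mem_orbit_sub.1 h4
    have : γ = α := smul_left_cancel a (ha'.trans (Eq.symm ha))
    rw [this]; exact hM

/-- kernel of `G_x` on its longest suborbits -/
def kerL (G : Type*) [Group G] [MulAction G Ω] (m : ℕ) (x : Ω) : Subgroup G where
  carrier := {g | g • x = x ∧ ∀ y, sz G x y = m → g • y = y}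
  mul_mem' := fun {a b} ha hb => ⟨by rw [mul_smul, hb.1, ha.1], fun y hy => by
    rw [mul_smul, hb.2 y hy, ha.2 y hy]⟩
  one_mem' := ⟨one_smul _ _, fun _ _ => one_smul _ _⟩
  inv_mem' := fun {a} ha => ⟨inv_smul_eq_iff.2 ha.1.symm, fun y hy =>
    inv_smul_eq_iff.2 (ha.2 y hy).symm⟩

omit [FaithfulSMul G Ω] in
theorem conj_mem_kerL {m : ℕ} {x : Ω} {k : G} (hk : k ∈ kerL G m x) (g : G) :
    g * k * g⁻¹ ∈ kerL G m (g • x) := by
  refine ⟨by rw [conj_smul_smul, hk.1], fun y hy => ?_⟩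
  have : sz G x (g⁻¹ • y) = m := by rw [← sz_smul g, smul_inv_smul, hy]
  rw [mul_smul, mul_smul, hk.2 _ this, smul_inv_smul]

omit [FaithfulSMul G Ω] in
theorem kerL_normal (m : ℕ) (x : Ω) :
    stabilizer G x ≤ Subgroup.normalizer (kerL G m x : Set G) := by
  intro g hg
  apply mem_normalizer_of_conj_mem
  intro k hk
  have := conj_mem_kerL hk g
  rwa [hg] at this

/-- kernel of `G_x` on the suborbit through `y` -/
def kerO (G : Type*) [Group G] [MulAction G Ω] (x y : Ω) : Subgroup G where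
  carrier := {g | g • x = x ∧ ∀ a : G, a • x = x → g • a • y = a • y}
  mul_mem' := fun {a b} ha hb => ⟨by rw [mul_smul, hb.1, ha.1], fun y hy => by
    rw [mul_smul, hb.2 y hy, ha.2 y hy]⟩
  one_mem' := ⟨one_smul _ _, fun _ _ => one_smul _ _⟩
  inv_mem' := fun {a} ha => ⟨inv_smul_eq_iff.2 ha.1.symm, fun y hy =>
    inv_smul_eq_iff.2 (ha.2 y hy).symm⟩

omit [FaithfulSMul G Ω] in
theorem kerO_normal (x y : Ω) :
    stabilizer G x ≤ Subgroup.normalizer (kerO G x y : Set G) := by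
  intro g hg
  apply mem_normalizer_of_conj_mem
  intro k hk
  have hg' : g⁻¹ • x = x := (stabilizer G x).inv_mem hg
  refine ⟨by rw [mul_smul, mul_smul, hg', hk.1]; exact hg, fun a ha => ?_⟩
  have := hk.2 (g⁻¹ * a) (by rw [mul_smul, ha, hg'])
  rw [mul_smul] at this
  rw [mul_smul, mul_smul, this, smul_inv_smul]

/-- Manning's theorem -/
theorem IsEP.kerO_eq_bot (h : IsEP G Ω) (hprim : IsPreprimitive G Ω) {α β : Ω}
    (hH : stabilizer G α ≠ ⊥) (hne : α ≠ β) : kerO G α β = ⊥ := by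
  have hfin : Finite Ω := finite_of_isPretransitive (G := G)
  have hH' : ∀ x : Ω, stabilizer G x ≠ ⊥ := by
    intro x hx
    apply hH
    rw [← Subgroup.card_eq_one, card_stabilizer_eq α x, hx, Subgroup.card_bot]
  obtain ⟨β0, -, hmax⟩ := Set.exists_max_image Set.univ (sz G α) Set.finite_univ ⟨α, trivial⟩
  set m := sz G α β0 with hm
  have hle : ∀ x y : Ω, sz G x y ≤ m := by
    intro x y
    obtain ⟨g, rfl⟩ := exists_smul_eq G α x
    rw [← smul_inv_smul g y, sz_smul]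
    exact hmax _ trivial
  have hA : ∀ x y : Ω, x ≠ y → kerO G x y ≤ kerL G m x := by
    intro x y hxy k hk
    refine ⟨hk.1, fun z hz => ?_⟩
    refine h.fix_longest hprim (hH' x) hxy (fun k (hk : k ∈ kerO G x y) => hk.1) (kerO_normal x y)
      (fun k hk => ?_) (hz ▸ hle _ _) hk
    simpa using hk.2 1 (one_smul _ _)
  rw [eq_bot_iff]
  refine (hA α β hne).trans ?_
  by_contra hK
  have hβ0 : α ≠ β0 := by
    intro e
    apply hH
    rw [eq_bot_iff]
    intro g hg
    apply eq_one_of_smul_eq (X := Ω)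
    intro x
    have h1 : sz G α α ≤ 1 := by
      have : orbit (stabilizer G α) α ⊆ {α} := by
        intro y hy
        obtain ⟨a, ha, rfl⟩ := mem_orbit_sub.1 hy
        exact ha
      have h2 := Set.ncard_le_ncard this
      rwa [Set.ncard_singleton] at h2
    have h2 : sz G α x = 1 := by
      have h3 := hle α x
      rw [hm, ← e] at h3
      have h4 : 0 < sz G α x := by
        have : Nonempty (orbit (stabilizer G α) x) := ⟨⟨x, mem_orbit_self x⟩⟩
        exact Nat.card_pos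
      omega
    exact smul_eq_of_card_orbit_eq_one h2 g hg
  have hαβ : kerL G m α ≤ stabilizer G β0 := fun k hk => hk.2 β0 rfl
  have hβα : kerL G m β0 ≤ stabilizer G α := fun k hk => hk.2 α (sz_comm β0 α)
  have hdisj : ∀ γ : Ω, (∀ k ∈ kerL G m α, k • γ = γ) ∨ ∀ k ∈ kerL G m β0, k • γ = γ := by
    intro γ
    rcases h.fix_or_trans (fun k (hk : k ∈ kerL G m α) => hk.1) (kerL_normal m α) γ with h1 | h1
    · exact Or.inl fun k hk => by simpa using h1 k hk 1 (one_smul _ _)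
    rcases h.fix_or_trans (fun k (hk : k ∈ kerL G m β0) => hk.1) (kerL_normal m β0) γ with h2 | h2
    · exact Or.inr fun k hk => by simpa using h2 k hk 1 (one_smul _ _)
    have h3 : orbit (stabilizer G α) γ = orbit (stabilizer G β0) γ := by
      ext x
      rw [mem_orbit_sub, mem_orbit_sub]
      constructor
      · rintro ⟨a, ha, rfl⟩
        obtain ⟨k, hk, hk'⟩ := h1 a ha
        exact ⟨k, hαβ hk, hk'⟩
      · rintro ⟨a, ha, rfl⟩
        obtain ⟨k, hk, hk'⟩ := h2 a ha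
        exact ⟨k, hβα hk, hk'⟩
    have h4 := mem_of_invariant hprim hH hβ0 (orbit_inv _ γ) (h3 ▸ orbit_inv _ γ)
      (mem_orbit_self γ) α
    obtain ⟨a, ha, ha'⟩ := mem_orbit_sub.1 h4
    have : γ = α := smul_left_cancel a (ha'.trans (Eq.symm ha))
    rw [this]
    exact Or.inl fun k hk => hk.1
  obtain ⟨k, hk, hk1⟩ : ∃ k ∈ kerL G m α, k ≠ 1 := by
    by_contra hc
    push Not at hc
    exact hK hc
  obtain ⟨γ, hγ⟩ := exists_smul_ne (X := Ω) hk1
  have hγα : α ≠ γ := by rintro rfl; exact hγ hk.1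
  have hle2 : kerL G m β0 ≤ kerO G α γ := by
    intro k' hk'
    refine ⟨hβα hk', fun a ha => ?_⟩
    rcases hdisj (a • γ) with h1 | h1
    · have h2 := conj_mem_kerL hk a
      rw [ha] at h2
      have h3 := h1 _ h2
      rw [conj_smul_smul] at h3
      exact absurd (smul_left_cancel a h3) hγ
    · exact h1 k' hk'
  obtain ⟨g, hg⟩ := exists_smul_eq G α β0
  have hk2 := conj_mem_kerL hk g
  rw [hg] at hk2
  have h5 : (g * k * g⁻¹) • g • γ ≠ g • γ := by
    rw [conj_smul_smul]; exact fun e => hγ (smul_left_cancel g e)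
  rcases hdisj (g • γ) with h1 | h1
  · exact h5 (h1 _ (hA α γ hγα (hle2 hk2)))
  · exact h5 (h1 _ hk2)

/-- a non-trivial normal subgroup of `G_α` is transitive on each suborbit -/
theorem IsEP.trans (h : IsEP G Ω) (hprim : IsPreprimitive G Ω) {α : Ω} {M : Subgroup G}
    (hM0 : M ≠ ⊥) (hM : M ≤ stabilizer G α)
    (hn : stabilizer G α ≤ Subgroup.normalizer (M : Set G)) (β : Ω) (g : G) (hg : g • α = α) :
    ∃ m ∈ M, m • β = g • β := by
  by_cases hβ : α = β
  · subst hβ; exact ⟨1, M.one_mem, by rw [hg, one_smul]⟩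
  rcases h.fix_or_trans hM hn β with h1 | h1
  · have hH : stabilizer G α ≠ ⊥ := fun e => hM0 (eq_bot_iff.2 (e ▸ hM))
    have h2 := h.kerO_eq_bot hprim hH hβ
    exact absurd (eq_bot_iff.2 (h2 ▸ fun m hm => ⟨hM hm, h1 m hm⟩)) hM0
  · exact h1 g hg

/-- a subgroup of `G_{αβ}` normalized by a non-trivial normal subgroup of `G_α` is trivial -/
theorem IsEP.eq_bot (h : IsEP G Ω) (hprim : IsPreprimitive G Ω) {α β : Ω} (hne : α ≠ β)
    {D K : Subgroup G} (hD0 : D ≠ ⊥) (hD : D ≤ stabilizer G α)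
    (hn : stabilizer G α ≤ Subgroup.normalizer (D : Set G))
    (hK : K ≤ stabilizer G α ⊓ stabilizer G β) (hDK : D ≤ Subgroup.normalizer (K : Set G)) :
    K = ⊥ := by
  have hH : stabilizer G α ≠ ⊥ := fun e => hD0 (eq_bot_iff.2 (e ▸ hD))
  rw [eq_bot_iff, ← h.kerO_eq_bot hprim hH hne]
  intro k hk
  refine ⟨(hK hk).1, fun a ha => ?_⟩
  obtain ⟨d, hd, hd'⟩ := h.trans hprim hD0 hD hn β a ha
  have h1 : d⁻¹ * k * d⁻¹⁻¹ ∈ K :=
    (Subgroup.mem_normalizer_iff.1 (hDK (D.inv_mem hd)) k).1 hk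
  have h2 : (d⁻¹ * k * d⁻¹⁻¹) • β = β := (hK h1).2
  rw [inv_inv, mul_smul, mul_smul, inv_smul_eq_iff] at h2
  rw [← hd', h2]

theorem IsEP.not_le (h : IsEP G Ω) (hprim : IsPreprimitive G Ω) {α β : Ω} (hne : α ≠ β)
    {D : Subgroup G} (hD0 : D ≠ ⊥) (hD : D ≤ stabilizer G α)
    (hn : stabilizer G α ≤ Subgroup.normalizer (D : Set G)) : ¬ D ≤ stabilizer G β :=
  fun hβ => hD0 (h.eq_bot hprim hne hD0 hD hn (le_inf hD hβ) Subgroup.le_normalizer)

end Cfsg.Agent.Perm.EP
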