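import Mathlib
import Cfsg.Agent.Inv.HaradaEx
import Cfsg.Agent.Loc.MssBase
import Cfsg.Agent.S1232
import Cfsg.Agent.S0501

/-!
A `2`-group with a trivial intersection subgroup `X` whose normalizer acts on four points with
kernel `X`: basic facts.
-/

set_option autoImplicit false

namespace Cfsg.Agent.Perm.Fx4

open Subgroup Cfsg Cfsg.Agent.Inv.Sec Cfsg.Agent.Loc.Mss

set_option synthInstance.maxSize 2048 in
theorem s4_four : ∀ a b c : Equiv.Perm (Fin 4), a * a = 1 → b * b = 1 → a ≠ 1 → b ≠ 1 →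
    a * b ≠ 1 → a * b = b * a → c * a = a * c → c * b = b * c →
    c = 1 ∨ c * a = 1 ∨ c * b = 1 ∨ c * (a * b) = 1 := by
  decide +kernel

variable {S : Type*} [Group S]

/-- `X` is a trivial intersection subgroup and `π` is an action of its normalizer on four points
with kernel `X`. -/
structure TI (X : Subgroup S) (π : S → Equiv.Perm (Fin 4)) : Prop where
  mul : ∀ a ∈ 𝐍[X], ∀ b ∈ 𝐍[X], π (a * b) = π a * π b
  ker : ∀ a ∈ 𝐍[X], π a = 1 ↔ a ∈ X
  ti : ∀ s : S, ∀ x ∈ X, x ≠ 1 → s * x * s⁻¹ ∈ X → s ∈ 𝐍[X]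

theorem comm_of_sq {A : Subgroup S} (h : ∀ a ∈ A, a * a = 1) {a b : S} (ha : a ∈ A) (hb : b ∈ A) :
    a * b = b * a := by
  have h1 := h _ (mul_mem ha hb)
  have h2 := h a ha
  have h3 := h b hb
  calc a * b = (a * b)⁻¹ := (inv_eq_of_mul_eq_one_right h1).symm
    _ = b * a := by
      rw [mul_inv_rev, inv_eq_of_mul_eq_one_right h2, inv_eq_of_mul_eq_one_right h3]

theorem el_iff {A : Subgroup S} : IsElementaryAbelian 2 A ↔ ∀ a ∈ A, a * a = 1 :=
  ⟨fun h a ha => by simpa [sq] using h.2 a ha, fun h =>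
    ⟨⟨⟨fun a b => Subtype.ext (comm_of_sq h a.2 b.2)⟩⟩, fun a ha => by simpa [sq] using h a ha⟩⟩

theorem ncard_four {α : Type*} (a b c d : α) : ({a, b, c, d} : Set α).ncard ≤ 4 := by
  have h1 := Set.ncard_insert_le a ({b, c, d} : Set α)
  have h2 := Set.ncard_insert_le b ({c, d} : Set α)
  have h3 := Set.ncard_insert_le c ({d} : Set α)
  rw [Set.ncard_singleton] at h3
  omega

namespace TI

variable {X Y : Subgroup S} {π π' : S → Equiv.Perm (Fin 4)}

theorem cj (h : TI X π) (g : S) : TI cj(g, X) (fun a => π (g⁻¹ * a * g)) := by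
  refine ⟨fun a ha b hb => ?_, fun a ha => ?_, fun s x hx hx1 hs => ?_⟩
  · rw [← cj_norm, mem_cj] at ha hb
    rw [← h.mul _ ha _ hb]; congr 1; group
  · rw [← cj_norm, mem_cj] at ha
    rw [h.ker _ ha, mem_cj]
  · rw [← cj_norm, mem_cj]
    rw [mem_cj] at hx hs
    refine h.ti _ _ hx (fun h1 => hx1 ?_) (by convert hs using 1; group)
    calc x = g * (g⁻¹ * x * g) * g⁻¹ := by group
      _ = 1 := by rw [h1]; group

theorem cent (h : TI X π) {x s : S} (hx : x ∈ X) (hx1 : x ≠ 1) (hs : s * x = x * s) :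
    s ∈ 𝐍[X] := h.ti s x hx hx1 (by rw [conj_of_comm hs]; exact hx)

theorem one (h : TI X π) : π 1 = 1 := (h.ker 1 (one_mem _)).2 (one_mem _)

theorem inv (h : TI X π) {a : S} (ha : a ∈ 𝐍[X]) : π a⁻¹ = (π a)⁻¹ := by
  refine (inv_eq_of_mul_eq_one_right ?_).symm
  rw [← h.mul _ ha _ (inv_mem ha), mul_inv_cancel, h.one]

theorem comm (h : TI X π) {a b : S} (ha : a ∈ 𝐍[X]) (hb : b ∈ 𝐍[X])
    (hab : a * b * a⁻¹ * b⁻¹ ∈ X) : π a * π b = π b * π a := by
  have h1 := (h.ker _ (mul_mem (mul_mem (mul_mem ha hb) (inv_mem ha)) (inv_mem hb))).2 hab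
  rw [h.mul _ (mul_mem (mul_mem ha hb) (inv_mem ha)) _ (inv_mem hb),
    h.mul _ (mul_mem ha hb) _ (inv_mem ha), h.mul _ ha _ hb, h.inv ha, h.inv hb] at h1
  calc π a * π b = π a * π b * (π a)⁻¹ * (π b)⁻¹ * (π b * π a) := by group
    _ = _ := by rw [h1, one_mul]

theorem fib (h : TI X π) {a b : S} (ha : a ∈ 𝐍[X]) (hb : b ∈ 𝐍[X]) (hab : π a = π b) :
    a⁻¹ * b ∈ X := by
  rw [← h.ker _ (mul_mem (inv_mem ha) hb), h.mul _ (inv_mem ha) _ hb, h.inv ha, hab,
    inv_mul_cancel]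

theorem pair {V : Subgroup S} (h3 : 2 < X.relIndex V) :
    ∃ a ∈ V, ∃ b ∈ V, a ∉ X ∧ b ∉ X ∧ a * b ∉ X := by
  classical
  by_contra hn
  push Not at hn
  have := relIndex_le_ncard (H := V) (D := X) (fun v => decide (v ∈ X)) (T := Set.univ)
    Set.finite_univ (fun _ _ => trivial) (fun a ha b hb hab => by
      have hab' : a ∈ X ↔ b ∈ X := by simpa using hab
      by_cases hx : a ∈ X
      · exact mul_mem (inv_mem hx) (hab'.1 hx)
      · exact hn _ (inv_mem ha) _ hb (fun h => hx (inv_mem_iff.1 h)) fun h => hx (hab'.2 h))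
  rw [Set.ncard_univ] at this
  simp at this
  omega

theorem four' (h : TI X π) {V : Subgroup S} (hV : V ≤ 𝐍[X]) (hsq : Sq X V) {a b : S} (ha : a ∈ V)
    (hb : b ∈ V) (haX : a ∉ X) (hbX : b ∉ X) (hab : a * b ∉ X) {c : S} (hc : c ∈ 𝐍[X])
    (hcV : ∀ v ∈ V, c * v * c⁻¹ * v⁻¹ ∈ X) :
    π c = 1 ∨ π c * π a = 1 ∨ π c * π b = 1 ∨ π c * (π a * π b) = 1 := by
  have k : ∀ v ∈ V, π v * π v = 1 := fun v hv => by
    rw [← h.mul _ (hV hv) _ (hV hv), h.ker _ (mul_mem (hV hv) (hV hv))]; exact hsq v hv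
  refine s4_four _ _ _ (k a ha) (k b hb) (fun h1 => haX ((h.ker _ (hV ha)).1 h1))
    (fun h1 => hbX ((h.ker _ (hV hb)).1 h1)) (fun h1 => hab ?_)
    (h.comm (hV ha) (hV hb) (hsq.comm ha hb)) (h.comm hc (hV ha) (hcV a ha))
    (h.comm hc (hV hb) (hcV b hb))
  rw [← h.mul _ (hV ha) _ (hV hb), h.ker _ (mul_mem (hV ha) (hV hb))] at h1
  exact h1

/-- A four-group is self-centralizing in `S₄`. -/
theorem four (h : TI X π) {V : Subgroup S} (hV : V ≤ 𝐍[X]) (hsq : Sq X V)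
    (h3 : 2 < X.relIndex V) {c : S} (hc : c ∈ 𝐍[X]) (hcV : ∀ v ∈ V, c * v * c⁻¹ * v⁻¹ ∈ X) :
    ∃ v ∈ V, c * v ∈ X := by
  obtain ⟨a, ha, b, hb, haX, hbX, hab⟩ := pair h3
  have k : ∀ v ∈ V, π c * π v = 1 → ∃ v ∈ V, c * v ∈ X := fun v hv h1 =>
    ⟨v, hv, by rwa [← h.mul _ hc _ (hV hv), h.ker _ (mul_mem hc (hV hv))] at h1⟩
  rcases h.four' hV hsq ha hb haX hbX hab hc hcV with h1 | h1 | h1 | h1
  · exact k 1 (one_mem _) (by rw [h1, h.one, one_mul])
  · exact k a ha h1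
  · exact k b hb h1
  · exact k _ (mul_mem ha hb) (by rw [h.mul _ (hV ha) _ (hV hb)]; exact h1)

theorem four_c (h : TI X π) {V : Subgroup S} (hV : V ≤ 𝐍[X]) (hsq : ∀ v ∈ V, v * v = 1)
    (h3 : 2 < X.relIndex V) {c : S} (hc : c ∈ 𝐍[X]) (hcV : c ∈ 𝐂[V]) : ∃ v ∈ V, c * v ∈ X :=
  h.four hV (fun v hv => by rw [hsq v hv]; exact one_mem _) h3 hc fun v hv => by
    rw [← mem_cent.1 hcV v hv]; simp

theorem le_four (h : TI X π) {V : Subgroup S} (hV : V ≤ 𝐍[X]) (hsq : Sq X V) :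
    X.relIndex V ≤ 4 := by
  classical
  by_contra hn
  obtain ⟨a, ha, b, hb, haX, hbX, hab⟩ := pair (X := X) (V := V) (by omega)
  have := relIndex_le_ncard (H := V) (D := X) π
    (T := ({1, (π a)⁻¹, (π b)⁻¹, (π a * π b)⁻¹} : Set _)) (Set.toFinite _) (fun c hc => by
      rcases h.four' hV hsq ha hb haX hbX hab (hV hc) (fun v hv => hsq.comm hc hv) with
        h1 | h1 | h1 | h1
      · exact Or.inl h1
      · exact Or.inr (Or.inl (eq_inv_of_mul_eq_one_left h1))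
      · exact Or.inr (Or.inr (Or.inl (eq_inv_of_mul_eq_one_left h1)))
      · exact Or.inr (Or.inr (Or.inr (eq_inv_of_mul_eq_one_left h1))))
    (fun a ha b hb hab => h.fib (hV ha) (hV hb) hab)
  have h4 := ncard_four (1 : Equiv.Perm (Fin 4)) (π a)⁻¹ (π b)⁻¹ (π a * π b)⁻¹
  omega

theorem le_four' (h : TI X π) {V : Subgroup S} (hV : V ≤ 𝐍[X]) (hsq : ∀ v ∈ V, v * v = 1) :
    X.relIndex V ≤ 4 := h.le_four hV fun v hv => by rw [hsq v hv]; exact one_mem _

variable [Finite S]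

theorem le_eight (h : TI X π) (hS : IsPGroup 2 S) {V : Subgroup S} (hV : V ≤ 𝐍[X]) :
    X.relIndex V ≤ 8 := by
  let f : V →* Equiv.Perm (Fin 4) :=
    MonoidHom.mk' (fun v => π v) fun a b => h.mul _ (hV a.2) _ (hV b.2)
  have hk : f.ker = X.subgroupOf V := by
    ext v; exact h.ker _ (hV v.2)
  have h1 : X.relIndex V ∣ 24 := by
    rw [relIndex, ← hk, index_ker]
    have := card_subgroup_dvd_card f.range
    rwa [Nat.card_perm, Nat.card_fin] at this
  obtain ⟨k, hk⟩ := (hS.to_subgroup V).index (X.subgroupOf V)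
  rw [relIndex, hk] at h1 ⊢
  have : k ≤ 3 := by
    by_contra hn
    have := (Nat.pow_dvd_pow 2 (show 4 ≤ k by omega)).trans h1
    omega
  exact Nat.pow_le_pow_right (by norm_num) this

/-- Elementary abelian sections of a `2`-subgroup of `S₄` have order at most four. -/
theorem sec_two (h : TI X π) (hS : IsPGroup 2 S) {K H : Subgroup S} (hH : H ≤ 𝐍[X]) (hsq : Sq K H)
    (hK : X ⊓ H ≤ K) : K.relIndex H ≤ 4 := by
  have h1 := relIndex_swap K X H
  have h2 : X ⊓ H ≤ K ⊓ H := le_inf hK inf_le_right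
  have h3 : 0 < Nat.card (X ⊓ H : Subgroup S) := Nat.card_pos
  by_cases hKX : K ⊓ H ≤ X
  · have h4 := h.le_four hH fun x hx => hKX ⟨hsq x hx, mul_mem hx hx⟩
    rw [le_antisymm (le_inf hKX inf_le_right) h2] at h1
    rw [Nat.eq_of_mul_eq_mul_right h3 h1]; exact h4
  · have h4 := h.le_eight hS hH
    obtain ⟨c, hc⟩ := card_dvd_of_le h2
    have h5 : c ≠ 1 := by
      rintro rfl
      exact hKX ((eq_of_le_of_card_ge h2 (by omega)).ge.trans inf_le_left)
    have h6 : c ≠ 0 := by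
      rintro rfl
      exact (Nat.card_pos (α := (K ⊓ H : Subgroup S))).ne' (by omega)
    rw [hc] at h1
    have h7 : K.relIndex H * c = X.relIndex H :=
      Nat.eq_of_mul_eq_mul_right h3 (by rw [← h1]; ring)
    have : 2 ≤ c := by omega
    nlinarith

/-- Two normal subgroups of this kind. -/
theorem sec_normal (h : TI X π) (h' : TI Y π') (hS : IsPGroup 2 S) (hX : 𝐍[X] = ⊤) (hY : 𝐍[Y] = ⊤)
    (hXY : X ⊓ Y = ⊥) : SectionalPRankLE 2 4 S := by
  refine sec_of_sq fun K H hKH hsq => ?_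
  rw [hsq.split hKH (C := X) (hX ▸ le_top)]
  have h1 := h.sec_two hS (K := K ⊔ X) (H := H) (hX ▸ le_top) (hsq.mono le_sup_left le_rfl)
    (inf_le_left.trans le_sup_right)
  have h2 := h'.sec_two hS (K := K) (H := H ⊓ X) (hY ▸ le_top) (hsq.mono le_rfl inf_le_left)
    (fun x hx => by
      have : x ∈ X ⊓ Y := ⟨hx.2.2, hx.1⟩
      rw [hXY, mem_bot] at this
      rw [this]; exact one_mem _)
  calc _ ≤ 4 * 4 := Nat.mul_le_mul h2 h1
    _ = _ := by norm_num

end TI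

variable [Finite S]

theorem exists_mul_of_card {V W B : Subgroup S} (hV : V ≤ B) (hW : W ≤ B) (hVW : V ⊓ W = ⊥)
    (hc : Nat.card B ≤ Nat.card V * Nat.card W) {b : S} (hb : b ∈ B) :
    ∃ v ∈ V, ∃ w ∈ W, b = v * w := by
  let f : V × W → B := fun p => ⟨p.1 * p.2, mul_mem (hV p.1.2) (hW p.2.2)⟩
  have hf : Function.Injective f := by
    rintro ⟨v, w⟩ ⟨v', w'⟩ hp
    have h1 : (v : S) * w = v' * w' := congrArg Subtype.val hp
    have h2 : (v' : S)⁻¹ * v ∈ V ⊓ W := mem_inf.2 ⟨V.mul_mem (V.inv_mem v'.2) v.2, by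
      have : (v' : S)⁻¹ * v = w' * (w : S)⁻¹ := by
        calc (v' : S)⁻¹ * v = (v' : S)⁻¹ * (v * w) * (w : S)⁻¹ := by group
          _ = _ := by rw [h1]; group
      rw [this]; exact W.mul_mem w'.2 (W.inv_mem w.2)⟩
    rw [hVW, mem_bot, inv_mul_eq_one] at h2
    rw [h2] at h1
    exact Prod.ext (Subtype.ext h2.symm) (Subtype.ext (mul_left_cancel h1))
  obtain ⟨⟨v, w⟩, hp⟩ := ((Nat.bijective_iff_injective_and_card f).2
    ⟨hf, le_antisymm (Nat.card_le_card_of_injective f hf) (by rwa [Nat.card_prod])⟩).2 ⟨b, hb⟩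
  exact ⟨v, v.2, w, w.2, (congrArg Subtype.val hp).symm⟩

theorem exists_ne_one_inf {A B E : Subgroup S} (hA : A ≤ E) (hB : B ≤ E)
    (h : Nat.card E < Nat.card A * Nat.card B) : ∃ x ∈ A, x ∈ B ∧ x ≠ 1 := by
  by_contra hn
  push Not at hn
  exact absurd (card_mul_le_of_disjoint hA hB
    (eq_bot_iff.2 fun x hx => mem_bot.2 (hn x hx.1 hx.2))) h.not_ge

theorem card_le_two {V C : Subgroup S} (hV : Nat.card V = 4) (h : ¬ V ≤ C) :
    Nat.card (V ⊓ C : Subgroup S) ≤ 2 := by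
  have h1 := card_dvd_of_le (inf_le_left : V ⊓ C ≤ V)
  have h2 : Nat.card (V ⊓ C : Subgroup S) ≠ 4 := fun h2 =>
    h ((eq_of_le_of_card_ge (inf_le_left : V ⊓ C ≤ V) (by omega)).ge.trans inf_le_right)
  rw [hV] at h1
  have := Nat.le_of_dvd (by norm_num) h1
  by_contra hn
  have : Nat.card (V ⊓ C : Subgroup S) = 3 := by omega
  rw [this] at h1; omega

/-- A normal self-centralizing `E₁₆` without a four-group of transvections. -/
theorem sec_of_e16 {B T₁ T₂ : Subgroup S} [B.Normal] (hS : IsPGroup 2 S)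
    (hc : Nat.card B = 16) (hC : 𝐂[B] ≤ B)
    (h4 : ∀ K H : Subgroup S, K ≤ H → Sq K H → (K ⊔ B).relIndex H ≤ 4)
    (hT : ∀ u : S, 4 < Nat.card (B ⊓ centralizer {u} : Subgroup S) → u ∈ T₁ ∨ u ∈ T₂)
    (h1 : B.relIndex T₁ ≤ 2) (h2 : B.relIndex T₂ ≤ 2) : SectionalPRankLE 2 4 S := by
  refine sec_of_sq fun K H hKH hsq => ?_
  rw [hsq.split hKH (C := B) (le_normalizer_of_normal' _ _)]
  have k4 := h4 K H hKH hsq
  have k5 : (K ⊔ B).relIndex H ≤ B.relIndex H := relIndex_le_left le_sup_right H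
  by_cases h16 : H ⊓ B = B ∧ K ⊓ B = ⊥
  · have hH : H ≤ B := fun x hx => hC (mem_cent.2 fun b hb => by
      have hbH : b ∈ H := (h16.1.ge hb).1
      have : b * x * b⁻¹ * x⁻¹ ∈ K ⊓ B := ⟨hsq.comm hbH hx, by
        have := mul_mem hb (‹B.Normal›.conj_mem _ (inv_mem hb) x)
        simpa [mul_assoc] using this⟩
      rw [h16.2, mem_bot] at this
      calc b * x = b * x * b⁻¹ * x⁻¹ * (x * b) := by group
        _ = _ := by rw [this, one_mul])
    have k6 := relIndex_le_card_of_le K (inf_le_right : H ⊓ B ≤ B)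
    rw [relIndex_eq_one.2 hH] at k5
    calc _ ≤ 16 * 1 := Nat.mul_le_mul (hc ▸ k6) k5
      _ = _ := by norm_num
  · have k6 := relIndex_le_half (hS.to_subgroup B) (inf_le_right : H ⊓ B ≤ B) (n := 8) hc h16
    by_cases k7 : K.relIndex (H ⊓ B) ≤ 4
    · calc _ ≤ 4 * 4 := Nat.mul_le_mul k7 k4
        _ = _ := by norm_num
    · have k8 : B.relIndex H ≤ 2 := by
        rcases le_or_le_of_forall (X := H) (A := T₁) (B := T₂) (fun u hu => hT u
          ((not_le.1 k7).trans_le (hsq.act hu (le_normalizer_of_normal' ⊤ B trivial)))) with h | h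
        · exact (relIndex_le_right B h).trans h1
        · exact (relIndex_le_right B h).trans h2
      calc _ ≤ 8 * 2 := Nat.mul_le_mul k6 (k5.trans k8)
        _ = _ := by norm_num

end Cfsg.Agent.Perm.Fx4
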