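import Mathlib
import Cfsg.Agent.Perm.Fx4A
import Cfsg.Agent.GT.PGroupChain
import Cfsg.Agent.S1234
import Cfsg.Agent.S1235

/-!
A `2`-group with a non-normal trivial intersection subgroup `X` whose normalizer acts on four
points with kernel `X` has sectional rank at most four.
-/

set_option autoImplicit false

namespace Cfsg.Agent.Perm.Fx4

open Subgroup Cfsg Cfsg.Agent.Inv.Sec Cfsg.Agent.Loc.Mss Cfsg.Agent.GT.PG

variable {S : Type*} [Group S] [Finite S]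

omit [Finite S] in
theorem relIndex_of_disjoint {X Y : Subgroup S} (h : X ⊓ Y = ⊥) : X.relIndex Y = Nat.card Y := by
  have := relIndex_mul_card_inf X Y
  rwa [h, card_bot, mul_one] at this

theorem card_cen_le {V W B : Subgroup S} (hV : V ≤ B) (hW : W ≤ B) (hVW : V ⊓ W = ⊥)
    (hB : Nat.card B = 16) (cV : Nat.card V = 4) (cW : Nat.card W = 4) {u : S} (uV : u ∈ 𝐍[V])
    (uW : u ∈ 𝐍[W]) (h1 : u ∉ 𝐂[V]) (h2 : u ∉ 𝐂[W]) :
    Nat.card (B ⊓ centralizer {u} : Subgroup S) ≤ 4 := by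
  have k : ∀ {U : Subgroup S}, u ∉ 𝐂[U] → ¬ U ≤ centralizer {u} := fun h hU =>
    h (mem_cent.2 fun a ha => mem_cen.1 (hU ha))
  have k1 := card_le_two cV (k h1)
  have k2 := card_le_two cW (k h2)
  let f : (V ⊓ centralizer {u} : Subgroup S) × (W ⊓ centralizer {u} : Subgroup S) →
      (B ⊓ centralizer {u} : Subgroup S) := fun p =>
    ⟨p.1 * p.2, mul_mem (mem_inf.2 ⟨hV p.1.2.1, p.1.2.2⟩) (mem_inf.2 ⟨hW p.2.2.1, p.2.2.2⟩)⟩
  have hf : Function.Surjective f := by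
    rintro ⟨b, hb, hbu⟩
    obtain ⟨v, hv, w, hw, rfl⟩ := exists_mul_of_card hV hW hVW (by rw [hB, cV, cW]) hb
    have e := mem_cen.1 hbu
    have h3 : v⁻¹ * (u * v * u⁻¹) = w * (u * w * u⁻¹)⁻¹ := by
      calc v⁻¹ * (u * v * u⁻¹) = v⁻¹ * (u * (v * w)) * w⁻¹ * u⁻¹ := by group
        _ = _ := by rw [← e]; group
    have h4 : v⁻¹ * (u * v * u⁻¹) ∈ V ⊓ W :=
      mem_inf.2 ⟨mul_mem (inv_mem hv) (conj_mem_of_norm uV hv),
        h3 ▸ mul_mem hw (inv_mem (conj_mem_of_norm uW hw))⟩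
    rw [hVW, mem_bot] at h4
    have h5 : w * (u * w * u⁻¹)⁻¹ = 1 := h3 ▸ h4
    exact ⟨(⟨v, hv, mem_cen.2 (comm_of_conj (inv_mul_eq_one.1 h4).symm).symm⟩,
      ⟨w, hw, mem_cen.2 (comm_of_conj (mul_inv_eq_one.1 h5).symm).symm⟩), rfl⟩
  have := Nat.card_le_card_of_surjective f hf
  rw [Nat.card_prod] at this
  nlinarith

theorem kleinFour {A : Subgroup S} (hA : ∀ a ∈ A, a * a = 1) (h4 : Nat.card A = 4) :
    IsKleinFour A := by
  refine ⟨h4, ?_⟩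
  have : Nontrivial A := Finite.one_lt_card_iff_nontrivial.1 (by omega)
  exact (Monoid.exponent_eq_prime_iff Nat.prime_two).2 fun a ha =>
    orderOf_eq_prime (Subtype.ext (by simpa [sq] using hA a a.2)) ha

/-- Two trivial intersection subgroups with the same normalizer. -/
structure Pr (X Y : Subgroup S) (π π' : S → Equiv.Perm (Fin 4)) : Prop where
  two : IsPGroup 2 S
  l : TI X π
  r : TI Y π'
  norm : 𝐍[Y] = 𝐍[X]
  disj : X ⊓ Y = ⊥
  card : Nat.card Y = Nat.card X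

namespace Pr

variable {X Y : Subgroup S} {π π' : S → Equiv.Perm (Fin 4)}

omit [Finite S] in
theorem symm (h : Pr X Y π π') : Pr Y X π' π :=
  ⟨h.two, h.r, h.l, h.norm.symm, by rw [inf_comm, h.disj], h.card.symm⟩

omit [Finite S] in
theorem leX (h : Pr X Y π π') : X ≤ 𝐍[Y] := h.norm ▸ le_normalizer

omit [Finite S] in
theorem eq_one (h : Pr X Y π π') {x : S} (hx : x ∈ X) (hy : x ∈ Y) : x = 1 :=
  mem_bot.1 (h.disj ▸ mem_inf.2 ⟨hx, hy⟩)

omit [Finite S] in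
theorem disj' (h : Pr X Y π π') (B : Subgroup S) : X ⊓ (Y ⊓ B) = ⊥ := by
  rw [← inf_assoc, h.disj, bot_inf_eq]

omit [Finite S] in
theorem comm (h : Pr X Y π π') {x y : S} (hx : x ∈ X) (hy : y ∈ Y) : x * y = y * x := by
  have := h.eq_one (x := x * y * x⁻¹ * y⁻¹)
    (by simpa [mul_assoc] using mul_mem hx (conj_mem_of_norm (h.symm.leX hy) (inv_mem hx)))
    (mul_mem (conj_mem_of_norm (h.leX hx) hy) (inv_mem hy))
  calc x * y = x * y * x⁻¹ * y⁻¹ * (y * x) := by group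
    _ = _ := by rw [this, one_mul]

omit [Finite S] in
/-- The centralizer in `N` of a four-group acting faithfully on the four points. -/
theorem sq_mem (h : TI X π) {V : Subgroup S} (hV : V ≤ 𝐍[X]) (hsq : ∀ v ∈ V, v * v = 1)
    (h3 : 2 < X.relIndex V) {c : S} (hc : c ∈ 𝐍[X]) (hcV : c ∈ 𝐂[V]) : c * c ∈ X := by
  obtain ⟨v, hv, hcv⟩ := h.four_c hV hsq h3 hc hcV
  have := mul_mem hcv hcv
  rwa [show c * v * (c * v) = c * (v * c) * v by group, mem_cent.1 hcV v hv,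
    show c * (c * v) * v = c * c * (v * v) by group, hsq v hv, mul_one] at this

theorem four_four (h : Pr X Y π π') (hX : ∀ x ∈ X, x * x = 1) (hY : ∀ y ∈ Y, y * y = 1)
    (c4 : Nat.card X = 4) : SectionalPRankLE 2 4 S := by
  have cY : Nat.card Y = 4 := h.card.trans c4
  have hBN : Y ⊔ X ≤ 𝐍[X] := sup_le h.symm.leX le_normalizer
  have hB : ∀ b ∈ Y ⊔ X, b * b = 1 := fun b hb => by
    obtain ⟨y, hy, x, hx, rfl⟩ := (mem_sup_norm h.leX).1 hb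
    rw [show y * x * (y * x) = y * (x * y) * x by group, h.comm hx hy,
      show y * (y * x) * x = y * y * (x * x) by group, hX x hx, hY y hy, mul_one]
  have cB : Nat.card (Y ⊔ X : Subgroup S) = 16 := by
    have k1 := relIndex_mul_card_inf X (Y ⊔ X)
    rw [inf_eq_left.2 le_sup_right, c4] at k1
    have k2 := h.l.le_four' hBN hB
    have k3 := card_mul_le_of_disjoint (le_sup_right : X ≤ Y ⊔ X) le_sup_left h.disj
    rw [c4, cY] at k3
    omega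
  have hord : ∀ x ∈ X, orderOf x = 2 → Y ⊔ X ≤ centralizer {x} ∧ centralizer {x} ≤ 𝐍[X] :=
    fun x hx h2 => ⟨fun b hb => mem_cen.2 (comm_of_sq hB hb (mem_sup_right hx)), fun s hs =>
      h.l.cent hx (by rintro rfl; simp at h2) (mem_cen.1 hs)⟩
  by_cases hN : 𝐍[X] ≤ Y ⊔ X
  · obtain ⟨x, hx, hx1⟩ : ∃ x ∈ X, x ≠ 1 := by
      by_contra hn
      push Not at hn
      rw [(eq_bot_iff_forall X).2 hn, card_bot] at c4
      omega
    have h2 : orderOf x = 2 := orderOf_eq_prime (by rw [sq, hX x hx]) hx1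
    have k : ∀ x ∈ X, orderOf x = 2 → Odd ((Y ⊔ X).relIndex (centralizer {x})) :=
      fun x hx h2 => by
        rw [relIndex_eq_one.2 ((hord x hx h2).2.trans hN)]; exact odd_one
    have := kleinFour hY cY
    exact S1235.result x h2 (Y ⊔ X) Y X (h.two.to_subgroup _) (hord x hx h2).1 (k x hx h2)
      ⟨le_sup_left, le_sup_right, fun a ha b hb => (h.comm hb ha).symm, h.symm.disj, rfl⟩
      (Or.inl ⟨2, le_rfl, IsKleinFour.nonempty_mulEquiv⟩) (kleinFour hX c4)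
      fun b hb hb2 => ⟨(hord b hb hb2).1, k b hb hb2⟩
  obtain ⟨d, hd, hdB⟩ := not_forall₂.1 hN |>.imp fun _ h => h.imp fun _ h => h
  have cN : Nat.card 𝐍[X] = 32 := by
    have k1 := relIndex_mul_card_inf X 𝐍[X]
    rw [inf_eq_left.2 le_normalizer, c4] at k1
    have k2 := h.l.le_eight h.two (V := 𝐍[X]) le_rfl
    obtain ⟨c, hc⟩ := card_dvd_of_le hBN
    have k3 : c ≠ 1 := by
      rintro rfl
      exact hN (eq_of_le_of_card_ge hBN (by omega)).ge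
    have k4 : 0 < Nat.card 𝐍[X] := Nat.card_pos
    rw [cB] at hc
    omega
  have hi : (Y ⊔ X).relIndex 𝐍[X] = 2 := by
    have k1 := relIndex_mul_card_inf (Y ⊔ X) 𝐍[X]
    rw [inf_eq_left.2 hBN, cB, cN] at k1
    omega
  have hnB : 𝐍[X] ≤ 𝐍[Y ⊔ X] := norm_sup h.norm.ge le_rfl
  have key : ∀ d ∈ 𝐍[X], d ∉ Y ⊔ X →
      Nat.card ((Y ⊔ X) ⊓ centralizer {d} : Subgroup S) ≤ 4 := fun d hd hdB => by
    refine card_cen_le le_sup_left le_sup_right h.symm.disj cB cY c4 (h.norm ▸ hd) hd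
      (fun hc => hdB ?_) fun hc => hdB ?_
    · obtain ⟨v, hv, hdv⟩ := h.l.four_c h.symm.leX hY
        (by rw [relIndex_of_disjoint h.disj, cY]; norm_num) hd hc
      simpa using mul_mem (mem_sup_right hdv) (inv_mem (mem_sup_left hv))
    · obtain ⟨v, hv, hdv⟩ := h.r.four_c h.leX hX
        (by rw [relIndex_of_disjoint h.symm.disj, c4]; norm_num) (h.norm ▸ hd) hc
      simpa using mul_mem (mem_sup_left hdv) (inv_mem (mem_sup_right hv))
  have hsq : ∀ d ∈ 𝐍[X], d * d ∈ Y ⊔ X := fun d hd => by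
    simpa [sq] using pow_mem_of_relIndex_prime (h.two.to_subgroup _) hBN hi hd
  have hBC : Y ⊔ X ≤ 𝐂[Y ⊔ X] := fun b hb => mem_cent.2 fun a ha => comm_of_sq hB ha hb
  obtain ⟨b, hb, hdb⟩ := exists_comm_eq (el_iff.2 hB) (hnB hd) (hBC (hsq d hd))
    (by have := key d hd hdB; rw [cB]; nlinarith) (c := d * d)
    ⟨hsq d hd, mem_cen.2 (mul_assoc _ _ _)⟩
  have hs : d * b * (d * b) = 1 := by
    calc d * b * (d * b) = d * b * d⁻¹ * b⁻¹ * (b * (d * d)) * b := by group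
      _ = d * d * (d * d) * (b * b) := by rw [hdb, comm_of_sq hB hb (hsq d hd)]; group
      _ = 1 := by rw [hB _ (hsq d hd), hB b hb, mul_one]
  have hsN : d * b ∈ 𝐍[X] := mul_mem hd (hBN hb)
  have hsB : d * b ∉ Y ⊔ X := fun hs => hdB (by simpa using mul_mem hs (inv_mem hb))
  refine S1234.result h.two 𝐍[X] (Y ⊔ X) hBN (el_iff.2 hB) cB cN (d * b) hsN hsB
    (orderOf_eq_prime (by rw [sq, hs]) fun h1 => hsB (h1 ▸ one_mem _)) ?_ ?_
  · have k1 := key _ hsN hsB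
    have k2 := card_le_sq (el_iff.2 hB) (hnB hsN) (hBC (hsq _ hsN))
    rw [cB] at k2
    nlinarith
  · refine le_antisymm (fun s hs => ?_) fun s hs => mem_cent.2 ?_
    · obtain ⟨⟨z, hz, hzc⟩, hz1⟩ := (ne_bot_iff_exists_ne_one).1
        (inf_centralizer_ne_bot_of_isPGroup (h.two.to_subgroup X) (h.two.to_subgroup 𝐍[X]) le_rfl
          (by rintro rfl; simp at c4))
      refine h.l.cent hz (fun h1 => hz1 (Subtype.ext h1)) (mem_cent.1 hs z ?_).symm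
      exact ⟨⟨z, le_normalizer hz⟩, mem_center_iff.2 fun n => Subtype.ext (mem_cent.1 hzc n n.2),
        rfl⟩
    · rintro _ ⟨z, hz, rfl⟩
      exact congrArg Subtype.val (mem_center_iff.1 hz ⟨s, hs⟩).symm

/-- The case of a normal `E₈` meeting `X`. -/
theorem meet (h : Pr X Y π π') {A : Subgroup S} [A.Normal] (hA : ∀ a ∈ A, a * a = 1)
    (c8 : Nat.card A = 8) (hX : X ⊓ A ≠ ⊥)
    (hXY : ∀ B : Subgroup S, B.Normal → Nat.card (Y ⊓ B : Subgroup S) = Nat.card (X ⊓ B : Subgroup S)) :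
    SectionalPRankLE 2 4 S := by
  obtain ⟨⟨x, hx, hxA⟩, hx1⟩ := (ne_bot_iff_exists_ne_one).1 hX
  have hCN : 𝐂[A] ≤ 𝐍[X] := fun c hc =>
    h.l.cent hx (fun h1 => hx1 (Subtype.ext h1)) (mem_cent.1 hc x hxA).symm
  have hAC : A ≤ 𝐂[A] := fun b hb => mem_cent.2 fun a ha => comm_of_sq hA ha hb
  have hd : ∀ B : Subgroup S, X ⊓ B ⊓ (Y ⊓ B) = ⊥ := fun B =>
    eq_bot_iff.2 fun x hx => mem_bot.2 (h.eq_one hx.1.1 hx.2.1)
  have k1 := card_mul_le_of_disjoint (inf_le_right : X ⊓ A ≤ A) inf_le_right (hd A)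
  rw [hXY A ‹_›, c8] at k1
  have k2 : Nat.card (X ⊓ A : Subgroup S) ≤ 2 := by nlinarith
  have k3 : 2 < X.relIndex A := by
    have := relIndex_mul_card_inf X A
    nlinarith
  have k4 : 2 < Y.relIndex A := by
    have := relIndex_mul_card_inf Y A
    rw [hXY A ‹_›] at this
    nlinarith
  have hB : ∀ c ∈ 𝐂[A], c * c = 1 := fun c hc =>
    h.eq_one (sq_mem h.l (hAC.trans hCN) hA k3 (hCN hc) hc)
      (sq_mem h.r (h.norm ▸ hAC.trans hCN) hA k4 (h.norm ▸ hCN hc) hc)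
  by_cases hBA : 𝐂[A] ≤ A
  · exact S1232.result h.two A (el_iff.2 hA) c8 (le_antisymm hBA hAC)
  have k5 := relIndex_mul_card_inf X 𝐂[A]
  have k6 := h.l.le_four' hCN hB
  have k7 := h.r.le_four' (V := X ⊓ 𝐂[A]) (inf_le_left.trans h.leX) fun v hv => hB v hv.2
  rw [relIndex_of_disjoint (h.symm.disj' _)] at k7
  have cB : Nat.card 𝐂[A] = 16 := by
    obtain ⟨c, hc⟩ := card_dvd_of_le hAC
    have k3 : c ≠ 1 := by
      rintro rfl
      exact hBA (eq_of_le_of_card_ge hAC (by omega)).ge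
    have k4 : 0 < Nat.card 𝐂[A] := Nat.card_pos
    have : Nat.card 𝐂[A] ≤ 16 := by nlinarith
    rw [c8] at hc
    omega
  have cV : Nat.card (X ⊓ 𝐂[A] : Subgroup S) = 4 := by nlinarith
  have cW : Nat.card (Y ⊓ 𝐂[A] : Subgroup S) = 4 := (hXY _ inferInstance).trans cV
  have hT : ∀ {X Y : Subgroup S} {π π' : S → Equiv.Perm (Fin 4)}, Pr X Y π π' →
      Nat.card (X ⊓ 𝐂[A] : Subgroup S) = 4 → (𝐂[A]).relIndex 𝐂[X ⊓ 𝐂[A]] ≤ 2 := by
    intro X Y π π' h cV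
    obtain ⟨⟨v, hv, hvA⟩, hv1⟩ := (ne_bot_iff_exists_ne_one).1
      (show X ⊓ 𝐂[A] ≠ ⊥ by intro h0; rw [h0, card_bot] at cV; omega)
    have l1 : 𝐂[X ⊓ 𝐂[A]] ≤ 𝐍[Y] := fun c hc => h.norm ▸
      h.l.cent hv (fun h1 => hv1 (Subtype.ext h1)) (mem_cent.1 hc v ⟨hv, hvA⟩).symm
    have l2 := h.r.le_four l1 fun c hc => sq_mem h.r (V := X ⊓ 𝐂[A]) (inf_le_left.trans h.leX)
      (fun v hv => hB v hv.2) (by
        rw [relIndex_of_disjoint (h.symm.disj' _), cV]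
        norm_num) (l1 hc) hc
    have l3 := h.l.le_eight h.two h.symm.leX
    rw [relIndex_of_disjoint h.disj] at l3
    have l4 := relIndex_mul_card_inf Y 𝐂[X ⊓ 𝐂[A]]
    have l5 := card_le_of_le (inf_le_left : Y ⊓ 𝐂[X ⊓ 𝐂[A]] ≤ Y)
    have l6 := relIndex_mul_card_inf 𝐂[A] 𝐂[X ⊓ 𝐂[A]]
    have l7 : 𝐂[A] ≤ 𝐂[X ⊓ 𝐂[A]] := fun b hb => mem_cent.2 fun a ha => comm_of_sq hB ha.2 hb
    rw [inf_eq_left.2 l7, cB] at l6
    nlinarith
  refine sec_of_e16 (B := 𝐂[A]) h.two cB (cent_anti hAC)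
    (fun K H _ hsq => hsq.d8' h.two (el_iff.2 hA) c8) (fun u hu => ?_) (hT h cV) (hT h.symm cW)
  by_contra hn
  push Not at hn
  obtain ⟨v, hv, hvu, hv1⟩ := exists_ne_one_inf (inf_le_right : X ⊓ 𝐂[A] ≤ 𝐂[A])
    (inf_le_left : 𝐂[A] ⊓ centralizer {u} ≤ 𝐂[A]) (by rw [cB, cV]; omega)
  have huN : u ∈ 𝐍[X] := h.l.cent hv.1 hv1 (mem_cen.1 hvu.2).symm
  have hn' : ∀ {Z : Subgroup S}, u ∈ 𝐍[Z] → u ∈ 𝐍[Z ⊓ 𝐂[A]] := fun hZ =>
    norm_inf (X := zpowers u) (zpowers_le.2 hZ) (norm_normal _ _) (mem_zpowers u)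
  have := card_cen_le inf_le_right inf_le_right (hd _) cB cV cW (hn' huN) (hn' (h.norm ▸ huN))
    hn.1 hn.2
  omega

/-- The case of a normal `E₈` meeting `X` and `Y` trivially. -/
theorem avoid (h : Pr X Y π π') {A : Subgroup S} [A.Normal] (hA : ∀ a ∈ A, a * a = 1)
    (c8 : Nat.card A = 8) (hX : X ⊓ A = ⊥) (hY : Y ⊓ A = ⊥) (h0 : X ≠ ⊥) :
    SectionalPRankLE 2 4 S := by
  have hc : ∀ {X : Subgroup S}, X ⊓ A = ⊥ → X ≤ 𝐂[A ⊓ 𝐍[X]] := fun {X} hX x hx =>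
    mem_cent.2 fun a ha => by
      have : a * x * a⁻¹ * x⁻¹ ∈ X ⊓ A := mem_inf.2
        ⟨mul_mem (conj_mem_of_norm ha.2 hx) (inv_mem hx), by
          simpa [mul_assoc] using mul_mem ha.1 (‹A.Normal›.conj_mem _ (inv_mem ha.1) x)⟩
      rw [hX, mem_bot] at this
      calc a * x = a * x * a⁻¹ * x⁻¹ * (x * a) := by group
        _ = _ := by rw [this, one_mul]
  obtain ⟨x, hx, hx1, hx2⟩ := exists_mem_ne_one_pow_eq_one (h.two.to_subgroup X) h0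
  have k1 := card_le_sq (t := x) (el_iff.2 hA) (norm_normal ⊤ A trivial)
    (by rw [← sq, hx2]; exact one_mem _)
  have k2 : Nat.card (A ⊓ centralizer {x} : Subgroup S) ≤ Nat.card (A ⊓ 𝐍[X] : Subgroup S) :=
    card_le_of_le fun a ha => ⟨ha.1, h.l.cent hx hx1 (mem_cen.1 ha.2)⟩
  have k3 : 2 < Nat.card (A ⊓ 𝐍[X] : Subgroup S) := by rw [c8] at k1; nlinarith
  have hd : ∀ {Z : Subgroup S}, Z ⊓ A = ⊥ → Z.relIndex (A ⊓ 𝐍[X]) = Nat.card (A ⊓ 𝐍[X] : Subgroup S) :=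
    fun hZ => relIndex_of_disjoint (eq_bot_iff.2 (hZ ▸ inf_le_inf_left _ inf_le_left))
  have hA0 : ∀ a ∈ A ⊓ 𝐍[X], a * a = 1 := fun a ha => hA a ha.1
  have hB : ∀ c ∈ 𝐍[X] ⊓ 𝐂[A ⊓ 𝐍[X]], c * c = 1 := fun c hc =>
    h.eq_one (sq_mem h.l inf_le_right hA0 (hd hX ▸ k3) hc.1 hc.2)
      (sq_mem h.r (h.norm ▸ inf_le_right) hA0 (hd hY ▸ k3) (h.norm ▸ hc.1) hc.2)
  have hXB : X ≤ 𝐍[X] ⊓ 𝐂[A ⊓ 𝐍[X]] := le_inf le_normalizer (hc hX)
  have hYB : Y ≤ 𝐍[X] ⊓ 𝐂[A ⊓ 𝐍[X]] := le_inf h.symm.leX (h.norm ▸ hc hY)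
  have hAB : A ⊓ 𝐍[X] ≤ 𝐍[X] ⊓ 𝐂[A ⊓ 𝐍[X]] :=
    le_inf inf_le_right fun b hb => mem_cent.2 fun a ha => comm_of_sq hA0 ha hb
  have k4 := h.r.le_four' h.leX fun v hv => hB v (hXB hv)
  rw [relIndex_of_disjoint h.symm.disj] at k4
  by_cases c4 : Nat.card X = 4
  · exact h.four_four (fun v hv => hB v (hXB hv)) (fun v hv => hB v (hYB hv)) c4
  have c2 : Nat.card X = 2 := by
    have l1 := card_le_of_lt h.two (K := X) 1 (by omega)
    have l2 := (Subgroup.one_lt_card_iff_ne_bot X).2 h0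
    omega
  refine S1232.result h.two _ (el_iff.2 hB) ?_ (le_antisymm (fun c hc => ?_) fun b hb =>
    mem_cent.2 fun a ha => comm_of_sq hB ha hb)
  · have l1 := relIndex_mul_card_inf X (𝐍[X] ⊓ 𝐂[A ⊓ 𝐍[X]])
    rw [inf_eq_left.2 hXB, c2] at l1
    have l2 := h.l.le_four' inf_le_left hB
    have l3 := relIndex_le_right X hAB
    rw [hd hX] at l3
    obtain ⟨n, hn⟩ := relIndex_eq_pow_of_isPGroup (h.two.to_subgroup (𝐍[X] ⊓ 𝐂[A ⊓ 𝐍[X]])) X
    have l4 : X.relIndex (𝐍[X] ⊓ 𝐂[A ⊓ 𝐍[X]]) ≠ 3 := by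
      rw [hn]
      intro h3
      have : Odd (2 ^ n) := h3 ▸ by decide
      rcases n with _ | n
      · omega
      · exact absurd this (by simp [Nat.odd_pow_iff])
    omega
  · exact ⟨h.l.cent hx hx1 (mem_cent.1 hc x (hXB hx)).symm, cent_anti hAB hc⟩

end Pr

theorem TI.sec {X : Subgroup S} {π : S → Equiv.Perm (Fin 4)} (h : TI X π) (hS : IsPGroup 2 S)
    (h0 : X ≠ ⊥) (hN : 𝐍[X] ≠ ⊤) : SectionalPRankLE 2 4 S := by
  by_contra hn
  obtain ⟨B, hBn, hB, c8, -⟩ := exists_max_normal hS hn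
  obtain ⟨A, hAn, hAB, cA⟩ := exists_normal_le_card_eq_pow hS B (k := 3) c8
  have hA : ∀ a ∈ A, a * a = 1 := fun a ha => el_iff.1 hB a (hAB ha)
  have := hS.isNilpotent
  obtain ⟨g, hg, hgN⟩ := SetLike.exists_of_lt
    (Group.normalizerCondition_of_isNilpotent _ (lt_top_iff_ne_top.2 hN))
  have hP : Pr X cj(g, X) π _ := ⟨hS, h, h.cj g, by rw [← cj_norm, cj_of_norm hg], ?_, card_cj _ _⟩
  · have hXY : ∀ B : Subgroup S, B.Normal →
        Nat.card (cj(g, X) ⊓ B : Subgroup S) = Nat.card (X ⊓ B : Subgroup S) := fun B _ => by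
      rw [← card_cj (X ⊓ B) g, cj_inf, cj_normal B]
    by_cases hX : X ⊓ A = ⊥
    · exact hn (hP.avoid hA cA hX (by rw [← card_eq_one, hXY A hAn, hX, card_bot]) h0)
    · exact hn (hP.meet hA cA hX hXY)
  · refine eq_bot_iff.2 fun x hx => mem_bot.2 (by_contra fun hx1 => hgN ?_)
    have := h.ti g⁻¹ x hx.1 hx1 (by simpa using mem_cj.1 hx.2)
    exact inv_mem_iff.1 this

end Cfsg.Agent.Perm.Fx4
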