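import Mathlib
import Cfsg.Agent.Perm.Fx4B
import Cfsg.Agent.GT.PGroupMaxClass

/-!
`3`-groups with a self-centralizing subgroup of order nine.
-/

set_option autoImplicit false

namespace Cfsg.Agent.Perm.Fx4

open Subgroup Cfsg Cfsg.Agent.Inv.Sec Cfsg.Agent.Loc.Mss Cfsg.Agent.GT.PG

section wreath

variable {D Q : Type*} [Group D] [Group Q]

theorem wreath_norm (hD : Nat.card D = 3) (hQ : Nat.card Q = 3) (x : D ≀ᵣ Q) (hx : x.right ≠ 1) :
    ∃ a : D ≀ᵣ Q, a.right = 1 ∧ a * (x * a * x⁻¹) * (x * x * a * (x * x)⁻¹) ≠ 1 := by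
  classical
  have : Fact (Nat.Prime 3) := ⟨Nat.prime_three⟩
  have : Finite D := Nat.finite_of_card_ne_zero (by omega)
  have : Finite Q := Nat.finite_of_card_ne_zero (by omega)
  have : Nontrivial D := Finite.one_lt_card_iff_nontrivial.1 (by omega)
  have := isCyclic_of_prime_card hD
  have hc : ∀ a b : D, a * b = b * a := fun a b => (IsCyclic.commGroup (α := D)).mul_comm a b
  obtain ⟨d, hd⟩ := exists_ne (1 : D)
  have h2 : x.right * x.right ≠ 1 := fun h => by
    have h1 := orderOf_dvd_of_pow_eq_one (n := 2) (by rw [sq, h] : x.right ^ 2 = 1)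
    have h3 := hQ ▸ orderOf_dvd_natCard x.right
    exact hx (orderOf_eq_one_iff.1 (Nat.eq_one_of_dvd_coprimes (by norm_num) h1 h3))
  have k : ∀ y a : D ≀ᵣ Q, a.right = 1 → (y * a * y⁻¹).left 1 = a.left y.right⁻¹ := by
    intro y a ha
    simp [ha, hc (y.left 1)]
  refine ⟨⟨Pi.mulSingle 1 d, 1⟩, rfl, fun h => hd ?_⟩
  have := congrArg (fun w => RegularWreathProduct.left w 1) h
  simp only [RegularWreathProduct.mul_left (_ * _) (x * x * _ * _),
    RegularWreathProduct.mul_left ⟨_, _⟩ (x * _ * _), Pi.mul_apply] at this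
  simp only [RegularWreathProduct.mul_right, RegularWreathProduct.inv_right, mul_one,
    mul_inv_cancel, inv_one] at this
  rw [k _ _ rfl, k _ _ rfl] at this
  have h3 : x.right⁻¹ * x.right⁻¹ ≠ 1 := by rwa [← mul_inv_rev, ne_eq, inv_eq_one]
  simpa [hx, h3] using this

theorem wreath_comm (hD : Nat.card D = 3) {a b : D ≀ᵣ Q} (ha : a.right = 1) (hb : b.right = 1) :
    a * b = b * a := by
  have : Fact (Nat.Prime 3) := ⟨Nat.prime_three⟩
  have := isCyclic_of_prime_card hD
  have hc : ∀ a b : D, a * b = b * a := fun a b => (IsCyclic.commGroup (α := D)).mul_comm a b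
  ext q
  · simp [ha, hb, hc (a.left q)]
  · simp [ha, hb]

theorem wreath_central {P : Type*} [Group P] [Finite P] (hP : IsPGroup 3 P) (hD : Nat.card D = 3)
    (hQ : Nat.card Q = 3) (F : P →* D ≀ᵣ Q) (hF : Function.Surjective F)
    (hZ : Nat.card F.ker = 3) {x : P} (hx : x ^ 3 = 1)
    (hC : Nat.card (centralizer {x}) ≤ 9) : False := by
  have : Fact (Nat.Prime 3) := ⟨Nat.prime_three⟩
  have : Finite Q := Nat.finite_of_card_ne_zero (by omega)
  have hZc := le_center_of_normal_card_prime hP F.ker hZ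
  let A := (RegularWreathProduct.rightHom.comp F).ker
  have hA : ∀ a, a ∈ A ↔ (F a).right = 1 := fun a => Iff.rfl
  have hcm : ∀ a ∈ A, ∀ b ∈ A, a * b * a⁻¹ * b⁻¹ ∈ F.ker := fun a ha b hb => by
    rw [MonoidHom.mem_ker, map_mul, map_mul, map_mul, wreath_comm hD ha hb]
    simp
  have cA : Nat.card A = 81 := by
    have h1 := F.ker.card_mul_index
    rw [index_ker, F.range_eq_top_of_surjective hF, card_top, RegularWreathProduct.card, hD, hQ,
      hZ] at h1
    have h2 := A.card_mul_index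
    rw [index_ker, MonoidHom.range_eq_top_of_surjective _ (fun q => by
      obtain ⟨p, hp⟩ := hF (RegularWreathProduct.inl q)
      exact ⟨p, by simp [hp]⟩), card_top, hQ] at h2
    omega
  have hxA : x ∉ A := fun hxA => by
    have h1 := relIndex_le_card (H := A) (D := centralizer {x}) (fun a => x * a * x⁻¹ * a⁻¹)
      (T := F.ker) (fun a ha => hcm x hxA a ha) fun a _ b _ hab => fib_comm hab
    have h2 := relIndex_mul_card_inf (centralizer {x}) A
    have h3 := card_le_of_le (inf_le_left : centralizer {x} ⊓ A ≤ centralizer {x})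
    rw [cA] at h2
    rw [hZ] at h1
    nlinarith
  have hCA : centralizer {x} ⊓ A ≤ F.ker := by
    have h1 : F.ker ≤ centralizer {x} ⊓ A := fun z hz =>
      mem_inf.2 ⟨mem_cen.2 (mem_center_iff.1 (hZc hz) x).symm, by
        rw [hA, MonoidHom.mem_ker.1 hz]; rfl⟩
    refine (eq_of_le_of_card_ge h1 ?_).ge
    have h2 := relIndex_mul_card_inf A (centralizer {x})
    obtain ⟨n, hn⟩ := relIndex_eq_pow_of_isPGroup (hP.to_subgroup (centralizer {x})) A
    have h3 : n ≠ 0 := by
      rintro rfl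
      exact hxA (relIndex_eq_one.1 hn (mem_cen.2 rfl))
    have h4 : 3 ≤ 3 ^ n := Nat.le_self_pow h3 3
    rw [inf_comm] at h2
    rw [hZ]
    nlinarith
  obtain ⟨a, ha, ha1⟩ := wreath_norm hD hQ (F x) hxA
  obtain ⟨a, rfl⟩ := hF a
  have hn : ∀ y, y * a * y⁻¹ ∈ A := fun y => (MonoidHom.normal_ker _).conj_mem a ((hA a).2 ha) y
  refine ha1 ?_
  simp only [← map_mul, ← map_inv]
  refine hCA ⟨mem_cen.2 (comm_of_conj ?_).symm, mul_mem (mul_mem ha (hn x)) (hn (x * x))⟩
  have hz := mem_center_iff.1 (hZc (hcm a ha _ (hn x)))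
  set z := a * (x * a * x⁻¹) * a⁻¹ * (x * a * x⁻¹)⁻¹ with hzd
  have h3 : x * x * x = 1 := by rw [← hx, pow_three']
  have e1 : a * (x * a * x⁻¹) = z * (x * a * x⁻¹ * a) := by rw [hzd]; group
  have e2 : x * x * a * (x * x)⁻¹ * a = z * (a * (x * x * a * (x * x)⁻¹)) := by
    calc x * x * a * (x * x)⁻¹ * a
        = x * x * (a * (x * a * x⁻¹)) * (x * x)⁻¹ := by
          rw [show x * x * (a * (x * a * x⁻¹)) * (x * x)⁻¹ =
            x * x * a * (x * x)⁻¹ * ((x * x * x) * a * (x * x * x)⁻¹) by group, h3]; group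
      _ = x * x * z * (x * x)⁻¹ * ((x * x * x) * a * (x * x * x)⁻¹ * (x * x * a * (x * x)⁻¹)) := by
          rw [e1]; group
      _ = _ := by rw [hz (x * x), h3]; group
  calc x * (a * (x * a * x⁻¹) * (x * x * a * (x * x)⁻¹)) * x⁻¹
      = x * a * x⁻¹ * (x * x * a * (x * x)⁻¹ * ((x * x * x) * a * (x * x * x)⁻¹)) := by group
    _ = x * a * x⁻¹ * z * (a * (x * x * a * (x * x)⁻¹)) := by
        rw [h3, one_mul, inv_one, mul_one, e2]; group
    _ = _ := by rw [hz, e1]; group

theorem wreath_inj {P : Type*} [Group P] [Finite P] (hP : IsPGroup 3 P) (hD : Nat.card D = 3)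
    (hQ : Nat.card Q = 3) (F : P →* D ≀ᵣ Q) (hF : Function.Surjective F) {x : P} (hx : x ^ 3 = 1)
    (hC : Nat.card (centralizer {x}) ≤ 9) : Function.Injective F := by
  have : Fact (Nat.Prime 3) := ⟨Nat.prime_three⟩
  rw [← MonoidHom.ker_eq_bot_iff]
  by_contra hn
  obtain ⟨R, hR, -, hRF, hi⟩ := exists_normal_relIndex_eq hP ⊥ F.ker (bot_lt_iff_ne_bot.2 hn)
  refine wreath_central (hP.to_quotient R) hD hQ (QuotientGroup.lift R F hRF)
    (QuotientGroup.lift_surjective_of_surjective _ _ hF _) ?_ (x := (x : P ⧸ R))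
    (by rw [← QuotientGroup.mk_pow, hx, QuotientGroup.mk_one])
    ((card_centralizer_mk_le R x).trans hC)
  rw [QuotientGroup.ker_lift, ← relIndex_ker, QuotientGroup.ker_mk', hi]

end wreath

theorem sylow_inj {P : Type*} [Group P] [Finite P] (hP : IsPGroup 3 P) [Fact (Nat.Prime 3)]
    (T : Sylow 3 (Equiv.Perm (Fin (3 ^ 2)))) (f : P →* T) (hf : Function.Surjective f) {x : P}
    (hx : x ^ 3 = 1) (hC : Nat.card (centralizer {x}) ≤ 9) : Function.Injective f := by
  have hQ : Nat.card (Multiplicative (ZMod 3)) = 3 := by simp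
  let e := Sylow.mulEquivIteratedWreathProduct 3 2 (Fin (3 ^ 2)) (by simp) _ hQ T
  have := wreath_inj (D := IteratedWreathProduct (Multiplicative (ZMod 3)) 1) hP
    (by rw [IteratedWreathProduct.card, hQ]; simp) hQ (e.toMonoidHom.comp f)
    (e.surjective.comp hf) hx hC
  exact Function.Injective.of_comp (f := e) this

theorem aut_eq_one {V : Type*} [Group V] [Finite V] (hV : IsPGroup 3 V) (h9 : Nat.card V ≤ 9)
    (σ : MulAut V) (h : (orderOf σ).Coprime 6) : σ = 1 := by
  by_contra h1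
  have : Fact (Nat.Prime 3) := ⟨Nat.prime_three⟩
  obtain ⟨q, hq, hqd⟩ := Nat.exists_prime_and_dvd (mt orderOf_eq_one_iff.1 h1)
  have := Fact.mk hq
  obtain ⟨τ, hτ⟩ := exists_prime_orderOf_dvd_card' (G := zpowers σ) q (by rwa [Nat.card_zpowers])
  have hτ' : orderOf (τ : MulAut V) = q := by rw [orderOf_coe, hτ]
  have hp : IsPGroup q (zpowers (τ : MulAut V)) := IsPGroup.of_card (n := 1) (by
    rw [Nat.card_zpowers, hτ', pow_one])
  have h2 := hp.card_modEq_card_fixedPoints V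
  let F := FixedPoints.subgroup (zpowers (τ : MulAut V)) V
  change Nat.card V ≡ Nat.card F [MOD q] at h2
  have h3 : F ≠ ⊤ := fun h3 => by
    have : (τ : MulAut V) = 1 := MulEquiv.ext fun v =>
      (h3.ge (mem_top v) : v ∈ F) ⟨τ, mem_zpowers _⟩
    rw [this, orderOf_one] at hτ'
    exact hq.one_lt.ne hτ'
  have h4 : Nat.card F < Nat.card V := by
    exact (card_le_card_group F).lt_of_ne fun h => h3 (eq_top_of_card_eq F h)
  have h5 := (Nat.modEq_iff_dvd' h4.le).1 h2.symm
  have h6 : q.Coprime 6 := h.coprime_dvd_left hqd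
  obtain ⟨a, ha⟩ := hV.exists_card_eq
  obtain ⟨b, hb⟩ := (hV.to_subgroup F).exists_card_eq
  rw [ha, hb] at h4 h5
  rw [ha] at h9
  have h7 : a ≤ 2 := (Nat.pow_le_pow_iff_right (by norm_num)).1 (h9.trans (by norm_num : 9 ≤ 3 ^ 2))
  have h8 : b < a := (Nat.pow_lt_pow_iff_right (by norm_num)).1 h4
  have h10 : 3 ^ a - 3 ^ b ∣ 6 ^ 3 := by
    interval_cases a <;> interval_cases b <;> norm_num
  exact hq.one_lt.ne' ((h6.pow_right 3).eq_one_of_dvd (h5.trans h10))

end Cfsg.Agent.Perm.Fx4
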