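import Mathlib
import Cfsg.Agent.Perm.SpecAff

/-!
# Prime graphs of split extensions `V ⋊ G`
-/

set_option autoImplicit false

namespace Cfsg.Agent.Perm.GK

variable {F : Type*} [Field F] {V : Type*} [AddCommGroup V] [Module F V] {G : Type*} [Group G]

theorem prime_dvd_card_iff [Finite G] {r : ℕ} (hr : r.Prime) :
    r ∣ Nat.card G ↔ ∃ x : G, orderOf x = r :=
  have := Fact.mk hr
  ⟨exists_prime_orderOf_dvd_card' r, fun ⟨x, hx⟩ => hx ▸ orderOf_dvd_natCard x⟩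

variable (p : ℕ) [hp : Fact p.Prime] [CharP F p] [Finite G]

omit [Finite G] in
theorem exists_fix_of_nrm (ρ : G →* Module.End F V) {g : G} (h : nrm (ρ g) (orderOf g) ≠ 0) :
    ∃ v, v ≠ 0 ∧ ρ g v = v := by
  by_contra hc
  push Not at hc
  exact h (nrm_eq_zero_of_fpf (by rw [← map_pow, pow_orderOf_eq_one, map_one])
    fun v hv => by_contra fun h0 => hc v h0 hv)

omit hp [Finite G] in
theorem nrm_ne_zero_of_fix (ρ : G →* Module.End F V) {g : G} (h : ¬ p ∣ orderOf g) {v : V} (hv : v ≠ 0)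
    (hg : ρ g v = v) : nrm (ρ g) (orderOf g) ≠ 0 := by
  intro h0
  have h1 : ∀ n, nrm (ρ g) n v = (n : F) • v := by
    intro n
    induction n with
    | zero => simp [nrm]
    | succ n ih =>
      rw [nrm_succ, LinearMap.add_apply, ih, Nat.cast_succ, add_smul, one_smul,
        Module.End.pow_apply, Function.iterate_fixed hg]
  have h2 := h1 (orderOf g)
  rw [h0, LinearMap.zero_apply, eq_comm, smul_eq_zero, CharP.cast_eq_zero_iff F p] at h2
  tauto

/-- edges of the prime graph of the split extension -/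
theorem aff_edge_iff (ρ : G →* Module.End F V) {r s : ℕ} (hr : r.Prime) (hs : s.Prime) (hrs : r ≠ s) :
    (∃ x : Aff ρ, orderOf x = r * s) ↔ (∃ g : G, orderOf g = r * s) ∨
      ∃ g : G, (r = p ∧ orderOf g = s ∨ s = p ∧ orderOf g = r) ∧ ∃ v, v ≠ 0 ∧ ρ g v = v := by
  constructor
  · rintro ⟨x, hx⟩
    rcases aff_orderOf p ρ x with h | ⟨h, h'⟩
    · exact Or.inl ⟨_, h ▸ hx⟩
    refine Or.inr ⟨x.right, ?_, exists_fix_of_nrm ρ h⟩
    rw [hx] at h'
    rcases hp.out.dvd_mul.mp (h' ▸ dvd_mul_right _ _ : p ∣ r * s) with h1 | h1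
    · obtain rfl := (Nat.prime_dvd_prime_iff_eq hp.out hr).mp h1
      exact Or.inl ⟨rfl, (Nat.eq_of_mul_eq_mul_left hr.pos h').symm⟩
    · obtain rfl := (Nat.prime_dvd_prime_iff_eq hp.out hs).mp h1
      exact Or.inr ⟨rfl, (Nat.eq_of_mul_eq_mul_left hs.pos ((mul_comm _ _).trans h')).symm⟩
  · rintro (⟨g, hg⟩ | ⟨g, hg, v, hv, hgv⟩)
    · exact ⟨_, (aff_orderOf_inr ρ g).trans hg⟩
    obtain ⟨x, -, hx⟩ := aff_exists p ρ (nrm_ne_zero_of_fix p ρ (g := g) (by
      rcases hg with ⟨rfl, h⟩ | ⟨rfl, h⟩ <;> rw [h]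
      · exact fun e => hrs ((Nat.prime_dvd_prime_iff_eq hr hs).mp e)
      · exact fun e => hrs ((Nat.prime_dvd_prime_iff_eq hs hr).mp e).symm) hv hgv)
    refine ⟨x, ?_⟩
    rcases hg with ⟨rfl, h⟩ | ⟨rfl, h⟩
    · rw [hx, h]
    · rw [hx, h, mul_comm]

theorem aff_vertex_iff [Nontrivial V] (ρ : G →* Module.End F V) {r : ℕ} (hr : r.Prime) :
    (∃ x : Aff ρ, orderOf x = r) ↔ r ∣ Nat.card G ∨ r = p := by
  rw [prime_dvd_card_iff hr]
  constructor
  · rintro ⟨x, hx⟩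
    rcases aff_orderOf p ρ x with h | ⟨-, h⟩
    · exact Or.inl ⟨_, h ▸ hx⟩
    · exact Or.inr ((Nat.prime_dvd_prime_iff_eq hp.out hr).mp (hx ▸ h ▸ dvd_mul_right _ _)).symm
  · rintro (⟨g, hg⟩ | rfl)
    · exact ⟨_, (aff_orderOf_inr ρ g).trans hg⟩
    obtain ⟨v, hv⟩ := exists_ne (0 : V)
    obtain ⟨x, -, hx⟩ := aff_exists r ρ (nrm_ne_zero_of_fix r ρ (g := 1)
      (by rw [orderOf_one]; exact hr.not_dvd_one) hv (by simp))
    exact ⟨x, by rw [hx, orderOf_one, mul_one]⟩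

/-- arbitrarily large groups with the prime graph of the split extension -/
theorem exists_of_aff [Finite V] [Nontrivial V] (ρ : G →* Module.End F V) (N : ℕ) :
    ∃ (H : Type) (_ : Group H) (_ : Fintype H), N < Fintype.card H ∧
      (∀ r : ℕ, r.Prime → (r ∣ Nat.card H ↔ r ∣ Nat.card G ∨ r = p)) ∧
      ∀ r s : ℕ, r.Prime → s.Prime → r ≠ s → ((∃ x : H, orderOf x = r * s) ↔
        (∃ g : G, orderOf g = r * s) ∨
          ∃ g : G, (r = p ∧ orderOf g = s ∨ s = p ∧ orderOf g = r) ∧ ∃ v, v ≠ 0 ∧ ρ g v = v) := by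
  obtain ⟨H, _, _, h1, h2⟩ := aff_unbounded p ρ N
  have h3 : ∀ n, (∃ x : H, orderOf x = n) ↔ ∃ x : Aff ρ, orderOf x = n := fun n => Set.ext_iff.mp h2 n
  exact ⟨H, inferInstance, inferInstance, h1,
    fun r hr => by rw [prime_dvd_card_iff hr, h3, aff_vertex_iff p ρ hr],
    fun r s hr hs hrs => by rw [h3, aff_edge_iff p ρ hr hs hrs]⟩

/-- arbitrarily large groups with the prime graph of `G` -/
theorem exists_same_graph [Finite V] [Nontrivial V] (ρ : G →* Module.End F V) (hG : p ∣ Nat.card G)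
    (h : ∀ g : G, (orderOf g).Prime → orderOf g ≠ p → (∃ v, v ≠ 0 ∧ ρ g v = v) →
      ∃ x : G, orderOf x = p * orderOf g) (N : ℕ) :
    ∃ (H : Type) (_ : Group H) (_ : Fintype H), N < Fintype.card H ∧
      (∀ r : ℕ, r.Prime → (r ∣ Nat.card G ↔ r ∣ Nat.card H)) ∧
      ∀ r s : ℕ, r.Prime → s.Prime → r ≠ s →
        ((∃ g : G, orderOf g = r * s) ↔ ∃ x : H, orderOf x = r * s) := by
  obtain ⟨H, _, _, h1, h2, h3⟩ := exists_of_aff p ρ N
  refine ⟨H, inferInstance, inferInstance, h1, fun r hr => ?_, fun r s hr hs hrs => ?_⟩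
  · rw [h2 r hr, iff_self_or]
    rintro rfl
    exact hG
  · rw [h3 r s hr hs hrs, iff_self_or]
    rintro ⟨g, ⟨rfl, hg⟩ | ⟨rfl, hg⟩, hv⟩
    · exact hg ▸ h g (hg ▸ hs) (hg ▸ hrs.symm) hv
    · rw [mul_comm]
      exact hg ▸ h g (hg ▸ hr) (hg ▸ hrs) hv

/-- the natural representation attached to a matrix representation -/
def matRep {n : Type*} [Fintype n] [DecidableEq n] {M : Type*} [Monoid M] (f : M →* Matrix n n F) :
    M →* Module.End F (n → F) :=
  (Matrix.toLinAlgEquiv' : Matrix n n F ≃ₐ[F] _).toMulEquiv.toMonoidHom.comp f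

theorem matRep_apply {n : Type*} [Fintype n] [DecidableEq n] {M : Type*} [Monoid M]
    (f : M →* Matrix n n F) (g : M) (v : n → F) : matRep f g v = (f g).mulVec v := rfl

end Cfsg.Agent.Perm.GK
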