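import Mathlib
import Cfsg.Agent.GT.TransLinear
import Cfsg.Agent.GT.PGroupMaxTwo
import Cfsg.Agent.Ch.Rep
import Cfsg.Agent.FG.H94Orb2
import Cfsg.Agent.S3370
import Cfsg.Agent.S3381

/-! # Half-transitive linear groups: lemmas for the Isaacs–Passman classification of
half-transitive `p`-groups. -/

set_option autoImplicit false
open Cfsg

namespace Cfsg.Agent.Perm.HT

variable {q : ℕ} [Fact q.Prime] {V : Type*} [AddCommGroup V] [Module (ZMod q) V]
  {G : Type*} [Group G] (ρ : G →* (V ≃ₗ[ZMod q] V))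

/-- The stabiliser of a vector. -/
def St (v : V) : Subgroup G := (MulAction.stabilizer (V ≃ₗ[ZMod q] V) v).comap ρ

variable {ρ}

theorem mem_St {v : V} {g : G} : g ∈ St ρ v ↔ ρ g v = v := Iff.rfl

theorem rmul (g h : G) (v : V) : ρ (g * h) v = ρ g (ρ h v) := by rw [map_mul]; rfl

theorem card_orbit_mul [Finite G] (v : V) :
    Nat.card {u : V | ∃ g : G, ρ g v = u} * Nat.card (St ρ v) = Nat.card G := by
  let _ := DistribMulAction.compHom V ρ
  have := (MulAction.stabilizer G v).index_mul_card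
  rwa [MulAction.index_stabilizer] at this

theorem card_St_eq [Finite G] (hhalf : ∀ v w : V, v ≠ 0 → w ≠ 0 →
    Nat.card {u : V | ∃ g : G, ρ g v = u} = Nat.card {u : V | ∃ g : G, ρ g w = u})
    {v w : V} (hv : v ≠ 0) (hw : w ≠ 0) : Nat.card (St ρ v) = Nat.card (St ρ w) := by
  have h1 := card_orbit_mul (ρ := ρ) v
  have h2 := card_orbit_mul (ρ := ρ) w
  rw [hhalf v w hv hw, ← h2] at h1
  refine Nat.eq_of_mul_eq_mul_left (Nat.pos_of_ne_zero fun h => ?_) h1
  rw [h, zero_mul] at h2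
  exact Nat.card_pos.ne h2

/-- Restriction of the action of a subgroup to an invariant subspace. -/
noncomputable def res (H : Subgroup G) (A : Submodule (ZMod q) V)
    (hA : ∀ h ∈ H, ∀ w ∈ A, ρ h w ∈ A) : H →* (A ≃ₗ[ZMod q] A) :=
  (LinearMap.GeneralLinearGroup.generalLinearEquiv (ZMod q) A).toMonoidHom.comp
    (Subrepresentation.toRepresentation (ρ := (GT.Frob.linRep ρ).comp H.subtype)
      ⟨A, fun g v hv => hA g g.2 v hv⟩).toHomUnits

theorem res_apply (H : Subgroup G) (A : Submodule (ZMod q) V)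
    (hA : ∀ h ∈ H, ∀ w ∈ A, ρ h w ∈ A) (h : H) (w : A) : (res H A hA h w : V) = ρ h w := rfl

section
variable [Finite G] (hρ : Function.Injective ρ)
  (hst : ∀ v w : V, v ≠ 0 → w ≠ 0 → Nat.card (St ρ v) = Nat.card (St ρ w))
  (hne : ∀ v : V, v ≠ 0 → St ρ v ≠ ⊥)
include hρ hst hne

theorem ne_char [Finite V] [Nontrivial V] {p : ℕ} [Fact p.Prime] (hG : IsPGroup p G) : p ≠ q := by
  rintro rfl
  let _ := DistribMulAction.compHom V ρ
  have hV := Module.natCard_eq_pow_finrank (K := ZMod p) (V := V)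
  rw [Nat.card_zmod] at hV
  obtain ⟨v, hv, hv0⟩ := hG.exists_fixed_point_of_prime_dvd_card_of_fixed_point V
    (hV ▸ dvd_pow_self p Module.finrank_pos.ne') (a := 0) (fun g => smul_zero g)
  have h1 : St ρ v = ⊤ := eq_top_iff.2 fun g _ => hv g
  refine hne v hv0.symm (h1.trans (eq_bot_iff.2 fun g _ => hρ (LinearEquiv.ext fun w => ?_)))
  by_cases hw : w = 0
  · simp [hw]
  · have h2 := hst w v hw hv0.symm
    rw [h1, Subgroup.card_top, Subgroup.card_eq_iff_eq_top] at h2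
    simpa using mem_St.1 (h2 ▸ Subgroup.mem_top g : g ∈ St ρ w)

omit hρ hne in
theorem St_le_of_disjoint {A B : Submodule (ZMod q) V} (hAB : Disjoint A B) {u u' : V}
    (hu : u ∈ A) (hu0 : u ≠ 0) (hu' : u' ∈ B)
    (h : ∀ g, ρ g (u + u') = u + u' → ρ g u = u) : St ρ u ≤ St ρ u' := by
  have h0 : u + u' ≠ 0 := fun e => hu0 ((Submodule.disjoint_def.1 hAB) u hu
    (by rw [eq_neg_of_add_eq_zero_left e]; exact neg_mem hu'))
  have h1 : St ρ (u + u') = St ρ u := Subgroup.eq_of_le_of_card_ge h (hst _ _ hu0 h0).le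
  intro g hg
  have h2 : ρ g (u + u') = u + u' := (h1 ▸ hg : g ∈ St ρ (u + u'))
  rwa [map_add, mem_St.1 hg, add_right_inj] at h2

theorem irr (hq : (Nat.card G : ZMod q) ≠ 0) (U : Submodule (ZMod q) V)
    (hU : ∀ g : G, ∀ w ∈ U, ρ g w ∈ U) : U = ⊥ ∨ U = ⊤ := by
  by_contra hc
  push Not at hc
  haveI : NeZero (Nat.card G : ZMod q) := ⟨hq⟩
  obtain ⟨U', hU'⟩ := exists_isCompl
    (⟨U, fun g v hv => hU g v hv⟩ : Subrepresentation (GT.Frob.linRep ρ))
  have h1 : IsCompl U U'.toSubmodule := Ch.isCompl_toSubmodule hU'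
  have key : ∀ {A B : Submodule (ZMod q) V}, Disjoint A B → (∀ g : G, ∀ w ∈ A, ρ g w ∈ A) →
      (∀ g : G, ∀ w ∈ B, ρ g w ∈ B) → ∀ u ∈ A, u ≠ 0 → ∀ u' ∈ B, St ρ u ≤ St ρ u' :=
    fun {A B} hAB hA hB u hu hu0 u' hu' => St_le_of_disjoint hst hAB hu hu0 hu' fun g hg => by
      rw [map_add] at hg
      exact sub_eq_zero.1 ((Submodule.disjoint_def.1 hAB) _ (sub_mem (hA g u hu) hu)
        (by rw [show ρ g u - u = u' - ρ g u' by rw [sub_eq_sub_iff_add_eq_add, hg, add_comm]]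
            exact sub_mem hu' (hB g u' hu')))
  have hU2 : ∀ g : G, ∀ w ∈ U'.toSubmodule, ρ g w ∈ U'.toSubmodule :=
    fun g w hw => U'.apply_mem_toSubmodule g hw
  obtain ⟨u, hu, hu0⟩ := U.exists_mem_ne_zero_of_ne_bot hc.1
  obtain ⟨u', hu', hu0'⟩ := U'.toSubmodule.exists_mem_ne_zero_of_ne_bot
    (fun e => hc.2 (by simpa [e] using h1.sup_eq_top))
  refine hne u hu0 (eq_bot_iff.2 fun g hg => hρ (LinearEquiv.ext fun w => ?_))
  obtain ⟨a, ha, b, hb, rfl⟩ := Submodule.mem_sup.1 (h1.sup_eq_top ▸ Submodule.mem_top (x := w))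
  rw [map_add, mem_St.1 (key h1.disjoint hU hU2 u hu hu0 b hb hg),
    mem_St.1 (key h1.disjoint.symm hU2 hU u' hu' hu0' a ha (key h1.disjoint hU hU2 u hu hu0 u' hu' hg))]
  simp

end

theorem eq_zero_of_central (hρ : Function.Injective ρ)
    (hirr : ∀ W : Submodule (ZMod q) V, (∀ g : G, ∀ w ∈ W, ρ g w ∈ W) → W = ⊥ ∨ W = ⊤)
    {z : G} (hz : z ≠ 1) (hc : z ∈ Subgroup.center G) {v : V} (hv : ρ z v = v) : v = 0 := by
  rcases hirr (LinearMap.eqLocus (ρ z).toLinearMap LinearMap.id) fun g w hw => by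
    change ρ z (ρ g w) = ρ g w
    rw [← rmul, ← Subgroup.mem_center_iff.1 hc, rmul, show ρ z w = w from hw] with h | h
  · exact (Submodule.eq_bot_iff _).1 h v hv
  · exact absurd (hρ (LinearEquiv.ext fun v => by simpa using (h.ge (Submodule.mem_top (x := v))))) hz

theorem card_invol {m : ℕ} {a b : G} (h : GT.PG.MaxTwo m a b) :
    Nat.card {g : G // orderOf g = 2 ∧ g ∉ Subgroup.center G} =
      Nat.card {x : Subgroup.zpowers a // (b * x) ^ 2 = 1} := by
  refine (Nat.card_congr (Equiv.ofBijective (fun x => ⟨b * x.1, orderOf_eq_prime x.2 fun e =>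
    h.notMem (eq_inv_of_mul_eq_one_left e ▸ inv_mem x.1.2), fun e => h.notMem
      ((Subgroup.mul_mem_cancel_right _ x.1.2).1 (Subgroup.zpowers_le.2
        (pow_mem (Subgroup.mem_zpowers a) _) (h.center_eq ▸ e)))⟩) ⟨?_, ?_⟩)).symm
  · intro x y e
    exact Subtype.ext (Subtype.ext (mul_left_cancel (congrArg Subtype.val e)))
  · rintro ⟨g, h1, h2⟩
    rcases h.exists_eq g with ⟨i, rfl⟩ | ⟨i, rfl⟩
    · refine absurd (h.center_eq ▸ (h.zpow_mem_zpowers_z_iff i).2 ?_) h2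
      have : a ^ (i * 2) = 1 := by rw [zpow_mul, zpow_ofNat, ← h1, pow_orderOf_eq_one]
      rw [← orderOf_dvd_iff_zpow_eq_one, h.orderOf_eq] at this
      push_cast at this
      rw [pow_succ] at this
      exact (mul_dvd_mul_iff_right two_ne_zero).1 this
    · exact ⟨⟨⟨a ^ i, Subgroup.zpow_mem_zpowers a i⟩, h1 ▸ pow_orderOf_eq_one _⟩, rfl⟩

theorem maxTwo_case [Finite V] [Nontrivial V] [Finite G] (hρ : Function.Injective ρ)
    (hirr : ∀ W : Submodule (ZMod q) V, (∀ g : G, ∀ w ∈ W, ρ g w ∈ W) → W = ⊥ ∨ W = ⊤)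
    (hne : ∀ v : V, v ≠ 0 → St ρ v ≠ ⊥) {m : ℕ} {a b : G} (h : GT.PG.MaxTwo m a b) :
    Nat.card V = q ^ 2 ∧ ∃ m : ℕ, q = 2 ^ m - 1 ∧ (Nonempty (G ≃* DihedralGroup (2 ^ m)) ∨
      (Cfsg.IsQuasiDihedral G ∧ Nat.card G = 2 ^ (m + 2))) := by
  have hq : 2 ≤ q := (Fact.out : q.Prime).two_le
  have h1 : ∀ v : V, v ≠ 0 → Nat.card {g : G // ρ g v = v} = 2 := fun v hv => by
    have h2 : St ρ v ⊓ Subgroup.zpowers a = ⊥ := by
      by_contra hc
      obtain ⟨⟨g, hg⟩, hg2⟩ := exists_prime_orderOf_dvd_card' (G := ↥(St ρ v ⊓ Subgroup.zpowers a)) 2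
        ((h.isPGroup.to_subgroup _).card_eq_or_dvd.resolve_left (mt Subgroup.card_eq_one.1 hc))
      rw [Subgroup.orderOf_mk] at hg2
      obtain ⟨hg, hga⟩ := Subgroup.mem_inf.1 hg
      obtain ⟨i, rfl⟩ := Subgroup.mem_zpowers_iff.1 hga
      refine hv (eq_zero_of_central hρ hirr (z := a ^ i) (fun e => by simp [e] at hg2)
        (h.center_eq ▸ (h.zpow_mem_zpowers_z_iff i).2 ?_) hg)
      have : a ^ (i * 2) = 1 := by rw [zpow_mul, zpow_ofNat, ← hg2, pow_orderOf_eq_one]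
      rw [← orderOf_dvd_iff_zpow_eq_one, h.orderOf_eq] at this
      push_cast at this
      rw [pow_succ] at this
      exact (mul_dvd_mul_iff_right two_ne_zero).1 this
    have h3 : (Subgroup.zpowers a).relIndex (St ρ v) = Nat.card (St ρ v) := by
      rw [← Subgroup.inf_relIndex_right, inf_comm, h2, Subgroup.relIndex_bot_left]
    haveI := h.normal
    have h4 := (Subgroup.zpowers a).relIndex_dvd_index_of_normal (St ρ v)
    rw [h3, h.index_eq] at h4
    exact ((Nat.dvd_prime Nat.prime_two).1 h4).resolve_left (mt Subgroup.card_eq_one.1 (hne v hv))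
  obtain ⟨r, hr, h2⟩ := S3381.result q ρ hρ h1 _ h.orderOf_z h.z_mem_center
  rw [card_invol h] at h2
  have h3 : ∀ (k i : ℤ), b * a * b⁻¹ = a ^ k → (b * a ^ i) ^ 2 = a ^ ((k + 1) * i) * b ^ 2 := by
    intro k i e
    have hb := Subgroup.mem_center_iff.1 (h.sq_mem_center h.notMem) (a ^ i)
    rw [add_mul, zpow_add, zpow_mul, ← e, conj_zpow, one_mul, mul_assoc, hb]
    simp only [sq]
    group
  rcases h.rel with ⟨e1, e2⟩ | ⟨e1, e2⟩ | ⟨hm, e1, e2⟩
  · rw [Nat.card_congr (Equiv.subtypeUnivEquiv fun ⟨x, hx⟩ => by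
      obtain ⟨i, rfl⟩ := Subgroup.mem_zpowers_iff.1 hx
      simpa [e1] using h3 (-1) i (by simpa using e2)), Nat.card_zpowers, h.orderOf_eq] at h2
    obtain rfl := FG.Orb2.eq_one_of_pow_add_one hq (by have := h.one_le; omega) h2.symm
    obtain ⟨e, -⟩ := GT.PG.exists_mulEquiv_dihedral h.orderOf_eq h.index_eq h.notMem e2 e1
    exact ⟨hr, m + 1, by rw [h2]; simp, Or.inl ⟨e⟩⟩
  · haveI : IsEmpty {x : Subgroup.zpowers a // (b * x) ^ 2 = 1} := ⟨fun ⟨⟨x, hx⟩, e⟩ => by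
      obtain ⟨i, rfl⟩ := Subgroup.mem_zpowers_iff.1 hx
      rw [h3 (-1) i (by simpa using e2), e1] at e
      exact h.z_ne_one (by simpa using e)⟩
    simp at h2
  · have h4 : Nat.card {x : Subgroup.zpowers a // (b * x) ^ 2 = 1} =
        Nat.card (Subgroup.zpowers (a ^ 2)) := by
      refine Nat.card_congr ((Equiv.subtypeSubtypeEquivSubtypeInter _
        (fun x => (b * x) ^ 2 = 1)).trans (Equiv.subtypeEquivRight fun x => ?_))
      have h5 : ∀ i : ℤ, (b * a ^ i) ^ 2 = 1 ↔ 2 ∣ i := fun i => by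
        rw [h3 _ i (e2.trans (GT.PG.pow_two_pow_sub_one_eq a m)), e1, mul_one,
          ← orderOf_dvd_iff_zpow_eq_one, h.orderOf_eq, sub_add_cancel]
        push_cast
        rw [pow_succ]
        exact mul_dvd_mul_iff_left (by positivity)
      constructor
      · rintro ⟨hx, e⟩
        obtain ⟨i, rfl⟩ := Subgroup.mem_zpowers_iff.1 hx
        obtain ⟨j, rfl⟩ := (h5 i).1 e
        exact ⟨j, by simp [zpow_mul]⟩
      · rintro ⟨j, rfl⟩
        have : (a ^ 2) ^ j = a ^ (2 * j) := by simp [zpow_mul]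
        simp only [this]
        exact ⟨Subgroup.zpow_mem_zpowers a _, (h5 _).2 (dvd_mul_right _ _)⟩
    rw [h4, Nat.card_zpowers, h.orderOf_sq] at h2
    obtain rfl := FG.Orb2.eq_one_of_pow_add_one hq hm h2.symm
    exact ⟨hr, m, by rw [h2]; simp, Or.inr ⟨⟨m + 1, by omega, h.card_eq, a, b, h.orderOf_eq,
      orderOf_eq_prime e1 fun e => h.notMem (e ▸ one_mem _), e2⟩, h.card_eq⟩⟩

end Cfsg.Agent.Perm.HT
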