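import Mathlib
import Cfsg.Agent.Perm.Witt

/-!
# `k`-homogeneous actions
-/

set_option autoImplicit false

namespace Cfsg.Agent.Perm

open MulAction
open scoped Pointwise

variable {G X : Type*} [Group G] [MulAction G X] [DecidableEq X]

/-- `G` is transitive on the `k`-subsets of `X`. -/
def Homog (G X : Type*) [Group G] [MulAction G X] [DecidableEq X] (k : ℕ) : Prop :=
  ∀ s t : Finset X, s.card = k → t.card = k → ∃ g : G, g • s = t

theorem homog_iff {k : ℕ} : IsPretransitive G (Set.powersetCard X k) ↔ Homog G X k := by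
  constructor
  · intro h s t hs ht
    obtain ⟨g, hg⟩ := exists_smul_eq G (⟨s, hs⟩ : Set.powersetCard X k) ⟨t, ht⟩
    exact ⟨g, congrArg Subtype.val hg⟩
  · intro h
    refine ⟨fun s t => ?_⟩
    obtain ⟨g, hg⟩ := h s t s.2 t.2
    exact ⟨g, Subtype.ext hg⟩

theorem homog_of_multiply {k : ℕ} (h : IsMultiplyPretransitive G X k) : Homog G X k :=
  homog_iff.1 (Set.powersetCard.isPretransitive_of_isMultiplyPretransitive G h)

theorem smul_finset_compl [Fintype X] (g : G) (s : Finset X) : g • sᶜ = (g • s)ᶜ := by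
  ext x
  simp [← Finset.inv_smul_mem_iff]

theorem Homog.compl [Fintype X] {k m : ℕ} (h : Homog G X k) (hk : k + m = Fintype.card X) :
    Homog G X m := by
  intro s t hs ht
  obtain ⟨g, hg⟩ := h sᶜ tᶜ (by rw [Finset.card_compl]; omega) (by rw [Finset.card_compl]; omega)
  rw [smul_finset_compl] at hg
  exact ⟨g, compl_injective hg⟩

theorem homog_one_iff : Homog G X 1 ↔ IsPretransitive G X := by
  constructor
  · intro h
    refine ⟨fun a b => ?_⟩
    obtain ⟨g, hg⟩ := h {a} {b} (by simp) (by simp)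
    exact ⟨g, by simpa using hg⟩
  · intro h s t hs ht
    obtain ⟨a, rfl⟩ := Finset.card_eq_one.1 hs
    obtain ⟨b, rfl⟩ := Finset.card_eq_one.1 ht
    obtain ⟨g, hg⟩ := exists_smul_eq G a b
    exact ⟨g, by simpa using hg⟩

theorem choose_pow_mul_add_modEq_one {p : ℕ} (hp : p.Prime) (a m r : ℕ) (hr : r < p ^ a) :
    (p ^ a * m + r).choose r ≡ 1 [MOD p] := by
  have := Fact.mk hp
  induction a generalizing r with
  | zero =>
    have : r = 0 := by simpa using hr
    subst this
    simp [Nat.ModEq]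
  | succ a ih =>
    refine Choose.choose_modEq_choose_mod_mul_choose_div_nat.trans ?_
    have h1 : (p ^ (a + 1) * m + r) % p = r % p := by
      rw [pow_succ', mul_assoc, Nat.mul_add_mod]
    have h2 : (p ^ (a + 1) * m + r) / p = p ^ a * m + r / p := by
      rw [pow_succ', mul_assoc, Nat.mul_add_div hp.pos]
    rw [h1, h2, Nat.choose_self, one_mul]
    exact ih _ (Nat.div_lt_of_lt_mul (by rwa [pow_succ'] at hr))

/-- The orbit of a finset under a `k`-homogeneous group. -/
theorem Homog.card_eq [Fintype X] {k : ℕ} (h : Homog G X k) (s : Finset X) (hs : s.card = k) :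
    (Fintype.card X).choose k * Nat.card (stabilizer G s) = Nat.card G := by
  rw [← card_orbit_mul_card_stabilizer (G := G) s]
  congr 1
  have : orbit G s = ((Finset.univ.powersetCard k : Finset (Finset X)) : Set (Finset X)) := by
    ext t
    simp only [Finset.mem_coe, Finset.mem_powersetCard, Finset.subset_univ, true_and]
    constructor
    · rintro ⟨g, rfl⟩
      simp [hs]
    · intro ht
      exact h s t hs ht
  rw [this, Nat.card_coe_set_eq, Set.ncard_coe_finset, Finset.card_powersetCard, Finset.card_univ]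

/-- `k`-homogeneous implies `(k-1)`-homogeneous when `k + q - 1 ≤ n` for the prime powers
`q ∣ k`. -/
theorem Homog.pred [Fintype X] {k : ℕ} (h : Homog G X (k + 1)) (hk : k < Fintype.card X)
    (hq : ∀ p a : ℕ, p.Prime → 0 < a → p ^ a ∣ k + 1 → k + p ^ a ≤ Fintype.card X) :
    Homog G X k := by
  classical
  intro t₀ t₁ ht₀ ht₁
  obtain ⟨x₀, -, hx₀⟩ := Finset.exists_mem_notMem_of_card_lt_card (s := t₀) (t := Finset.univ)
    (by rw [Finset.card_univ]; omega)
  set O : Finset X → Prop := fun t => ∃ g : G, g • t₀ = t with hO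
  set c := ((insert x₀ t₀).powersetCard k).filter O |>.card with hc
  have hs₀ : (insert x₀ t₀).card = k + 1 := by rw [Finset.card_insert_of_notMem hx₀, ht₀]
  have hconst : ∀ s : Finset X, s.card = k + 1 → ((s.powersetCard k).filter O).card = c := by
    intro s hs
    obtain ⟨g, rfl⟩ := h _ s hs₀ hs
    symm
    apply Finset.card_bij (fun t _ => g • t)
    · intro t ht
      simp only [Finset.mem_filter, Finset.mem_powersetCard] at ht ⊢
      obtain ⟨⟨h1, h2⟩, u, rfl⟩ := ht
      exact ⟨⟨Finset.smul_finset_subset_smul_finset h1, by simpa using h2⟩, g * u, mul_smul _ _ _⟩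
    · intro t _ t' _ e
      exact smul_left_cancel g e
    · intro t ht
      simp only [Finset.mem_filter, Finset.mem_powersetCard] at ht
      obtain ⟨⟨h1, h2⟩, u, rfl⟩ := ht
      refine ⟨g⁻¹ • u • t₀, ?_, smul_inv_smul _ _⟩
      simp only [Finset.mem_filter, Finset.mem_powersetCard]
      exact ⟨⟨Finset.subset_smul_finset_iff.1 h1, by simpa using h2⟩, g⁻¹ * u, mul_smul _ _ _⟩
  have hdvd : k + 1 ∣ c := by
    rw [Nat.dvd_iff_prime_pow_dvd_dvd]
    intro p a hp ha
    rcases Nat.eq_zero_or_pos a with rfl | ha0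
    · simp
    obtain ⟨Δ, -, hΔ⟩ := Finset.exists_subset_card_eq (s := (Finset.univ : Finset X))
      (n := k + p ^ a) (by rw [Finset.card_univ]; exact hq p a hp ha0 ha)
    have hpa : 0 < p ^ a := pow_pos hp.pos a
    have key := Finset.card_mul_eq_card_mul (s := (Δ.powersetCard k).filter O)
      (t := Δ.powersetCard (k + 1)) (fun t s => t ⊆ s) (m := p ^ a) (n := c) (by
        intro t ht
        simp only [Finset.mem_filter, Finset.mem_powersetCard] at ht
        rw [Finset.bipartiteAbove, Finset.card_filter_powersetCard_subset t Δ _ ht.1.1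
          (by omega), ht.1.2, hΔ]
        simp) (by
        intro s hs
        rw [Finset.mem_powersetCard] at hs
        rw [← hconst s hs.2]
        congr 1
        ext t
        simp only [Finset.mem_bipartiteBelow, Finset.mem_filter, Finset.mem_powersetCard]
        exact ⟨fun h => ⟨⟨h.2, h.1.1.2⟩, h.1.2⟩, fun h => ⟨⟨⟨h.1.1.trans hs.1, h.1.2⟩, h.2⟩, h.1.1⟩⟩)
    rw [Finset.card_powersetCard, hΔ] at key
    obtain ⟨m, hm⟩ := ha
    have h1 := choose_pow_mul_add_modEq_one hp a m (p ^ a - 1) (by omega)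
    rw [← hm, ← Nat.choose_symm_add, show k + 1 + (p ^ a - 1) = k + p ^ a by omega] at h1
    have h2 : Nat.Coprime (p ^ a) ((k + p ^ a).choose (k + 1)) := by
      apply Nat.Coprime.pow_left
      rw [Nat.Prime.coprime_iff_not_dvd hp]
      intro hd
      exact hp.one_lt.ne' (Nat.dvd_one.1 ((h1.dvd_iff (dvd_refl p)).1 hd))
    exact h2.dvd_of_dvd_mul_left (key ▸ Dvd.intro_left _ rfl)
  have hpos : 0 < c := Finset.card_pos.2 ⟨t₀, by
    simp only [Finset.mem_filter, Finset.mem_powersetCard]
    exact ⟨⟨Finset.subset_insert _ _, ht₀⟩, 1, one_smul _ _⟩⟩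
  obtain ⟨x₁, -, hx₁⟩ := Finset.exists_mem_notMem_of_card_lt_card (s := t₁) (t := Finset.univ)
    (by rw [Finset.card_univ]; omega)
  have hs₁ : (insert x₁ t₁).card = k + 1 := by rw [Finset.card_insert_of_notMem hx₁, ht₁]
  have h3 : ((insert x₁ t₁).powersetCard k).filter O = (insert x₁ t₁).powersetCard k := by
    apply Finset.eq_of_subset_of_card_le (Finset.filter_subset _ _)
    rw [hconst _ hs₁, Finset.card_powersetCard, hs₁, Nat.choose_succ_self_right]
    exact Nat.le_of_dvd hpos hdvd
  have h4 : t₁ ∈ ((insert x₁ t₁).powersetCard k).filter O := by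
    rw [h3, Finset.mem_powersetCard]
    exact ⟨Finset.subset_insert _ _, ht₁⟩
  exact (Finset.mem_filter.1 h4).2

theorem Homog.pred_of_le [Fintype X] {k : ℕ} (h : Homog G X (k + 1))
    (hk : 2 * k + 1 ≤ Fintype.card X) : Homog G X k :=
  h.pred (by omega) fun p a _ _ hd => by
    have := Nat.le_of_dvd (by omega) hd
    omega

theorem Homog.of_le [Fintype X] {k j : ℕ} (h : Homog G X k) (hk : 2 * k ≤ Fintype.card X + 1)
    (hj : j ≤ k) : Homog G X j := by
  induction k with
  | zero => rwa [Nat.le_zero.1 hj]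
  | succ k ih =>
    rcases Nat.eq_or_lt_of_le hj with rfl | hj'
    · exact h
    · exact ih (h.pred_of_le (by omega)) (by omega) (by omega)

theorem Homog.pair (h : Homog G X 2) {a b c d : X} (hab : a ≠ b) (hcd : c ≠ d) :
    ∃ g : G, (g • a = c ∧ g • b = d) ∨ (g • a = d ∧ g • b = c) := by
  obtain ⟨g, hg⟩ := h {a, b} {c, d} (Finset.card_pair hab) (Finset.card_pair hcd)
  refine ⟨g, ?_⟩
  have h1 : g • a ∈ ({c, d} : Finset X) := hg ▸ Finset.smul_mem_smul_finset (by simp)
  have h2 : g • b ∈ ({c, d} : Finset X) := hg ▸ Finset.smul_mem_smul_finset (by simp)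
  have h3 : g • a ≠ g • b := fun e => hab (smul_left_cancel g e)
  simp only [Finset.mem_insert, Finset.mem_singleton] at h1 h2
  rcases h1 with h1 | h1 <;> rcases h2 with h2 | h2
  · exact absurd (h1.trans h2.symm) h3
  · exact Or.inl ⟨h1, h2⟩
  · exact Or.inr ⟨h1, h2⟩
  · exact absurd (h1.trans h2.symm) h3

/-- a 2-homogeneous group with an element swapping two points is 2-transitive -/
theorem Homog.two_trans_of_swap (h : Homog G X 2) {t : G} {a b : X} (hab : a ≠ b) (h1 : t • a = b)
    (h2 : t • b = a) : IsMultiplyPretransitive G X 2 := by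
  have key : ∀ c d : X, c ≠ d → ∃ g : G, g • a = c ∧ g • b = d := by
    intro c d hcd
    obtain ⟨g, hg | hg⟩ := h.pair hab hcd
    · exact ⟨g, hg⟩
    · exact ⟨g * t, by rw [mul_smul, h1, hg.2], by rw [mul_smul, h2, hg.1]⟩
  rw [is_two_pretransitive_iff]
  intro c d e f hcd hef
  obtain ⟨g, rfl, rfl⟩ := key c d hcd
  obtain ⟨u, rfl, rfl⟩ := key e f hef
  exact ⟨u * g⁻¹, by simp [mul_smul], by simp [mul_smul]⟩

theorem Homog.two_trans_of_even [FaithfulSMul G X] [Finite G] (h : Homog G X 2)
    (he : Even (Nat.card G)) : IsMultiplyPretransitive G X 2 := by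
  have := Fact.mk Nat.prime_two
  obtain ⟨t, ht⟩ := exists_prime_orderOf_dvd_card' (G := G) 2 he.two_dvd
  have ht1 : t ≠ 1 := by rintro rfl; simp at ht
  obtain ⟨a, ha⟩ := exists_smul_ne (X := X) ht1
  refine h.two_trans_of_swap ha.symm rfl ?_
  rw [← mul_smul, ← pow_two, ← ht, pow_orderOf_eq_one, one_smul]

theorem Homog.isPreprimitive [Fintype X] (h : Homog G X 2) (h3 : 3 ≤ Fintype.card X) :
    IsPreprimitive G X := by
  have := homog_one_iff.1 (h.pred_of_le (k := 1) h3)
  apply isPreprimitive_of_rel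
  intro r hr hinv
  by_cases h1 : ∀ x y, r x y → x = y
  · exact Or.inl h1
  right
  push Not at h1
  obtain ⟨a, b, hrab, hab⟩ := h1
  intro x y
  by_cases hxy : x = y
  · exact hxy ▸ hr.refl x
  obtain ⟨g, ⟨rfl, rfl⟩ | ⟨rfl, rfl⟩⟩ := h.pair hab hxy
  · exact hinv g a b hrab
  · exact hr.symm (hinv g a b hrab)

end Cfsg.Agent.Perm
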