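import Mathlib
import Cfsg.Agent.Perm.Support
import Cfsg.Agent.Perm.Homog

/-!
# Jordan complements, the geometry of lines, Marggraf's theorem
-/

set_option autoImplicit false

namespace Cfsg.Agent.Perm

open MulAction
open scoped Pointwise

variable {G X : Type*} [Group G] [MulAction G X] [DecidableEq X]

/-- `Δ` is a Jordan complement: its pointwise stabiliser is transitive on the other points. -/
def IsJC (G : Type*) [Group G] [MulAction G X] (Δ : Finset X) : Prop :=
  ∀ a ∉ Δ, ∀ b ∉ Δ, ∃ g : G, (∀ x ∈ Δ, g • x = x) ∧ g • a = b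

theorem IsJC.smul {Δ : Finset X} (h : IsJC G Δ) (g : G) : IsJC G (g • Δ) := by
  intro a ha b hb
  rw [← Finset.inv_smul_mem_iff] at ha hb
  obtain ⟨u, h1, h2⟩ := h _ ha _ hb
  refine ⟨g * u * g⁻¹, fun x hx => ?_, by rw [mul_smul, mul_smul, h2, smul_inv_smul]⟩
  rw [← Finset.inv_smul_mem_iff] at hx
  rw [mul_smul, mul_smul, h1 _ hx, smul_inv_smul]

theorem IsJC.inter {Δ Λ : Finset X} (h : IsJC G Δ) (h' : IsJC G Λ) {c : X} (hc : c ∉ Δ)
    (hc' : c ∉ Λ) : IsJC G (Δ ∩ Λ) := by
  have key : ∀ a ∉ Δ ∩ Λ, ∃ g : G, (∀ x ∈ Δ ∩ Λ, g • x = x) ∧ g • c = a := by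
    intro a ha
    by_cases haΔ : a ∈ Δ
    · obtain ⟨g, h1, h2⟩ := h' c hc' a fun h => ha (Finset.mem_inter.2 ⟨haΔ, h⟩)
      exact ⟨g, fun x hx => h1 x (Finset.mem_inter.1 hx).2, h2⟩
    · obtain ⟨g, h1, h2⟩ := h c hc a haΔ
      exact ⟨g, fun x hx => h1 x (Finset.mem_inter.1 hx).1, h2⟩
  intro a ha b hb
  obtain ⟨g, h1, rfl⟩ := key a ha
  obtain ⟨u, h2, rfl⟩ := key b hb
  refine ⟨u * g⁻¹, fun x hx => ?_, by simp [mul_smul]⟩
  rw [mul_smul, inv_smul_eq_iff.2 (h1 x hx).symm, h2 x hx]

/-- A `G`-invariant Steiner system `S(t, l, n)`. -/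
structure LineSys (G : Type*) [Group G] [MulAction G X] (t l : ℕ) (Ln : Finset X → Prop) :
    Prop where
  ex : ∀ T : Finset X, T.card = t → ∃ M, Ln M ∧ T ⊆ M
  uniq : ∀ M M', Ln M → Ln M' → t ≤ (M ∩ M').card → M = M'
  smul : ∀ M (g : G), Ln M → Ln (g • M)
  card : ∀ M, Ln M → M.card = l

theorem exists_lineSys [Fintype X] {t : ℕ} (ht : 2 ≤ t) (hG : IsMultiplyPretransitive G X t)
    (hn : ¬ IsMultiplyPretransitive G X (t + 1)) {Δ : Finset X} (hΔ : IsJC G Δ) (h1 : t ≤ Δ.card)
    (h2 : Δ.card + 2 ≤ Fintype.card X) :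
    ∃ (l : ℕ) (Ln : Finset X → Prop), LineSys G t l Ln ∧ t < l ∧ l < Fintype.card X := by
  classical
  have hex : ∃ l, ∃ L : Finset X, L.card = l ∧ IsJC G L ∧ t ≤ l ∧ l + 2 ≤ Fintype.card X :=
    ⟨_, Δ, rfl, hΔ, h1, h2⟩
  obtain ⟨L, hL, hJ, htl, hln⟩ := Nat.find_spec hex
  have hmin : ∀ M : Finset X, IsJC G M → t ≤ M.card → M.card < L.card → False :=
    fun M hM h3 h4 => Nat.find_min hex (hL ▸ h4) ⟨M, rfl, hM, h3, by omega⟩
  rw [← hL] at htl hln
  have htn : t ≤ Nat.card X := by rw [Nat.card_eq_fintype_card]; omega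
  have htl' : t ≠ L.card := fun e => hn (isMultiplyPretransitive_succ_of_fix hG L e.symm hJ)
  have hint : ∀ g : G, (∃ c, c ∉ L ∧ c ∉ g • L) → t ≤ (L ∩ g • L).card → g • L = L := by
    rintro g ⟨c, hc, hc'⟩ h3
    by_contra hne
    refine hmin _ (hJ.inter (hJ.smul g) hc hc') h3 (Finset.card_lt_card
      ⟨Finset.inter_subset_left, fun h => hne ?_⟩)
    exact (Finset.eq_of_subset_of_card_le (h.trans Finset.inter_subset_right) (by simp)).symm
  have hsmall : 2 * L.card < Fintype.card X + t := by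
    obtain ⟨S, hS, hSc⟩ := Finset.exists_subset_card_eq (s := L) (n := t - 2) (by omega)
    have hp := fix_prim_of_trans hG htn S (by omega)
    by_contra hlt
    rcases fix_prim_block hp ((L : Set X)ᶜ) (fun x hx h => hx (hS h)) (fun g hg x hx hgx y hy => by
      have : g • L = L := hint g ⟨g • x, hgx, by simpa using hx⟩ (by
        have h4 := Finset.card_union_add_card_inter L (g • L)
        have h5 : (L ∪ g • L).card < Fintype.card X :=
          Finset.card_lt_univ_of_notMem (x := g • x) (by simpa using ⟨hgx, hx⟩)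
        rw [Finset.card_smul_finset] at h4
        omega)
      intro h
      rw [← this] at h
      exact hy (by simpa using h)) with h | h
    · have h3 := ncard_compl_finset L
      have := Set.ncard_le_one_iff_subsingleton.2 h
      rw [Nat.card_eq_fintype_card] at h3
      omega
    · have := Finset.coe_injective (compl_injective h)
      have := congrArg Finset.card this
      omega
  refine ⟨L.card, fun M => ∃ g : G, M = g • L, ⟨fun T hT => ?_, ?_, ?_, ?_⟩, by omega, by omega⟩
  · obtain ⟨S, hS, hSc⟩ := Finset.exists_subset_card_eq htl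
    obtain ⟨g, rfl⟩ := homog_of_multiply hG S T hSc hT
    exact ⟨_, ⟨g, rfl⟩, Finset.smul_finset_subset_smul_finset hS⟩
  · rintro _ _ ⟨g, rfl⟩ ⟨u, rfl⟩ h3
    have h4 : t ≤ (L ∩ (g⁻¹ * u) • L).card := by
      rwa [← Finset.card_smul_finset g, Finset.smul_finset_inter, ← mul_smul, mul_inv_cancel_left]
    have := hint (g⁻¹ * u) ?_ h4
    · rw [mul_smul, inv_smul_eq_iff] at this
      exact this.symm
    · have h5 := Finset.card_union_add_card_inter L ((g⁻¹ * u) • L)
      rw [Finset.card_smul_finset] at h5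
      obtain ⟨c, -, hc⟩ := Finset.exists_mem_notMem_of_card_lt_card (s := L ∪ (g⁻¹ * u) • L)
        (t := Finset.univ) (by rw [Finset.card_univ]; omega)
      exact ⟨c, by simpa using hc⟩
  · rintro _ g ⟨u, rfl⟩
    exact ⟨g * u, (mul_smul _ _ _).symm⟩
  · rintro _ ⟨g, rfl⟩
    simp

namespace LineSys

variable {t l : ℕ} {Ln : Finset X → Prop} (h : LineSys G t l Ln)
include h

theorem eq_of_subset {M M' T : Finset X} (hM : Ln M) (hM' : Ln M') (h1 : T ⊆ M) (h2 : T ⊆ M')
    (ht : t ≤ T.card) : M = M' :=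
  h.uniq M M' hM hM' (ht.trans (Finset.card_le_card (Finset.subset_inter h1 h2)))

theorem smul_eq {M T : Finset X} (hM : Ln M) (h1 : T ⊆ M) (ht : t ≤ T.card) {g : G}
    (hg : ∀ x ∈ T, g • x ∈ M) : g • M = M :=
  h.eq_of_subset (T := g • T) (h.smul M g hM) hM (Finset.smul_finset_subset_smul_finset h1)
    (by intro y hy; obtain ⟨x, hx, rfl⟩ := Finset.mem_smul_finset.1 hy; exact hg x hx)
    (by simpa using ht)

theorem mem_of_isJC {Δ M T : Finset X} (hΔ : IsJC G Δ) (hM : Ln M) (h1 : T ⊆ M) (h2 : T ⊆ Δ)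
    (ht : t ≤ T.card) {x y : X} (hx : x ∈ M) (hxΔ : x ∉ Δ) (hy : y ∉ Δ) : y ∈ M := by
  obtain ⟨g, hg, rfl⟩ := hΔ x hxΔ y hy
  rw [← h.smul_eq hM h1 ht (g := g) fun z hz => by rw [hg z (h2 hz)]; exact h1 hz]
  exact Finset.smul_mem_smul_finset hx

/-- Jordan complements are closed under lines. -/
theorem subset_of_isJC [Fintype X] (ht : 2 ≤ t) (hl : t < l) (hn : l < Fintype.card X)
    {Δ M T : Finset X} (hΔ : IsJC G Δ) (h2 : Δ.card + 2 ≤ Fintype.card X) (hM : Ln M)
    (hTM : T ⊆ M) (hTΔ : T ⊆ Δ) (hT : t ≤ T.card) : M ⊆ Δ := by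
  intro x hx
  by_contra hxΔ
  obtain ⟨x', -, hx'⟩ := Finset.exists_mem_notMem_of_card_lt_card (s := insert x Δ)
    (t := Finset.univ) (by rw [Finset.card_univ, Finset.card_insert_of_notMem hxΔ]; omega)
  simp only [Finset.mem_insert, not_or] at hx'
  have hall := fun y hy => h.mem_of_isJC hΔ hM hTM hTΔ hT hx hxΔ (y := y) hy
  obtain ⟨c, -, hc⟩ := Finset.exists_mem_notMem_of_card_lt_card (s := M)
    (t := Finset.univ) (by rw [Finset.card_univ, h.card M hM]; omega)
  have hcΔ : c ∈ Δ := by_contra fun hh => hc (hall c hh)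
  obtain ⟨S, hS, hSc⟩ := Finset.exists_subset_card_eq (s := T) (n := t - 2) (by omega)
  have hcard : ∀ a b : X, a ∉ S → b ∉ S → a ≠ b → (insert a (insert b S)).card = t := by
    intro a b ha hb hab
    rw [Finset.card_insert_of_notMem (by simp [ha, hab]), Finset.card_insert_of_notMem hb]
    omega
  have hxS : x ∉ S := fun hh => hxΔ (hTΔ (hS hh))
  have hcS : c ∉ S := fun hh => hc (hTM (hS hh))
  have hcx : c ≠ x := fun e => hc (e ▸ hx)
  obtain ⟨M', hM', hsub⟩ := h.ex _ (hcard c x hcS hxS hcx)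
  obtain ⟨y, hy, hy'⟩ := Finset.exists_mem_notMem_of_card_lt_card (s := insert c (insert x S))
    (t := M') (by rw [hcard c x hcS hxS hcx, h.card M' hM']; exact hl)
  simp only [Finset.mem_insert, not_or] at hy'
  have hSM' : S ⊆ M' := fun z hz => hsub (by simp [hz])
  have hxM' : x ∈ M' := hsub (by simp)
  have hcM' : c ∈ M' := hsub (by simp)
  have key : ∀ z ∈ M, z ∈ M' → z ∉ S → z ≠ x → False := fun z h1 h2 h3 h4 => hc (by
    rw [h.eq_of_subset hM hM' (T := insert z (insert x S))
      (Finset.insert_subset h1 (Finset.insert_subset hx (hS.trans hTM)))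
      (Finset.insert_subset h2 (Finset.insert_subset hxM' hSM')) (hcard z x h3 hxS h4).ge]
    exact hcM')
  have hyΔ : y ∈ Δ := by_contra fun hh => key y (hall y hh) hy hy'.2.2 hy'.2.1
  exact key x' (hall x' hx'.2) (h.mem_of_isJC hΔ hM' (T := insert y (insert c S))
    (Finset.insert_subset hy (Finset.insert_subset hcM' hSM'))
    (Finset.insert_subset hyΔ (Finset.insert_subset hcΔ (hS.trans hTΔ)))
    (hcard y c hy'.2.2 hcS hy'.1).ge hxM' hxΔ hx'.2) (fun hh => hx'.2 (hTΔ (hS hh))) hx'.1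

theorem count {Δ U W : Finset X} (hU : U.card + 1 = t) (hd : ∀ w ∈ W, w ∉ Δ ∧ w ∉ U)
    (hW : ∀ M, Ln M → U ⊆ M → ∀ r ∈ M, r ∈ Δ → r ∉ U → ∀ w ∈ M, w ∉ U → w ≠ r → w ∈ W) :
    (Δ \ U).card * (l - t) ≤ W.card := by
  classical
  have := Finset.card_mul_le_card_mul (s := Δ \ U) (t := W)
    (fun r w => ∃ M, Ln M ∧ U ⊆ M ∧ r ∈ M ∧ w ∈ M) (m := l - t) (n := 1) (fun r hr => by
      rw [Finset.mem_sdiff] at hr
      have hc : (insert r U).card = t := by rw [Finset.card_insert_of_notMem hr.2, hU]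
      obtain ⟨M, hM, hsub⟩ := h.ex _ hc
      have hUM : U ⊆ M := (Finset.subset_insert _ _).trans hsub
      have hrM : r ∈ M := hsub (Finset.mem_insert_self _ _)
      rw [← h.card M hM, ← hc, ← Finset.card_sdiff_of_subset hsub]
      refine Finset.card_le_card fun w hw => ?_
      simp only [Finset.mem_sdiff, Finset.mem_insert, not_or] at hw
      exact (Finset.mem_bipartiteAbove _).2
        ⟨hW M hM hUM r hrM hr.1 hr.2 w hw.1 hw.2.2 hw.2.1, M, hM, hUM, hrM, hw.1⟩) (fun w hw => by
      rw [Finset.card_le_one]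
      intro r hr r' hr'
      obtain ⟨h1, M, hM, hUM, hrM, hwM⟩ := (Finset.mem_bipartiteBelow _).1 hr
      obtain ⟨h2, M', hM', hUM', hrM', hwM'⟩ := (Finset.mem_bipartiteBelow _).1 hr'
      rw [Finset.mem_sdiff] at h1 h2
      obtain rfl := h.eq_of_subset hM hM' (Finset.insert_subset hwM hUM)
        (Finset.insert_subset hwM' hUM') (by rw [Finset.card_insert_of_notMem (hd w hw).2, hU])
      by_contra hne
      exact (hd r (hW M hM hUM r' hrM' h2.1 h2.2 r hrM h1.2 hne)).1 h1.1)
  simpa using this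

/-- The basic inequality `(δ - t + 2) (l - t) ≤ |W|`. -/
theorem count_isJC [Fintype X] (ht : 2 ≤ t) (hl : t < l) (hn : l < Fintype.card X)
    {Δ : Finset X} (hΔ : IsJC G Δ) (h1 : t ≤ Δ.card) (h2 : Δ.card + 2 ≤ Fintype.card X) {x : X}
    (hx : x ∉ Δ) (q : X → Prop) [DecidablePred q]
    (hq : ∀ M, Ln M → x ∈ M → t ≤ (M ∩ Δ).card + 1 → ∀ w ∈ M, q w) :
    (Δ.card + 2 - t) * (l - t) ≤ ((Δᶜ.erase x).filter q).card := by
  obtain ⟨R, hR, hRc⟩ := Finset.exists_subset_card_eq (s := Δ) (n := t - 2) (by omega)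
  have hxR : x ∉ R := fun hh => hx (hR hh)
  have := h.count (Δ := Δ) (U := insert x R) (W := (Δᶜ.erase x).filter q)
    (by rw [Finset.card_insert_of_notMem hxR]; omega) (fun w hw => by
      simp only [Finset.mem_filter, Finset.mem_erase, Finset.mem_compl] at hw
      exact ⟨hw.1.2, by simp only [Finset.mem_insert, not_or]; exact ⟨hw.1.1, fun hh => hw.1.2 (hR hh)⟩⟩)
    (fun M hM hU r hrM hrΔ hrU w hwM hwU hwr => by
      simp only [Finset.mem_insert, not_or] at hrU hwU
      have hRM : R ⊆ M := (Finset.subset_insert _ _).trans hU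
      have hxM : x ∈ M := hU (Finset.mem_insert_self _ _)
      simp only [Finset.mem_filter, Finset.mem_erase, Finset.mem_compl]
      refine ⟨⟨hwU.1, fun hwΔ => hx (h.subset_of_isJC ht hl hn hΔ h2 hM (T := insert w (insert r R))
        (Finset.insert_subset hwM (Finset.insert_subset hrM hRM))
        (Finset.insert_subset hwΔ (Finset.insert_subset hrΔ hR)) ?_ hxM)⟩, hq M hM hxM ?_ w hwM⟩
      · rw [Finset.card_insert_of_notMem (by simp [hwr, hwU.2]), Finset.card_insert_of_notMem hrU.2]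
        omega
      · have := Finset.card_le_card (Finset.subset_inter (Finset.insert_subset hrM hRM)
          (Finset.insert_subset hrΔ hR))
        rw [Finset.card_insert_of_notMem hrU.2] at this
        omega)
  rw [Finset.sdiff_insert_of_notMem hx, Finset.card_sdiff_of_subset hR] at this
  rwa [show Δ.card + 2 - t = Δ.card - R.card by omega]

end LineSys

omit [DecidableEq X] in
theorem IsJC.two_trans [Fintype X] {Δ : Finset X} (hΔ : IsJC G Δ) (hG : IsPreprimitive G X)
    (h1 : 1 ≤ Δ.card) (h2 : Δ.card + 2 ≤ Fintype.card X) : IsMultiplyPretransitive G X 2 :=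
  hG.is_two_pretransitive (s := Δ) (n := Δ.card - 1) (by rw [Set.ncard_coe_finset]; omega)
    (by rw [Nat.card_eq_fintype_card]; omega) ((fix_isPretransitive_iff _).2 hΔ)

theorem IsJC.three_trans [Fintype X] {Δ : Finset X} (hΔ : IsJC G Δ) (hG : IsPreprimitive G X)
    (h1 : Fintype.card X ≤ 2 * Δ.card) (h2 : Δ.card + 2 ≤ Fintype.card X) :
    IsMultiplyPretransitive G X 3 := by
  by_contra hn
  obtain ⟨l, Ln, h, hl, hln⟩ := exists_lineSys le_rfl (hΔ.two_trans hG (by omega) h2) hn hΔ
    (by omega) h2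
  obtain ⟨x, -, hx⟩ := Finset.exists_mem_notMem_of_card_lt_card (s := Δ)
    (t := Finset.univ) (by rw [Finset.card_univ]; omega)
  have h3 := h.count_isJC le_rfl hl hln hΔ (by omega) h2 hx (fun _ => True) (fun _ _ _ _ _ _ => trivial)
  rw [Finset.filter_true, Finset.card_erase_of_mem (by simpa using hx), Finset.card_compl] at h3
  have := Nat.mul_le_mul_left (Δ.card + 2 - 2) (show 1 ≤ l - 2 by omega)
  omega

theorem exists_invariant_of_invol {h : G} (Γ : Finset X) (hΓ : ∀ x ∈ Γ, h • x ∈ Γ)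
    (h2 : ∀ x ∈ Γ, h • h • x = x) (hf : ∀ x ∈ Γ, h • x ≠ x) (j : ℕ) (hj : 2 * j ≤ Γ.card + 1) :
    ∃ Y ⊆ Γ, Y.card = 2 * j ∧ ∀ x ∈ Y, h • x ∈ Y := by
  induction j with
  | zero => exact ⟨∅, by simp, by simp, by simp⟩
  | succ j ih =>
    obtain ⟨Y, h3, h4, h5⟩ := ih (by omega)
    obtain ⟨x, hx, hxY⟩ := Finset.exists_mem_notMem_of_card_lt_card (s := Y) (t := Γ) (by omega)
    have hxY' : h • x ∉ Y := fun hh => hxY (h2 x hx ▸ h5 _ hh)
    refine ⟨insert (h • x) (insert x Y), Finset.insert_subset (hΓ x hx) (Finset.insert_subset hx h3),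
      ?_, fun y hy => ?_⟩
    · rw [Finset.card_insert_of_notMem (by simp [hf x hx, hxY']), Finset.card_insert_of_notMem hxY]
      omega
    · simp only [Finset.mem_insert] at hy ⊢
      rcases hy with rfl | rfl | hy
      · exact Or.inr (Or.inl (h2 x hx))
      · exact Or.inl rfl
      · exact Or.inr (Or.inr (h5 y hy))

/-- Marggraf's theorem. -/
theorem IsJC.alt_le {α : Type*} [Fintype α] [DecidableEq α] {G : Subgroup (Equiv.Perm α)}
    {Δ : Finset α} (hΔ : IsJC G Δ) (hG : IsPreprimitive G α)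
    (h1 : Fintype.card α < 2 * Δ.card) (h2 : Δ.card + 2 ≤ Fintype.card α) :
    alternatingGroup α ≤ G := by
  classical
  by_contra hA
  have hex : ∃ t, ¬ IsMultiplyPretransitive G α (t + 4) := by
    by_contra hh
    push Not at hh
    have h3 := hΔ.three_trans hG h1.le h2
    apply hA
    apply IsMultiplyPretransitive.alternatingGroup_le
    rw [Nat.card_eq_fintype_card]
    by_cases h6 : 6 ≤ Fintype.card α
    · convert hh (Fintype.card α - 6) using 1
      omega
    · exact isMultiplyPretransitive_of_le (n := 3) (by omega)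
        (by rw [Nat.card_eq_fintype_card]; omega)
  obtain ⟨t, ht3, ht, hn⟩ : ∃ t, 3 ≤ t ∧ IsMultiplyPretransitive G α t ∧
      ¬ IsMultiplyPretransitive G α (t + 1) := by
    refine ⟨Nat.find hex + 3, by omega, ?_, Nat.find_spec hex⟩
    rcases Nat.eq_zero_or_pos (Nat.find hex) with h | h
    · rw [h]; exact hΔ.three_trans hG h1.le h2
    · have := Nat.find_min hex (m := Nat.find hex - 1) (by omega)
      push Not at this
      convert this using 1
      omega
  have htn : t ≤ Fintype.card α := by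
    by_contra hh
    refine hn ⟨fun a => ?_⟩
    have := Fintype.card_le_of_embedding a
    rw [Fintype.card_fin] at this
    omega
  have hsupp : ∀ g : G, g ≠ 1 → ∀ T : Finset α, (∀ x ∉ T, g • x = x) → 2 * t - 2 ≤ T.card :=
    fun g hg T hT => by_contra fun hh => hA (alt_le_of_fix_outside ht3 htn ht hg T hT (by omega))
  obtain ⟨x, y, hx, hy, hxy⟩ := Finset.one_lt_card_iff.1
    (show 1 < Δᶜ.card by rw [Finset.card_compl]; omega)
  rw [Finset.mem_compl] at hx hy
  have hγ : 2 * t - 2 ≤ Fintype.card α - Δ.card := by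
    obtain ⟨g, hg1, hg2⟩ := hΔ x hx y hy
    rw [← Finset.card_compl]
    exact hsupp g (by rintro rfl; exact hxy (by simpa using hg2)) _
      (fun z hz => hg1 z (by simpa using hz))
  obtain ⟨l, Ln, h, hl, hln⟩ := exists_lineSys (by omega) ht hn hΔ (by omega) h2
  have hl' : l = t + 1 := by
    by_contra hh
    have h3 := h.count_isJC (by omega) hl hln hΔ (by omega) h2 hx (fun _ => True)
      (fun _ _ _ _ _ _ => trivial)
    rw [Finset.filter_true, Finset.card_erase_of_mem (by simpa using hx), Finset.card_compl] at h3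
    have := Nat.mul_le_mul_left (Δ.card + 2 - t) (show 2 ≤ l - t by omega)
    omega
  subst hl'
  have hlast : ∀ (g : G) (M T : Finset α), Ln M → T ⊆ M → t ≤ T.card → (∀ z ∈ T, g • z ∈ T) →
      ∀ w ∈ M, w ∉ T → g • w = w := by
    intro g M T hM hT hc hg w hw hwT
    have e := h.smul_eq hM hT hc fun z hz => hT (hg z hz)
    have e2 : insert w T = M := Finset.eq_of_subset_of_card_le (Finset.insert_subset hw hT)
      (by rw [Finset.card_insert_of_notMem hwT, h.card M hM]; omega)
    have e3 : g • T = T := Finset.eq_of_subset_of_card_le (by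
      intro y hy; obtain ⟨z, hz, rfl⟩ := Finset.mem_smul_finset.1 hy; exact hg z hz) (by simp)
    have h3 : g • w ∈ insert w T := by rw [e2, ← e]; exact Finset.smul_mem_smul_finset hw
    refine (Finset.mem_insert.1 h3).resolve_right fun h4 => hwT ?_
    rw [← e3] at h4
    simpa using h4
  have hsr : ∀ g : G, (∀ z ∈ Δ, g • z = z) → ∀ z ∉ Δ, g • z = z → g = 1 := by
    intro g hg z hz hgz
    by_contra hg1
    have h3 := h.count_isJC (by omega) hl hln hΔ (by omega) h2 hz (fun w => g • w = w)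
      (fun M hM hzM hc w hw => by
        have hf : ∀ u ∈ insert z (M ∩ Δ), g • u = u := fun u hu => by
          rcases Finset.mem_insert.1 hu with rfl | hu
          · exact hgz
          · exact hg u (Finset.mem_inter.1 hu).2
        by_cases hwT : w ∈ insert z (M ∩ Δ)
        · exact hf w hwT
        · exact hlast g M _ hM (Finset.insert_subset hzM Finset.inter_subset_left)
            (by rw [Finset.card_insert_of_notMem (by simp [hz])]; exact hc)
            (fun u hu => by rw [hf u hu]; exact hu) w hw hwT)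
    have h4 := hsupp g hg1 ((Δᶜ.erase z).filter fun w => ¬ g • w = w) (fun u hu => by
      by_contra hh
      refine hu ?_
      simp only [Finset.mem_filter, Finset.mem_erase, Finset.mem_compl]
      exact ⟨⟨fun e => hh (e ▸ hgz), fun e => hh (hg u e)⟩, hh⟩)
    have h5 := Finset.card_filter_add_card_filter_not (s := Δᶜ.erase z) (fun w => g • w = w)
    rw [Finset.card_erase_of_mem (by simpa using hz), Finset.card_compl] at h5
    rw [show t + 1 - t = 1 by omega] at h3
    omega
  obtain ⟨U, hU, hUc⟩ := Finset.exists_subset_card_eq (s := Δ) (n := t - 1) (by omega)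
  have hxU : x ∉ U := fun hh => hx (hU hh)
  have hc : (insert x U).card = t := by rw [Finset.card_insert_of_notMem hxU]; omega
  obtain ⟨M, hM, hsub⟩ := h.ex _ hc
  obtain ⟨z, hzM, hz⟩ := Finset.exists_mem_notMem_of_card_lt_card (s := insert x U) (t := M)
    (by rw [hc, h.card M hM]; omega)
  have e2 : insert z (insert x U) = M := Finset.eq_of_subset_of_card_le
    (Finset.insert_subset hzM hsub) (by rw [Finset.card_insert_of_notMem hz, h.card M hM]; omega)
  simp only [Finset.mem_insert, not_or] at hz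
  have hUM : U ⊆ M := (Finset.subset_insert _ _).trans hsub
  have hzΔ : z ∉ Δ := fun hh => hx (h.subset_of_isJC (by omega) hl hln hΔ h2 hM
    (Finset.insert_subset hzM hUM) (Finset.insert_subset hh hU)
    (by rw [Finset.card_insert_of_notMem hz.2]; omega) (hsub (Finset.mem_insert_self _ _)))
  obtain ⟨g, hg, hgx⟩ := hΔ x hx z hzΔ
  have hgΓ : ∀ u ∉ Δ, g • u ∉ Δ := fun u hu => smul_notMem_of_fix (s := (Δ : Set α)) hg hu
  have hgz : g • z = x := by
    have e := h.smul_eq hM hsub hc.ge (g := g) fun u hu => by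
      rcases Finset.mem_insert.1 hu with rfl | hu
      · exact hgx ▸ hzM
      · rw [hg u (hU hu)]; exact hUM hu
    have h3 : g • z ∈ insert z (insert x U) := by rw [e2, ← e]; exact Finset.smul_mem_smul_finset hzM
    simp only [Finset.mem_insert] at h3
    rcases h3 with h3 | h3 | h3
    · exact absurd (smul_left_cancel g (h3.trans hgx.symm)) hz.1
    · exact h3
    · exact absurd (hU h3) (hgΓ z hzΔ)
  have hgg : g * g = 1 := hsr _ (fun u hu => by rw [mul_smul, hg u hu, hg u hu]) x hx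
    (by rw [mul_smul, hgx, hgz])
  have hgf : ∀ u ∉ Δ, g • u ≠ u := fun u hu e => by
    rw [hsr g hg u hu e, one_smul] at hgx
    exact hz.1 hgx.symm
  obtain ⟨Y, hY, hYc, hYg⟩ := exists_invariant_of_invol (h := g) Δᶜ
    (fun u hu => by simpa using hgΓ u (by simpa using hu))
    (fun u _ => by rw [← mul_smul, hgg, one_smul]) (fun u hu => hgf u (by simpa using hu))
    ((t - 2) / 2) (by rw [Finset.card_compl]; omega)
  obtain ⟨v, hv, hvY⟩ := Finset.exists_mem_notMem_of_card_lt_card (s := Y) (t := Δᶜ)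
    (by rw [Finset.card_compl]; omega)
  obtain ⟨R, hR, hRc⟩ := Finset.exists_subset_card_eq (s := Δ) (n := t - 2 - Y.card) (by omega)
  rw [Finset.mem_compl] at hv
  have hYΔ : ∀ u ∈ Y, u ∉ Δ := fun u hu => by simpa using hY hu
  have hdisj : Disjoint Y R := Finset.disjoint_left.2 fun u hu hu' => hYΔ u hu (hR hu')
  have hvYR : v ∉ Y ∪ R := by simp only [Finset.mem_union, not_or]; exact ⟨hvY, fun hh => hv (hR hh)⟩
  have hcYR : (Y ∪ R).card = t - 2 := by rw [Finset.card_union_of_disjoint hdisj]; omega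
  have h3 := h.count (Δ := Δ) (U := insert v (Y ∪ R)) (W := Δᶜ \ insert v Y)
    (by rw [Finset.card_insert_of_notMem hvYR]; omega) (fun w hw => by
      simp only [Finset.mem_sdiff, Finset.mem_compl, Finset.mem_insert, not_or,
        Finset.mem_union] at hw ⊢
      exact ⟨hw.1, hw.2.1, hw.2.2, fun hh => hw.1 (hR hh)⟩)
    (fun M hM hU r hrM hrΔ hrU w hwM hwU hwr => by
      simp only [Finset.mem_sdiff, Finset.mem_compl, Finset.mem_insert, not_or,
        Finset.mem_union] at hrU hwU ⊢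
      refine ⟨fun hwΔ => hgf v hv (hlast g M (insert w (insert r (Y ∪ R))) hM
        (Finset.insert_subset hwM (Finset.insert_subset hrM ((Finset.subset_insert _ _).trans hU)))
        ?_ (fun u hu => ?_) v (hU (Finset.mem_insert_self _ _)) ?_), hwU.1, hwU.2.1⟩
      · rw [Finset.card_insert_of_notMem (by simp [hwr, hwU.2]),
          Finset.card_insert_of_notMem (by simp [hrU.2])]
        omega
      · simp only [Finset.mem_insert, Finset.mem_union] at hu ⊢
        rcases hu with rfl | rfl | hu | hu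
        · exact Or.inl (hg _ hwΔ)
        · exact Or.inr (Or.inl (hg _ hrΔ))
        · exact Or.inr (Or.inr (Or.inl (hYg u hu)))
        · rw [hg u (hR hu)]; exact Or.inr (Or.inr (Or.inr hu))
      · simp only [Finset.mem_insert, not_or]
        exact ⟨Ne.symm hwU.1, Ne.symm hrU.1, hvYR⟩)
  have e4 : Δ \ insert v (Y ∪ R) = Δ \ R := by
    ext u
    simp only [Finset.mem_sdiff, Finset.mem_insert, Finset.mem_union, not_or]
    exact ⟨fun hh => ⟨hh.1, hh.2.2.2⟩, fun hh => ⟨hh.1, fun e => hv (e ▸ hh.1),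
      fun e => hYΔ u e hh.1, hh.2⟩⟩
  rw [e4, Finset.card_sdiff_of_subset hR, Finset.card_sdiff_of_subset
    (Finset.insert_subset (by simpa using hv) hY), Finset.card_insert_of_notMem hvY,
    Finset.card_compl, show t + 1 - t = 1 by omega] at h3
  omega

end Cfsg.Agent.Perm
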