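import Mathlib
import Cfsg.Agent.Perm.PGOval3
import Cfsg.Agent.GT.PGroupChain
import Cfsg.Agent.GW.KStruct

/-!
# Ovals: the homologies in a Sylow 2-subgroup generate a dihedral group
-/

set_option autoImplicit false

namespace Cfsg.Agent.Perm.PG

open Subgroup MulAction Fx Cfsg.Agent.Inv

variable {P L : Type*} {I : P → L → Prop} {n : ℕ} {G : Type*} [Group G] [MulAction G P]
  [MulAction G L] {O : Set P}

theorem fix_all {T : Set P} (hT : T.ncard = 2) {a : G} (ha : ∀ p ∈ T, a • p ∈ T) {p : P}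
    (hp : p ∈ T) (e : a • p = p) : ∀ q ∈ T, a • q = q := by
  obtain ⟨x, y, hxy, rfl⟩ := Set.ncard_eq_two.1 hT
  intro q hq
  by_contra hne
  have h1 : a • q ≠ p := fun e' => hne (by
    rw [← e, smul_left_cancel_iff] at e'; rw [e', e])
  have h2 : q ≠ p := by rintro rfl; exact hne e
  rcases hp with rfl | rfl <;> rcases hq with rfl | rfl <;> rcases ha _ (by simp : q ∈ _) with
    e | e <;> simp_all

theorem fix_mul {T : Set P} (hT : T.ncard = 2) {a b : G} (ha : ∀ p ∈ T, a • p ∈ T)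
    (hb : ∀ p ∈ T, b • p ∈ T) {p : P} (hp : p ∈ T) (h1 : a • p ≠ p) (h2 : b • p ≠ p) :
    (a * b) • p = p := by
  have h3 : a • b • p ≠ b • p := fun e => h1 (fix_all hT ha (hb p hp) e p hp)
  have h4 := hb p hp
  have h5 := ha _ h4
  obtain ⟨x, y, hxy, rfl⟩ := Set.ncard_eq_two.1 hT
  rw [mul_smul]
  rcases hp with rfl | rfl <;> rcases h4 with e | e <;> rcases h5 with e' | e' <;> simp_all

theorem exists_invol [Finite G] {S : Subgroup G} (hS : IsPGroup 2 S) {x : G} (hx : x ∈ S)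
    (h1 : x ≠ 1) : ∃ k : ℕ, x ^ k * x ^ k = 1 ∧ x ^ k ≠ 1 := by
  obtain ⟨k, hk⟩ := exists_orderOf_eq_pow_of_mem hS hx
  obtain ⟨j, h2, h3⟩ := GT.PG.exists_pow_notMem_pow_mem (p := 2) (N := ⊥) (x := x) h1
    ⟨k, by rw [← hk, pow_orderOf_eq_one]; exact one_mem _⟩
  exact ⟨_, by rw [← sq]; exact h3, h2⟩

namespace Ov

variable (h : Ov G I n O) [Finite P] [Finite L] [Finite G]
include h

theorem exists_central {S : Subgroup G} (hS : IsPGroup 2 S) {t : G} (ht : IsH I t) (htS : t ∈ S) :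
    ∃ z ∈ S, IsH I z ∧ ∀ s ∈ S, Commute s z := by
  obtain ⟨z, ⟨h1, h2⟩, h3⟩ := Set.Finite.exists_maximalFor
    (fun z : G => Nat.card ↥(S ⊓ centralizer {z})) {z | z ∈ S ∧ IsH I z} (Set.toFinite _)
    ⟨t, htS, ht⟩
  refine ⟨z, h1, h2, fun s hs => ?_⟩
  by_contra hne
  obtain ⟨x, hx, hx1, hx2⟩ := exists_mem_normalizer_of_lt hS (D := S ⊓ centralizer {z}) inf_le_left
    fun hh => hne (mem_centralizer_singleton_iff.1 (hh hs).2)
  obtain ⟨k, hk⟩ := exists_orderOf_eq_pow_of_mem hS hx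
  obtain ⟨j, h4, h5⟩ := GT.PG.exists_pow_notMem_pow_mem (p := 2) hx1
    ⟨k, by rw [← hk, pow_orderOf_eq_one]; exact one_mem _⟩
  have h6 := pow_mem hx2 (2 ^ j)
  have h7 := pow_mem hx (2 ^ j)
  generalize x ^ 2 ^ j = u at h4 h5 h6 h7
  have c1 : ∀ g ∈ S ⊓ centralizer {z}, Commute g (u * z * u⁻¹) := fun g hg => by
    have := mem_centralizer_singleton_iff.1 (GT.Tr.inv_conj_mem_of_mem_normalizer h6 hg).2
    rw [Commute, SemiconjBy, show g = u * (u⁻¹ * g * u) * u⁻¹ by group, conj_mul, conj_mul, this]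
  have c2 := c1 z ⟨h1, mem_centralizer_singleton_iff.2 rfl⟩
  have c3 := mem_centralizer_singleton_iff.1 h5.2
  have h8 : S ⊓ centralizer {z} < S ⊓ centralizer {z * (u * z * u⁻¹)} := by
    refine lt_of_le_of_ne (fun g hg => ⟨hg.1, mem_centralizer_singleton_iff.2
      (Commute.mul_right (mem_centralizer_singleton_iff.1 hg.2) (c1 g hg))⟩) fun e => h4 ?_
    rw [e]
    refine ⟨h7, mem_centralizer_singleton_iff.2 ?_⟩
    rw [← mul_inv_eq_iff_eq_mul, ← conj_mul, c2.eq, show u * (u * z * u⁻¹) * u⁻¹ =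
      u ^ 2 * z * (u ^ 2)⁻¹ by rw [sq]; group, c3, mul_inv_cancel_right]
  have h9 := GT.Tr.card_lt_of_lt h8
  refine h9.not_ge (h3 ⟨S.mul_mem h1 (S.mul_mem (S.mul_mem h7 h1) (S.inv_mem h7)),
    h.isH_mul h2 (h2.conj h.toAct u) (fun e => h4 ⟨h7, mem_centralizer_singleton_iff.2 ?_⟩) c2⟩
    h9.le)
  exact mul_inv_eq_iff_eq_mul.1 e.symm

theorem exists_pair (hiso : ∀ t : G, ¬ IsIsolatedInvolution t) (S : Sylow 2 G)
    (hS : (S : Subgroup G) ≠ ⊥) (h4 : ∀ u v : G, GW.Pair u v → IsH I u ∨ IsH I v ∨ IsH I (u * v)) :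
    ∃ z ∈ (S : Subgroup G), ∃ y ∈ (S : Subgroup G), IsH I z ∧ IsH I y ∧ y ≠ z ∧
      ∀ s ∈ (S : Subgroup G), Commute s z := by
  have key : ∀ z ∈ (S : Subgroup G), orderOf z = 2 → ∃ g : G, g * z * g⁻¹ ∈ (S : Subgroup G) ∧
      g * z * g⁻¹ ≠ z := fun z hz h2 => by
    by_contra hh
    push Not at hh
    exact hiso z (IsIsolatedInvolution.of_sylow S h2 hz hh)
  obtain ⟨t, htS, ht⟩ : ∃ t ∈ (S : Subgroup G), IsH I t := by
    obtain ⟨z, hz, h2, hc⟩ := exists_central_of_isPGroup S.isPGroup' hS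
    obtain ⟨g, h1, h3⟩ := key z hz h2
    rcases h4 _ z ⟨by rwa [← MulAut.conj_apply, MulEquiv.orderOf_eq], h2, h3, hc _ h1⟩ with e | e | e
    exacts [⟨_, h1, e⟩, ⟨_, hz, e⟩, ⟨_, mul_mem h1 hz, e⟩]
  obtain ⟨z, hz, h1, h2⟩ := h.exists_central S.isPGroup' ht htS
  obtain ⟨g, h3, h5⟩ := key z hz (iso_orderOf_eq_two h1.sq h1.ne)
  exact ⟨z, hz, _, h3, h1, h1.conj h.toAct g, h5, h2⟩

variable (par : ∀ t : G, t * t = 1 → (OF O t).ncard % 4 = 2)
include par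

theorem OF_two {t : G} (ht : IsH I t) : (OF O t).ncard = 2 := by
  have := h.OF_le ht
  have := par t ht.sq
  omega

theorem OF_big {t : G} (h2 : t * t = 1) (h1 : t ≠ 1) (ht : ¬ IsH I t) : 2 < (OF O t).ncard := by
  obtain ⟨m, -, hm⟩ := (h.isH_or h2 h1).resolve_left ht
  obtain ⟨p, hp⟩ := Set.nonempty_of_ncard_ne_zero (s := OF O t) (by have := par t h2; omega)
  have := hm.two
  rw [h.OF_card hm hp]
  omega

theorem isH_four {u v : G} (hp : GW.Pair u v) : IsH I u ∨ IsH I v ∨ IsH I (u * v) := by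
  by_contra hh
  push Not at hh
  exact h.no_four hp.sq_left hp.sq_right hp.comm hp.ne
    (h.OF_big par hp.sq_left hp.ne_one_left hh.1) (h.OF_big par hp.sq_right hp.ne_one_right hh.2.1)
    (h.OF_big par hp.mul.sq_right hp.mul.ne_one_right hh.2.2) hp.ne_one_left hp.ne_one_right

end Ov

/-- A 2-subgroup with a central homology `z` and another homology `y`. -/
structure Cf (I : P → L → Prop) (n : ℕ) (O : Set P) (S : Subgroup G) (z y : G) : Prop
    extends Ov G I n O where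
  par : ∀ t : G, t * t = 1 → (OF O t).ncard % 4 = 2
  pg : IsPGroup 2 S
  hz : IsH I z
  zS : z ∈ S
  zc : ∀ s ∈ S, Commute s z
  hy : IsH I y
  yS : y ∈ S
  ne : y ≠ z

/-- The homologies of `S` other than `z`. -/
def HH (I : P → L → Prop) (S : Subgroup G) (z a : G) : Prop := a ∈ S ∧ IsH I a ∧ a ≠ z

namespace Cf

variable {S : Subgroup G} {z y a b x r s : G} (h : Cf I n O S z y)
include h

theorem hhy : HH I S z y := ⟨h.yS, h.hy, h.ne⟩

theorem hh_conj (hs : s ∈ S) (ha : HH I S z a) : HH I S z (s * a * s⁻¹) :=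
  ⟨S.mul_mem (S.mul_mem hs ha.1) (S.inv_mem hs), ha.2.1.conj h.toAct s, fun e => ha.2.2 (by
    rw [mul_inv_eq_iff_eq_mul, ← (h.zc s hs).eq, mul_left_cancel_iff] at e; exact e)⟩

omit h in
theorem hh_mem (ha : HH I S z a) (hx : HH I S z (a * x)) : x ∈ S := by
  simpa using S.mul_mem (S.inv_mem ha.1) hx.1

omit h in
theorem hh_inv (ha : HH I S z a) (hx : HH I S z (a * x)) : a * x * a⁻¹ = x⁻¹ := by
  have := iso_inverts_mul ha.2.1.sq hx.2.1.sq
  rwa [← mul_assoc a a x, ha.2.1.sq, one_mul] at this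

omit h in
theorem hh_mul (ha : HH I S z a) (hb : HH I S z b) : HH I S z (a * (a * b)) := by
  rwa [← mul_assoc, ha.2.1.sq, one_mul]

theorem hh_pow (ha : HH I S z a) (hx : HH I S z (a * x)) (k : ℕ) : HH I S z (a * x ^ k) := by
  have hS := hh_mem ha hx
  obtain ⟨j, rfl | rfl⟩ := Nat.even_or_odd' k
  · simpa [iso_conj_even (hh_inv ha hx)] using h.hh_conj (S.inv_mem (S.pow_mem hS j)) ha
  · simpa [iso_conj_odd (hh_inv ha hx)] using h.hh_conj (S.inv_mem (S.pow_mem hS j)) hx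

variable [Finite P] [Finite L] [Finite G]

theorem hh_z (ha : HH I S z a) : HH I S z (a * z) :=
  ⟨S.mul_mem ha.1 h.zS, h.isH_mul ha.2.1 h.hz ha.2.2 (h.zc a ha.1), by simpa using ha.2.1.ne⟩

theorem mv (ha : HH I S z a) {p : P} (hp : p ∈ OF O z) : a • p ≠ p := fun e =>
  h.not_both ha.2.1 h.hz ha.2.2 (h.zc a ha.1) ⟨hp.1, e⟩ hp

theorem mv' (ha : HH I S z a) {p : P} (hp : p ∈ OF O a) : z • p ≠ p := fun e =>
  h.mv ha ⟨hp.1, e⟩ hp.2

theorem exists_OF (ha : IsH I a) : ∃ p, p ∈ OF O a :=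
  Set.nonempty_of_ncard_ne_zero (s := OF O a) (by rw [h.OF_two h.par ha]; omega)

theorem eq_z (ha : HH I S z a) (hx : HH I S z (a * x)) {u : G} (hu : u ∈ zpowers x)
    (h2 : u * u = 1) (h1 : u ≠ 1) : u = z := by
  obtain ⟨k, rfl⟩ := (mem_powers_iff_mem_zpowers.2 hu)
  have h3 := h.hh_pow ha hx k
  have h4 := hh_inv ha h3
  rw [inv_eq_of_mul_eq_one_right h2, mul_inv_eq_iff_eq_mul] at h4
  have h5 := h.isH_mul ha.2.1 h3.2.1 (by simpa using h1) ((Commute.refl a).mul_right h4)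
  obtain ⟨p, hp⟩ := h.exists_OF h.hz
  have h6 := fix_mul (h.OF_two h.par h.hz) (fun _ => h.smul_OF' (h.zc _ ha.1))
    (fun _ => h.smul_OF' (h.zc _ h3.1)) hp (h.mv ha hp) (h.mv h3 hp)
  rw [← mul_assoc, ha.2.1.sq, one_mul] at h5 h6
  by_contra hne
  exact h.mv ⟨hh_mem ha h3, h5, hne⟩ hp h6

theorem sq_ne (hb : HH I S z b) (hc : Commute x b) (k : ℕ) : (x * x) ^ k ≠ z := fun e => by
  obtain ⟨p, hp⟩ := h.exists_OF hb.2.1
  refine h.mv' hb hp (e ▸ (stabilizer G p).pow_mem ?_ k)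
  rw [mem_stabilizer_iff, mul_smul]
  exact h.sq_fix hb.2.1 hc hp

theorem eq_one_or (ha : HH I S z a) (hx : HH I S z (a * x)) (hb : HH I S z b)
    (hc : Commute x b) : x = 1 ∨ x = z := by
  refine or_iff_not_imp_left.2 (h.eq_z ha hx (mem_zpowers x) ?_)
  by_contra hne
  obtain ⟨k, h1, h2⟩ := exists_invol h.pg (S.mul_mem (hh_mem ha hx) (hh_mem ha hx)) hne
  exact h.sq_ne hb hc k (h.eq_z ha hx (pow_mem (mul_mem (mem_zpowers x) (mem_zpowers x)) k) h1 h2)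

theorem z_mem (ha : HH I S z a) (hx : HH I S z (a * x)) (h1 : x ≠ 1) : z ∈ zpowers x := by
  obtain ⟨k, h1, h2⟩ := exists_invol h.pg (hh_mem ha hx) h1
  exact h.eq_z ha hx (pow_mem (mem_zpowers x) k) h1 h2 ▸ pow_mem (mem_zpowers x) k

theorem mem_zp (i : ℕ) : ∀ r r' : G, HH I S z (y * r) → HH I S z (y * r') → orderOf r' = 2 ^ i →
    2 ^ i ∣ orderOf r → r' ∈ zpowers r := by
  induction i with
  | zero => intro r r' _ _ e _; rw [orderOf_eq_one_iff.1 e]; exact one_mem _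
  | succ i ih =>
    intro r r' h1 h2 e hd
    have o1 := orderOf_pow_orderOf_div (orderOf_pos r).ne' hd
    have h3 := h.hh_pow h.hhy h1 (orderOf r / 2 ^ (i + 1))
    refine (zpowers_le.2 (pow_mem (mem_zpowers r) (orderOf r / 2 ^ (i + 1)))) ?_
    generalize r ^ (orderOf r / 2 ^ (i + 1)) = u at o1 h3
    have o2 : ∀ v : G, orderOf v = 2 ^ (i + 1) → orderOf (v ^ 2) = 2 ^ i := fun v hv => by
      simpa using GT.PG.orderOf_pow_prime_pow (p := 2) (k := 1) two_pos hv (by omega)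
    obtain ⟨k, hk⟩ := mem_powers_iff_mem_zpowers.2
      (ih _ _ (h.hh_pow h.hhy h3 2) (h.hh_pow h.hhy h2 2) (o2 _ e) (o2 _ o1).symm.dvd)
    have h4 := h.hh_pow h.hhy h3 k
    have h5 : (u ^ k) ^ 2 = r' ^ 2 := by rw [← hk, ← pow_mul, mul_comm, pow_mul]
    have h6 := pow_mem (mem_zpowers u) k
    generalize u ^ k = v at h4 h5 h6
    have a1 := iso_conj_even (hh_inv h.hhy h4) 1
    have a2 := iso_conj_even (hh_inv h.hhy h2) 1
    simp only [pow_one, mul_one] at a1 a2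
    have a3 : Commute (r' * v⁻¹) y := by
      rw [Commute, SemiconjBy, show r' * v⁻¹ * y = r' * (v⁻¹ * y * v) * v⁻¹ by group, a1, h5, ← a2]
      group
    have a4 := h.hh_conj h.yS h2
    have a5 := hh_mul a4 (h.hh_conj h.yS h4)
    have a6 : y * (y * r') * y⁻¹ * (y * (y * v) * y⁻¹) = r' * v⁻¹ := by
      rw [← hh_inv h.hhy h4, ← mul_assoc y y, ← mul_assoc y y, h.hy.sq,
        inv_eq_of_mul_eq_one_right h.hy.sq]
      group
    rw [a6] at a5
    have a7 : r' * v⁻¹ ∈ zpowers u := by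
      rcases h.eq_one_or a4 a5 h.hhy a3 with e | e
      · exact e ▸ one_mem _
      · refine e ▸ h.z_mem h.hhy h3 ?_
        rintro rfl
        rw [orderOf_one] at o1
        exact (Nat.one_lt_two_pow (by omega)).ne o1
    simpa using mul_mem a7 h6

theorem exists_rho : ∃ ρ : G, ∀ r, HH I S z (y * r) ↔ r ∈ zpowers ρ := by
  obtain ⟨ρ, h1, h2⟩ := Set.Finite.exists_maximalFor (fun r : G => orderOf r)
    {r | HH I S z (y * r)} (Set.toFinite _) ⟨1, by simpa using h.hhy⟩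
  refine ⟨ρ, fun r => ⟨fun hr => ?_, fun hr => ?_⟩⟩
  · obtain ⟨i, hi⟩ := exists_orderOf_eq_pow_of_mem h.pg (hh_mem h.hhy hr)
    obtain ⟨j, hj⟩ := exists_orderOf_eq_pow_of_mem h.pg (hh_mem h.hhy h1)
    refine h.mem_zp i ρ r h1 hr hi (hj ▸ pow_dvd_pow 2 ?_)
    rw [← Nat.pow_le_pow_iff_right one_lt_two, ← hi, ← hj]
    exact (le_total _ _).elim (h2 hr) id
  · obtain ⟨k, rfl⟩ := mem_powers_iff_mem_zpowers.2 hr
    exact h.hh_pow h.hhy h1 k

end Cf

end Cfsg.Agent.Perm.PG
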