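import Mathlib
import Cfsg.Agent.Perm.PGOvalS

/-!
# Ovals: the planar part of the centralizer of a four-group
-/

set_option autoImplicit false

namespace Cfsg.Agent.Perm.PG

open Subgroup MulAction Fx Cfsg.Agent.Inv

variable {P L : Type*} {I : P → L → Prop} {n : ℕ} {G : Type*} [Group G] [MulAction G P]
  [MulAction G L] {O : Set P}

/-- The elements of `S` fixing the fixed points of `y` and `y z` on the oval. -/
def Ps (O : Set P) (S : Subgroup G) (z y : G) : Subgroup G :=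
  S ⊓ fixingSubgroup G (OF O y ∪ OF O (y * z))

theorem mem_Ps {S : Subgroup G} {z y g : G} :
    g ∈ Ps O S z y ↔ g ∈ S ∧ ∀ p ∈ OF O y ∪ OF O (y * z), g • p = p := by
  rw [Ps, mem_inf, mem_fixingSubgroup_iff]

namespace Cf

variable {S : Subgroup G} {z y a b x r s g : G} (h : Cf I n O S z y) [Finite P] [Finite L]
  [Finite G]
include h

theorem disj : Disjoint (OF O y) (OF O (y * z)) := Set.disjoint_left.2 fun _ h1 h2 =>
  h.not_both h.hy (h.hh_z h.hhy).2.1 (by simpa using h.hz.ne)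
    ((Commute.refl y).mul_right (h.zc y h.yS)) h1 h2

theorem F_card : (OF O y ∪ OF O (y * z)).ncard = 4 := by
  rw [Set.ncard_union_eq h.disj, h.OF_two h.par h.hy, h.OF_two h.par (h.hh_z h.hhy).2.1]

omit h [Finite P] [Finite L] [Finite G] in
theorem F_sub : OF O y ∪ OF O (y * z) ⊆ O := by rintro p (hp | hp) <;> exact hp.1

theorem ps_comm (hg : g ∈ Ps O S z y) (ha : HH I S z a)
    (e : a * y * a⁻¹ = y ∨ a * y * a⁻¹ = y * z) : Commute g a := by
  refine h.commute_of_fix ha.2.1 F_sub (by rw [h.F_card]; omega) ?_ (mem_Ps.1 hg).2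
  have h1 : a * (y * z) * a⁻¹ = a * y * a⁻¹ * z := by
    rw [← conj_mul, (h.zc a ha.1).eq, mul_inv_cancel_right]
  rintro p (hp | hp)
  · have := h.smul_OF a hp
    rcases e with e | e <;> rw [e] at this
    exacts [Or.inl this, Or.inr this]
  · have := h.smul_OF a hp
    rcases e with e | e <;> rw [h1, e] at this
    · exact Or.inr this
    · rw [mul_assoc, h.hz.sq, mul_one] at this
      exact Or.inl this

theorem ps_y (hg : g ∈ Ps O S z y) : Commute g y := h.ps_comm hg h.hhy (by simp)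

theorem ps_cyc : IsCyclic (Ps O S z y) :=
  h.isCyclic (h.pg.to_le inf_le_left) F_sub (by rw [h.F_card]; omega) fun _ hk => (mem_Ps.1 hk).2

theorem ps_invol (ha : a ∈ Ps O S z y) (hb : b ∈ Ps O S z y) (a2 : a * a = 1) (a1 : a ≠ 1)
    (b2 : b * b = 1) (b1 : b ≠ 1) : a = b :=
  h.invol_eq (h.pg.to_le inf_le_left) F_sub (by rw [h.F_card]; omega)
    (fun _ hk => (mem_Ps.1 hk).2) ha hb (iso_orderOf_eq_two a2 a1) (iso_orderOf_eq_two b2 b1)

theorem dec (hg : g ∈ S) (hc : Commute g y) :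
    ∃ v, (v = 1 ∨ v = z ∨ v = y ∨ v = y * z) ∧ v * g ∈ Ps O S z y := by
  have H2 := h.hh_z h.hhy
  obtain ⟨p, hp⟩ := h.exists_OF h.hy
  obtain ⟨q, hq⟩ := h.exists_OF H2.2.1
  have cy : Commute y z := h.zc y h.yS
  have c2 : Commute g (y * z) := hc.mul_right (h.zc g hg)
  have key : ∀ v ∈ S, Commute v y → (v * g) • p = p → (v * g) • q = q → v * g ∈ Ps O S z y :=
    fun v hv c e1 e2 => mem_Ps.2 ⟨S.mul_mem hv hg, by
      rintro w (hw | hw)
      · exact fix_all (h.OF_two h.par h.hy) (fun _ => h.smul_OF' (c.mul_left hc)) hp e1 w hw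
      · exact fix_all (h.OF_two h.par H2.2.1) (fun _ => h.smul_OF'
          ((c.mul_right (h.zc v hv)).mul_left c2)) hq e2 w hw⟩
  have f1 : ∀ v ∈ S, Commute v y → v • p ≠ p → g • p ≠ p → (v * g) • p = p := fun v _ c =>
    fix_mul (h.OF_two h.par h.hy) (fun _ => h.smul_OF' c) (fun _ => h.smul_OF' hc) hp
  have f2 : ∀ v ∈ S, Commute v y → v • q ≠ q → g • q ≠ q → (v * g) • q = q := fun v hv c =>
    fix_mul (h.OF_two h.par H2.2.1) (fun _ => h.smul_OF' (c.mul_right (h.zc v hv)))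
      (fun _ => h.smul_OF' c2) hq
  have c3 : Commute (y * z) y := (Commute.refl y).mul_left cy.symm
  by_cases e1 : g • p = p <;> by_cases e2 : g • q = q
  · exact ⟨1, Or.inl rfl, key 1 S.one_mem (Commute.one_left y) (by simpa using e1)
      (by simpa using e2)⟩
  · exact ⟨y, by simp, key y h.yS (Commute.refl y) (by rw [mul_smul, e1, hp.2]) (f2 y h.yS
      (Commute.refl y) (fun e => Set.disjoint_left.1 h.disj ⟨hq.1, e⟩ hq) e2)⟩
  · exact ⟨y * z, by simp, key _ H2.1 c3 (f1 _ H2.1 c3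
      (fun e => Set.disjoint_left.1 h.disj hp ⟨hp.1, e⟩) e1) (by rw [mul_smul, e2, hq.2])⟩
  · exact ⟨z, by simp, key z h.zS cy.symm (f1 z h.zS cy.symm (h.mv' h.hhy hp) e1)
      (f2 z h.zS cy.symm (h.mv' H2 hq) e2)⟩

end Cf

/-- The configuration with a Baer involution `α`. -/
structure Cg (I : P → L → Prop) (n : ℕ) (O : Set P) (S : Subgroup G) (z y ρ α : G) : Prop
    extends Cf I n O S z y where
  hρ : ∀ r, HH I S z (y * r) ↔ r ∈ zpowers ρ
  hα : α ∈ Ps O S z y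
  α2 : α * α = 1
  α1 : α ≠ 1

namespace Cg

variable {S : Subgroup G} {z y ρ α a b x r s g f : G} (h : Cg I n O S z y ρ α)
include h

theorem αS : α ∈ S := (mem_Ps.1 h.hα).1

theorem RS (hr : r ∈ zpowers ρ) : r ∈ S := Cf.hh_mem h.hhy ((h.hρ r).2 hr)

theorem y_inv (hr : r ∈ zpowers ρ) : y * r * y⁻¹ = r⁻¹ := Cf.hh_inv h.hhy ((h.hρ r).2 hr)

theorem hh_eq (ha : HH I S z a) : ∃ r ∈ zpowers ρ, a = y * r :=
  ⟨y * a, (h.hρ _).1 (Cf.hh_mul h.hhy ha), by rw [← mul_assoc, h.hy.sq, one_mul]⟩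

theorem conj_R (hs : s ∈ S) (hr : r ∈ zpowers ρ) : s * r * s⁻¹ ∈ zpowers ρ := by
  obtain ⟨r1, h1, e1⟩ := h.hh_eq (h.hh_conj hs h.hhy)
  obtain ⟨r2, h2, e2⟩ := h.hh_eq (h.hh_conj hs ((h.hρ r).2 hr))
  rw [← conj_mul, e1, mul_assoc, mul_left_cancel_iff, ← eq_inv_mul_iff_mul_eq] at e2
  exact e2 ▸ mul_mem (inv_mem h1) h2

omit h in
theorem R_comm (ha : a ∈ zpowers ρ) (hb : b ∈ zpowers ρ) : Commute a b := by
  obtain ⟨i, rfl⟩ := ha
  obtain ⟨j, rfl⟩ := hb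
  exact Commute.zpow_zpow_self ρ i j

variable [Finite P] [Finite L] [Finite G]

theorem zR : z ∈ zpowers ρ := (h.hρ z).1 (h.hh_z h.hhy)

theorem R_invol (hr : r ∈ zpowers ρ) (e : r * r = 1) : r = 1 ∨ r = z :=
  or_iff_not_imp_left.2 (h.eq_z h.hhy ((h.hρ r).2 hr) (mem_zpowers r) e)

theorem exists_root (hr : r ∈ zpowers ρ) (e : r * r ≠ 1) : ∃ k : ℕ, r ^ k * r ^ k = z := by
  obtain ⟨k, h1, h2⟩ := exists_invol h.pg (h.RS (mul_mem hr hr)) e
  exact ⟨k, by rw [← (Commute.refl r).mul_pow]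
               exact (h.R_invol (pow_mem (mul_mem hr hr) k) h1).resolve_left h2⟩

theorem exists_exp (hs : s ∈ S) : ∃ a : ℤ, ∀ r ∈ zpowers ρ, s * r * s⁻¹ = r ^ (2 * a + 1) := by
  obtain ⟨c, hc⟩ := h.conj_R hs (mem_zpowers ρ)
  have h1 : ∀ r ∈ zpowers ρ, s * r * s⁻¹ = r ^ c := by
    rintro _ ⟨i, rfl⟩
    simp only at hc ⊢
    rw [← conj_zpow, ← hc, ← zpow_mul, ← zpow_mul, mul_comm]
  obtain ⟨a, rfl | rfl⟩ := Int.even_or_odd' c
  · have := h1 z h.zR
    rw [(h.zc s hs).eq, mul_inv_cancel_right, zpow_mul, zpow_two, h.hz.sq, one_zpow] at this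
    exact (h.hz.ne this).elim
  · exact ⟨a, h1⟩

theorem not_isH : ¬ IsH I α := fun hH => by
  have h1 := Set.ncard_le_ncard (s := OF O y ∪ OF O (y * z)) (t := OF O α)
    fun p hp => ⟨Cf.F_sub hp, (mem_Ps.1 h.hα).2 p hp⟩
  have := h.OF_le hH
  rw [h.F_card] at h1
  omega

theorem fix_z {p : P} (hp : p ∈ OF O z) : α • p = p := by
  by_contra hne
  have hpair : GW.Pair y z := ⟨iso_orderOf_eq_two h.hy.sq h.hy.ne,
    iso_orderOf_eq_two h.hz.sq h.hz.ne, h.ne, h.zc y h.yS⟩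
  have c1 := h.ps_y h.hα
  have c2 := h.zc α h.αS
  have h1 := card_dvd_of_semiregular (GW.four y z) (OF O α \ (OF O y ∪ OF O (y * z)))
    (fun v hv q hq => by
      have c : Commute v α ∧ Commute v y ∧ Commute v z := by
        rcases hpair.mem_four.1 hv with rfl | rfl | rfl | rfl
        exacts [⟨Commute.one_left _, Commute.one_left _, Commute.one_left _⟩,
          ⟨c1.symm, Commute.refl _, hpair.comm⟩, ⟨c2.symm, hpair.comm.symm, Commute.refl _⟩,
          ⟨(c1.mul_right c2).symm, (Commute.refl y).mul_left hpair.comm.symm,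
            hpair.comm.mul_left (Commute.refl z)⟩]
      refine ⟨h.smul_OF' c.1 hq.1, fun hh => hq.2 (hh.imp (fun e => ?_) fun e => ?_)⟩
      · simpa using h.smul_OF' c.2.1.inv_left e
      · simpa using h.smul_OF' (c.2.1.mul_right c.2.2).inv_left e)
    fun v hv q hq e => by
      rcases hpair.mem_four.1 hv with rfl | rfl | rfl | rfl
      · rfl
      · exact (hq.2 (Or.inl ⟨hq.1.1, e⟩)).elim
      · exact (hne (fix_all (h.OF_two h.par h.hz) (fun _ => h.smul_OF' c2) ⟨hq.1.1, e⟩ hq.1.2 p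
          hp)).elim
      · exact (hq.2 (Or.inr ⟨hq.1.1, e⟩)).elim
  have h2 := Set.ncard_sdiff_add_ncard_of_subset (s := OF O y ∪ OF O (y * z)) (t := OF O α)
    fun p hp => ⟨Cf.F_sub hp, (mem_Ps.1 h.hα).2 p hp⟩
  have := h.par α h.α2
  rw [GW.K1.card_four hpair, Nat.card_coe_set_eq] at h1
  rw [h.F_card] at h2
  omega

theorem ps_f (hg : g ∈ Ps O S z y) (hf : f ∈ zpowers ρ) (e : f * f = z) : Commute g f := by
  have h1 := h.ps_comm hg ((h.hρ f).2 hf) (Or.inr (by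
    rw [← e, mul_inv_rev, ← mul_assoc, ← h.y_inv hf, ← mul_assoc, ← mul_assoc, mul_assoc _ y y,
      h.hy.sq, mul_one, mul_assoc _ y⁻¹, inv_eq_of_mul_eq_one_right h.hy.sq, h.hy.sq, mul_one,
      mul_assoc]))
  simpa using (h.ps_y hg).inv_right.mul_right h1

theorem α_R (hr : r ∈ zpowers ρ) : Commute α r := by
  obtain ⟨i, rfl⟩ := hr
  refine Commute.zpow_right ?_ i
  have hρ := mem_zpowers ρ
  have h1 := mul_mem (inv_mem hρ) (h.conj_R h.αS hρ)
  have ai := inv_eq_of_mul_eq_one_right h.α2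
  have h2 : α * (ρ⁻¹ * (α * ρ * α⁻¹)) * α⁻¹ = (ρ⁻¹ * (α * ρ * α⁻¹))⁻¹ := by
    rw [← conj_mul, show α * (α * ρ * α⁻¹) * α⁻¹ = α * α * ρ * (α * α)⁻¹ by group, h.α2]
    group
  have h3 : ρ⁻¹ * (α * ρ * α⁻¹) * (ρ⁻¹ * (α * ρ * α⁻¹)) = 1 := by
    by_contra hne
    obtain ⟨k, hk⟩ := h.exists_root h1 hne
    have h4 := iso_inverts_pow h2 k
    rw [(h.ps_f h.hα (pow_mem h1 k) hk).eq, mul_inv_cancel_right, eq_inv_iff_mul_eq_one, hk] at h4
    exact h.hz.ne h4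
  rcases h.R_invol h1 h3 with e | e
  · rw [inv_mul_eq_one, eq_mul_inv_iff_mul_eq] at e
    exact e.symm
  by_contra hne
  obtain ⟨k, hk⟩ := h.exists_root hρ fun e' => hne (by
    rcases h.R_invol hρ e' with e | e <;> rw [e]
    exacts [Commute.one_right _, h.zc α h.αS])
  have hf := pow_mem hρ k
  generalize ρ ^ k = f at hk hf
  have c1 := h.ps_f h.hα hf hk
  refine h.sq_ne ((h.hρ ρ).2 hρ) (x := α * f) ?_ 1 (by
    rw [pow_one, c1.symm.mul_mul_mul_comm, h.α2, one_mul, hk])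
  rw [inv_mul_eq_iff_eq_mul, mul_inv_eq_iff_eq_mul] at e
  have e2 : f * y = y * f * z := by
    have h5 := h.y_inv (inv_mem hf)
    rw [inv_inv, mul_inv_eq_iff_eq_mul] at h5
    rw [← h5, ← inv_eq_of_mul_eq_one_right h.hz.sq, ← hk]
    group
  rw [Commute, SemiconjBy, mul_assoc, ← mul_assoc f, e2, mul_assoc, mul_assoc, ← mul_assoc α y,
    (h.ps_y h.hα).eq, (h.zc ρ (h.RS hρ)).symm.eq, ← mul_assoc f, (R_comm hf hρ).eq, mul_assoc y α,
    ← mul_assoc α, ← mul_assoc α, e, mul_assoc y, mul_assoc, mul_assoc, mul_assoc, ←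
      (h.zc f (h.RS hf)).symm.eq, ← mul_assoc α, (h.zc α h.αS).eq, ← mul_assoc z, ← mul_assoc z,
    h.hz.sq, one_mul]

theorem α_hh (ha : HH I S z a) : Commute α a := by
  obtain ⟨r, hr, rfl⟩ := h.hh_eq ha
  exact (h.ps_y h.hα).mul_right (h.α_R hr)

theorem invol_cases (hb : b ∈ S) (hc : Commute b y) (b2 : b * b = 1) (b1 : b ≠ 1)
    (hH : ¬ IsH I b) : b = α ∨ b = z * α ∨ b = y * α ∨ b = y * z * α := by
  obtain ⟨v, hv, h1⟩ := h.dec hb hc
  have h2 : v * v = 1 ∧ Commute v b ∧ (v = 1 ∨ IsH I v) := by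
    rcases hv with rfl | rfl | rfl | rfl
    exacts [⟨one_mul _, Commute.one_left _, Or.inl rfl⟩, ⟨h.hz.sq, (h.zc b hb).symm, Or.inr h.hz⟩,
      ⟨h.hy.sq, hc.symm, Or.inr h.hy⟩, ⟨(h.hh_z h.hhy).2.1.sq, (hc.mul_right (h.zc b hb)).symm,
        Or.inr (h.hh_z h.hhy).2.1⟩]
  have h3 := h.ps_invol h1 h.hα (by rw [h2.2.1.symm.mul_mul_mul_comm, h2.1, b2, one_mul])
    (fun e => by
      rw [eq_inv_of_mul_eq_one_right e, inv_eq_of_mul_eq_one_right h2.1] at b1 hH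
      exact h2.2.2.elim b1 hH) h.α2 h.α1
  rw [← eq_inv_mul_iff_mul_eq, inv_eq_of_mul_eq_one_right h2.1] at h3
  rcases hv with rfl | rfl | rfl | rfl <;> simp [h3]

theorem conj_α (hs : s ∈ S) : s * α * s⁻¹ = α ∨ s * α * s⁻¹ = z * α := by
  obtain ⟨p, hp⟩ := h.exists_OF h.hz
  have h1 : (s * α * s⁻¹) • p = p := by
    rw [mul_smul, mul_smul, h.fix_z (h.smul_OF' (h.zc s hs).inv_left hp), smul_inv_smul]
  have h2 := (h.α_hh (h.hh_conj (S.inv_mem hs) h.hhy)).conj s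
  rcases h.invol_cases (S.mul_mem (S.mul_mem hs h.αS) (S.inv_mem hs)) (by simpa [mul_assoc] using h2)
    (iso_conj_mul_self h.α2 s) (by simpa using h.α1)
    (fun hH => h.not_isH (by simpa [mul_assoc] using hH.conj h.toAct s⁻¹)) with e | e | e | e
  · exact Or.inl e
  · exact Or.inr e
  · rw [e, mul_smul, h.fix_z hp] at h1
    exact (h.mv h.hhy hp h1).elim
  · rw [e, mul_smul, h.fix_z hp] at h1
    exact (h.mv (h.hh_z h.hhy) hp h1).elim

end Cg

end Cfsg.Agent.Perm.PG
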