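import Mathlib
import Cfsg.Agent.Perm.PGOvalT
import Cfsg.Agent.GT.TransferCocycle

/-!
# Ovals: a simple group has a self-centralizing four-group in a Sylow 2-subgroup
-/

set_option autoImplicit false

namespace Cfsg.Agent.Perm.PG

open Subgroup MulAction Fx Cfsg.Agent.Inv

theorem exists_quot {X : Type*} [CommGroup X] (Y : Subgroup X)
    (hY : ∀ x x', x ∉ Y → x' ∉ Y → x * x' ∈ Y) {a : X} (ha : a ∈ Y) (a2 : a * a = 1)
    (hi : ∀ x ∈ Y, x * x = 1 → x = 1 ∨ x = a) (B : Set X) (h1 : 1 ∉ B)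
    (hB : ∀ b ∈ B, b ∉ Y → b * a ∉ B) : ∃ N : Subgroup X, (∀ b ∈ B, b ∉ N) ∧
      ∀ x x' : X ⧸ N, x ^ 2 = 1 → x' ^ 2 = 1 → x ≠ 1 → x' ≠ 1 → x = x' := by
  obtain ⟨u, u2, uB, hu⟩ : ∃ u, u * u = 1 ∧ u ∉ B ∧ (u ∉ Y ∨ (u = 1 ∧ ∀ x, x * x = 1 → x ∈ Y)) := by
    by_cases hh : ∀ x, x * x = 1 → x ∈ Y
    · exact ⟨1, one_mul _, h1, Or.inr ⟨rfl, hh⟩⟩
    push Not at hh
    obtain ⟨u, h2, h3⟩ := hh
    by_cases e : u ∈ B
    · exact ⟨u * a, by rw [mul_mul_mul_comm, h2, a2, one_mul], hB u e h3,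
        Or.inl fun hh => h3 ((Y.mul_mem_cancel_right ha).1 hh)⟩
    · exact ⟨u, h2, e, Or.inl h3⟩
  let N : Subgroup X :=
    { carrier := {x | x = 1 ∨ x = u}
      one_mem' := Or.inl rfl
      mul_mem' := by rintro _ _ (rfl | rfl) (rfl | rfl) <;> simp [u2]
      inv_mem' := by rintro _ (rfl | rfl) <;> simp [inv_eq_of_mul_eq_one_right u2] }
  have key : ∀ x : X ⧸ N, x ^ 2 = 1 → x ≠ 1 → x = (a : X ⧸ N) := fun x hx h2 => by
    obtain ⟨x, rfl⟩ := QuotientGroup.mk_surjective x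
    have h3 : x * x = 1 ∨ x * x = u := by
      rw [← sq]; exact (QuotientGroup.eq_one_iff (N := N) _).1 hx
    have h4 : ∀ w ∈ Y, w * w = x * x → (w : X ⧸ N) = x → (x : X ⧸ N) = a := fun w hw e1 e2 => by
      rcases hi w hw (h3.elim e1.trans fun e => hu.elim
        (fun hh => (hh (e ▸ e1 ▸ Y.mul_mem hw hw)).elim) fun hh => e1.trans (e.trans hh.1)) with
        rfl | rfl
      exacts [(h2 e2.symm).elim, e2.symm]
    by_cases hx' : x ∈ Y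
    · exact h4 x hx' rfl rfl
    · rcases hu with hu | hu
      · refine h4 _ (hY x u hx' hu) (by rw [mul_mul_mul_comm, u2, mul_one]) ?_
        rw [QuotientGroup.mk_mul, (QuotientGroup.eq_one_iff (N := N) u).2 (Or.inr rfl), mul_one]
      · exact (hx' (hu.2 x (h3.elim id fun e => e.trans hu.1))).elim
  refine ⟨N, ?_, fun x x' h2 h3 h4 h5 => (key x h2 h4).trans (key x' h3 h5).symm⟩
  rintro b hb (rfl | rfl)
  exacts [h1 hb, uB hb]

variable {P L : Type*} {I : P → L → Prop} {n : ℕ} {G : Type*} [Group G] [MulAction G P]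
  [MulAction G L] {O : Set P}

namespace Cg

variable {S : Subgroup G} {z y ρ α a b x r s g f ψ : G} (h : Cg I n O S z y ρ α)
include h

theorem fix_conj (hc : Commute s α) (ha : ∀ p ∈ OF O a, α • p = p) :
    ∀ p ∈ OF O (s * a * s⁻¹), α • p = p := fun p hp => by
  have := ha _ (by simpa [mul_assoc] using h.smul_OF s⁻¹ hp)
  rwa [← mul_smul, ← hc.inv_left.eq, mul_smul, smul_left_cancel_iff] at this

/-- The dihedral group generated by the homologies of `S`. -/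
def D : Subgroup G where
  carrier := {d | d ∈ zpowers ρ ∨ y * d ∈ zpowers ρ}
  one_mem' := Or.inl (one_mem _)
  mul_mem' := by
    rintro a b (ha | ha) (hb | hb)
    · exact Or.inl (mul_mem ha hb)
    · exact Or.inr (by simpa [mul_assoc] using mul_mem (h.conj_R h.yS ha) hb)
    · exact Or.inr (by simpa [mul_assoc] using mul_mem ha hb)
    · refine Or.inl ?_
      have := mul_mem (h.conj_R h.yS ha) hb
      rwa [← mul_assoc y y, h.hy.sq, one_mul, mul_assoc, inv_mul_cancel_left] at this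
  inv_mem' := by
    rintro a (ha | ha)
    · exact Or.inl (inv_mem ha)
    · have := ((h.hρ _).2 ha).2.1.sq
      rw [← mul_assoc y y, h.hy.sq, one_mul] at this
      exact Or.inr (by rwa [inv_eq_of_mul_eq_one_right this])

theorem hh_D (ha : HH I S z a) : a ∈ h.D := Or.inr ((h.hρ _).1 (Cf.hh_mul h.hhy ha))

theorem D_cases (ha : a ∈ h.D) : a ∈ zpowers ρ ∨ HH I S z a := ha.imp_right fun ha => by
  simpa [← mul_assoc, h.hy.sq] using (h.hρ _).2 ha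

theorem D_le : h.D ≤ S := fun _ ha => (h.D_cases ha).elim h.RS fun h => h.1

theorem D_conj (hs : s ∈ S) (ha : a ∈ h.D) : s * a * s⁻¹ ∈ h.D :=
  (h.D_cases ha).elim (fun ha => Or.inl (h.conj_R hs ha)) fun ha => h.hh_D (h.hh_conj hs ha)

theorem conj_sq (ha : HH I S z a) (hr : r ∈ zpowers ρ) : r⁻¹ * a * r = a * (r * r) := by
  obtain ⟨u, hu, rfl⟩ := h.hh_eq ha
  rw [← h.y_inv hr, ← mul_assoc, mul_assoc _ y⁻¹, inv_mul_cancel, mul_one, mul_assoc y r u,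
    (R_comm hr hu).eq]
  group

omit h in
theorem R_cases (hr : r ∈ zpowers ρ) : ∃ u ∈ zpowers ρ, r = u * u ∨ r = ρ * (u * u) := by
  obtain ⟨i, rfl⟩ := hr
  obtain ⟨j, rfl | rfl⟩ := Int.even_or_odd' i
  · exact ⟨ρ ^ j, zpow_mem (mem_zpowers ρ) j, Or.inl (by simp only; group)⟩
  · exact ⟨ρ ^ j, zpow_mem (mem_zpowers ρ) j, Or.inr (by simp only; group)⟩

variable [Finite P] [Finite L] [Finite G]

theorem D_isH (ha : a ∈ h.D) (a2 : a * a = 1) (a1 : a ≠ 1) : IsH I a :=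
  (h.D_cases ha).elim (fun ha => (h.R_invol ha a2).resolve_left a1 ▸ h.hz) fun ha => ha.2.1

theorem α_mem (ha : a ∈ Ps O S z y) (a1 : a ≠ 1) : ∃ k : ℕ, a ^ k = α := by
  obtain ⟨k, h1, h2⟩ := exists_invol h.pg (mem_Ps.1 ha).1 a1
  exact ⟨k, h.ps_invol (pow_mem ha k) h.hα h1 h2 h.α2 h.α1⟩

theorem D_Ps (ha : a ∈ h.D) (hb : a ∈ Ps O S z y) : a = 1 := by
  by_contra hne
  obtain ⟨k, hk⟩ := h.α_mem hb hne
  exact h.not_isH (h.D_isH (hk ▸ pow_mem ha k) h.α2 h.α1)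

theorem ps_ps (ha : a ∈ Ps O S z y) (hb : b ∈ Ps O S z y) : Commute a b :=
  congrArg Subtype.val (h.ps_cyc.isMulCommutative.is_comm.comm (⟨a, ha⟩ : Ps O S z y) ⟨b, hb⟩)

theorem α_D (ha : a ∈ h.D) : Commute α a := (h.D_cases ha).elim h.α_R h.α_hh

theorem caseI (T : Sylow 2 G) (hT : (T : Subgroup G) = S)
    (hiso : ∀ t : G, ¬ IsIsolatedInvolution t) (hI : ∀ p ∈ OF O (y * ρ), α • p = p) : False := by
  have h1 : ∀ a ∈ S, IsH I a → ∀ p ∈ OF O a, α • p = p := fun a ha hH => by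
    by_cases e : a = z
    · exact e ▸ fun _ => h.fix_z
    obtain ⟨r, hr, rfl⟩ := h.hh_eq ⟨ha, hH, e⟩
    obtain ⟨u, hu, rfl | rfl⟩ := R_cases hr
    · simpa [h.conj_sq h.hhy hu] using h.fix_conj (h.α_R hu).symm.inv_left
        fun p hp => (mem_Ps.1 h.hα).2 p (Or.inl hp)
    · simpa [h.conj_sq ((h.hρ ρ).2 (mem_zpowers ρ)) hu, mul_assoc y] using
        h.fix_conj (h.α_R hu).symm.inv_left hI
  have h2 : S ≤ centralizer {α} := fun s hs => mem_centralizer_singleton_iff.2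
    (mul_inv_eq_iff_eq_mul.1 ((h.conj_α hs).resolve_right fun e => by
      obtain ⟨p, hp⟩ := h.exists_OF h.hy
      have h3 := h1 _ (h.hh_conj (S.inv_mem hs) h.hhy).1 (h.hy.conj h.toAct s⁻¹) _
        (h.smul_OF s⁻¹ hp)
      have h4 : (s * α * s⁻¹) • p = p := by rw [mul_smul, mul_smul, h3, smul_inv_smul]
      rw [e, mul_smul, h1 y h.yS h.hy p hp] at h4
      exact h.mv' h.hhy hp h4))
  have ho := iso_orderOf_eq_two h.α2 h.α1
  subst hT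
  refine hiso α (IsIsolatedInvolution.of_sylow T ho h.αS fun g hg => ?_)
  by_contra hne
  have c1 : Commute (g * α * g⁻¹) α := mem_centralizer_singleton_iff.1 (h2 hg)
  have h3 := ((h.isH_four h.par ⟨ho, by rwa [← MulAut.conj_apply, MulEquiv.orderOf_eq],
    Ne.symm hne, c1.symm⟩).resolve_left h.not_isH).resolve_left fun hH =>
      h.not_isH (by simpa [mul_assoc] using hH.conj h.toAct g⁻¹)
  obtain ⟨w, w1, w2, w3, w4⟩ : ∃ w ∈ (T : Subgroup G), IsH I w ∧ w ≠ α * (g * α * g⁻¹) ∧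
      Commute w (α * (g * α * g⁻¹)) := by
    by_cases e : α * (g * α * g⁻¹) = z
    · exact ⟨y, h.yS, h.hy, e ▸ h.ne, e ▸ h.zc y h.yS⟩
    · exact ⟨z, h.zS, h.hz, Ne.symm e, (h.zc _ (mul_mem h.αS hg)).symm⟩
  have c2 : Commute w (g * α * g⁻¹) := by
    simpa using (Commute.inv_right (mem_centralizer_singleton_iff.1 (h2 w1))).mul_right w4
  have w5 := w2.conj h.toAct g⁻¹
  obtain ⟨c, hc, e⟩ := exists_conj_mem_sylow_of_le
    (isPGroup_zpowers_of_two (iso_orderOf_eq_two w5.sq w5.ne)) (H := centralizer {α})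
    (zpowers_le.2 (mem_centralizer_singleton_iff.2 (by simpa [mul_assoc] using (c2.conj g⁻¹).eq)))
    T h2
  obtain ⟨p, hp⟩ := h.exists_OF w2
  have h4 := h1 _ (e _ (mem_zpowers _)) (w5.conj h.toAct c) _ (h.smul_OF c (h.smul_OF g⁻¹ hp))
  rw [← mul_smul, ← mem_centralizer_singleton_iff.1 hc, mul_smul, smul_left_cancel_iff] at h4
  exact h.not_both w2 h3 w3 w4 hp ⟨hp.1, by
    rw [mul_smul, mul_smul, mul_smul, h4, smul_inv_smul, h1 w w1 w2 p hp]⟩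

variable (hII : ¬ ∀ p ∈ OF O (y * ρ), α • p = p)
include hII

theorem sq_of (hr : r ∈ zpowers ρ) (h1 : ∀ p ∈ OF O (y * r), α • p = p) :
    ∃ u ∈ zpowers ρ, r = u * u := by
  obtain ⟨u, hu, rfl | rfl⟩ := R_cases hr
  · exact ⟨u, hu, rfl⟩
  · refine (hII ?_).elim
    rw [← mul_assoc, ← h.conj_sq ((h.hρ ρ).2 (mem_zpowers ρ)) hu] at h1
    simpa [mul_assoc] using h.fix_conj (h.α_R hu).symm h1

theorem exists_f : ∃ f ∈ zpowers ρ, f * f = z := by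
  obtain ⟨f, h1, h2⟩ := h.sq_of hII h.zR fun p hp => (mem_Ps.1 h.hα).2 p (Or.inr hp)
  exact ⟨f, h1, h2.symm⟩

theorem star (hs : s ∈ S) (hc : Commute s α) : ∃ d ∈ h.D, ∃ ψ ∈ Ps O S z y, s = d * ψ := by
  obtain ⟨k, hk, e⟩ := h.hh_eq (h.hh_conj hs h.hhy)
  obtain ⟨u, hu, rfl⟩ := h.sq_of hII hk
    (e ▸ h.fix_conj hc fun p hp => (mem_Ps.1 h.hα).2 p (Or.inl hp))
  rw [← h.conj_sq h.hhy hu] at e
  obtain ⟨v, hv, h1⟩ := h.dec (S.mul_mem (h.RS hu) hs) (by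
    rw [Commute, SemiconjBy, mul_assoc, mul_inv_eq_iff_eq_mul.1 e]; group)
  refine ⟨(v * u)⁻¹, inv_mem (mul_mem ?_ (Or.inl hu)), _, h1, by group⟩
  rcases hv with rfl | rfl | rfl | rfl
  exacts [one_mem _, Or.inl h.zR, h.hh_D h.hhy, h.hh_D (h.hh_z h.hhy)]

theorem star' (hs : s ∈ S) (hc : Commute s α) (hc' : ∀ f ∈ zpowers ρ, f * f = z → Commute s f) :
    ∃ d ∈ zpowers ρ, ∃ ψ ∈ Ps O S z y, s = d * ψ := by
  obtain ⟨d, hd, ψ, hψ, rfl⟩ := h.star hII hs hc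
  refine ⟨d, (h.D_cases hd).resolve_right fun hd => ?_, ψ, hψ, rfl⟩
  obtain ⟨f, hf, e⟩ := h.exists_f hII
  obtain ⟨r, hr, rfl⟩ := h.hh_eq hd
  have h1 : Commute y f := by
    simpa using ((hc' f hf e).mul_left (h.ps_f hψ hf e).inv_left).mul_left (R_comm hr hf).inv_left
  have h2 := h.y_inv hf
  rw [h1.eq, mul_inv_cancel_right, eq_inv_iff_mul_eq_one, e] at h2
  exact h.hz.ne h2

theorem key (hs : s ∈ S) (e : s * α * s⁻¹ = z * α) (hψ : ψ ∈ Ps O S z y) :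
    ψ * s * ψ⁻¹ * s⁻¹ ∈ zpowers ρ := by
  have hψS := (mem_Ps.1 hψ).1
  obtain ⟨a, ha⟩ := h.exists_exp hψS
  obtain ⟨c, hc⟩ := h.exists_exp hs
  have cz := (h.zc s hs).eq
  have e' : s * (z * α) * s⁻¹ = α := by
    rw [← conj_mul, e, cz, mul_inv_cancel_right, ← mul_assoc, h.hz.sq, one_mul]
  have b1 : ∀ r ∈ zpowers ρ, Commute (ψ * s * ψ⁻¹ * s⁻¹) r := fun r hr => by
    have hu := h.conj_R (S.inv_mem (S.mul_mem hs hψS)) hr
    have h1 : ∀ r ∈ zpowers ρ, s * ψ * r * (s * ψ)⁻¹ = ψ * s * r * (ψ * s)⁻¹ := fun r hr => by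
      rw [show s * ψ * r * (s * ψ)⁻¹ = s * (ψ * r * ψ⁻¹) * s⁻¹ by group,
        show ψ * s * r * (ψ * s)⁻¹ = ψ * (s * r * s⁻¹) * ψ⁻¹ by group, ha r hr, hc r hr,
        ha _ (zpow_mem hr _), hc _ (zpow_mem hr _), ← zpow_mul, ← zpow_mul, mul_comm (2 * a + 1)]
    rw [Commute, SemiconjBy, ← mul_inv_eq_iff_eq_mul, show ψ * s * ψ⁻¹ * s⁻¹ * r *
      (ψ * s * ψ⁻¹ * s⁻¹)⁻¹ = ψ * s * ((s * ψ)⁻¹ * r * (s * ψ)⁻¹⁻¹) * (ψ * s)⁻¹ by group, ← h1 _ hu]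
    group
  obtain ⟨r, hr, γ, hγ, b2⟩ := h.star' hII (s := ψ * s * ψ⁻¹ * s⁻¹)
    (S.mul_mem (S.mul_mem (S.mul_mem hψS hs) (S.inv_mem hψS)) (S.inv_mem hs)) (by
      have c1 := h.ps_ps hψ h.hα
      have c2 := ((h.zc ψ hψS).mul_right c1).inv_left.eq
      rw [Commute, SemiconjBy, ← mul_inv_eq_iff_eq_mul]
      conv_lhs => rw [← e']
      rw [show ψ * s * ψ⁻¹ * s⁻¹ * (s * (z * α) * s⁻¹) * (ψ * s * ψ⁻¹ * s⁻¹)⁻¹ =
        ψ * (s * (ψ⁻¹ * (z * α) * ψ) * s⁻¹) * ψ⁻¹ by group, c2, inv_mul_cancel_right, e', c1.eq,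
        mul_inv_cancel_right]) fun f hf _ => b1 f hf
  obtain ⟨r₀, hr₀, ψ', hψ', b3⟩ := h.star' hII (S.mul_mem hs hs) (by
    rw [Commute, SemiconjBy, ← mul_inv_eq_iff_eq_mul, show s * s * α * (s * s)⁻¹ =
      s * (s * α * s⁻¹) * s⁻¹ by group, e, e']) fun f hf ef => by
    have h4 : f ^ (4 : ℤ) = 1 := by
      rw [show (4 : ℤ) = 2 + 2 by norm_num, zpow_add, zpow_two, ef, h.hz.sq]
    rw [Commute, SemiconjBy, ← mul_inv_eq_iff_eq_mul, show s * s * f * (s * s)⁻¹ =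
      s * (s * f * s⁻¹) * s⁻¹ by group, hc f hf, hc _ (zpow_mem hf _), ← zpow_mul,
      show (2 * c + 1) * (2 * c + 1) = 4 * (c * c + c) + 1 by ring, zpow_add, zpow_mul, h4]
    simp
  obtain ⟨k, hk, b4⟩ := h.hh_eq (h.hh_conj hs h.hhy)
  have yi := inv_eq_of_mul_eq_one_right h.hy.sq
  have b5 : y * s * y⁻¹ = k * s := by
    rw [mul_inv_eq_iff_eq_mul] at b4
    rw [yi, mul_assoc, b4, ← mul_assoc, ← mul_assoc, h.hy.sq, one_mul]
  have gR : ∀ u ∈ zpowers ρ, Commute γ u := fun u hu => by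
    simpa [b2] using (R_comm hr hu).inv_left.mul_left (b1 u hu)
  have cy : ∀ g ∈ Ps O S z y, y * g * y⁻¹ = g := fun g hg => by
    rw [← (h.ps_y hg).eq, mul_inv_cancel_right]
  have d1 : r ^ (2 : ℤ) = k ^ (-(2 * a)) := by
    have h1 : y * (ψ * s * ψ⁻¹ * s⁻¹) * y⁻¹ = ψ * k * ψ⁻¹ * (ψ * s * ψ⁻¹ * s⁻¹) * k⁻¹ := by
      rw [← conj_mul, ← conj_mul, ← conj_mul, ← conj_inv, ← conj_inv, cy ψ hψ, b5]; group
    rw [mul_assoc _ _ k⁻¹, (b1 _ (inv_mem hk)).eq, ha k hk, b2, ← conj_mul, cy γ hγ, h.y_inv hr,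
      ← mul_assoc, ← mul_assoc, mul_left_inj, inv_eq_iff_mul_eq_one, ← mul_assoc,
      (R_comm (mul_mem hr (mul_mem (zpow_mem hk _) (inv_mem hk))) hr).eq] at h1
    rw [zpow_neg, eq_inv_iff_mul_eq_one, ← h1, zpow_two]
    group
  have d2 : r₀ ^ (2 : ℤ) = k ^ (-(2 * c + 2)) := by
    have h1 : y * (s * s) * y⁻¹ = k * (s * k * s⁻¹) * (s * s) := by
      rw [← conj_mul, b5]; group
    rw [hc k hk, b3, ← conj_mul, cy _ hψ', h.y_inv hr₀, ← mul_assoc, mul_left_inj,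
      inv_eq_iff_mul_eq_one, ← mul_assoc, (R_comm (mul_mem hr₀ (mul_mem hk (zpow_mem hk _))) hr₀).eq]
      at h1
    rw [zpow_neg, eq_inv_iff_mul_eq_one, ← h1, zpow_two]
    group
  have d3 : s * γ * s⁻¹ = γ⁻¹ := by
    have h1 : ψ * (s * s) * ψ⁻¹ * (s * s)⁻¹ =
        ψ * s * ψ⁻¹ * s⁻¹ * (s * (ψ * s * ψ⁻¹ * s⁻¹) * s⁻¹) := by group
    have h2 : ψ * (r₀ * ψ') * ψ⁻¹ * (r₀ * ψ')⁻¹ = ψ * r₀ * ψ⁻¹ * r₀⁻¹ := by
      rw [← conj_mul, (h.ps_ps hψ hψ').eq]; group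
    have h3 : r₀ ^ (2 * a + 1) * r₀⁻¹ = r * r ^ (2 * c + 1) := by
      rw [show r₀ ^ (2 * a + 1) * r₀⁻¹ = (r₀ ^ (2 : ℤ)) ^ a by group,
        show r * r ^ (2 * c + 1) = (r ^ (2 : ℤ)) ^ (c + 1) by group, d1, d2, ← zpow_mul, ← zpow_mul]
      congr 1
      ring
    rw [b3, h2, b2, ← conj_mul, hc r hr, ha r₀ hr₀, h3, mul_assoc, mul_left_cancel_iff,
      ← mul_assoc γ, (gR _ (zpow_mem hr _)).eq, mul_assoc, left_eq_mul] at h1
    exact eq_inv_of_mul_eq_one_right h1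
  by_cases e1 : γ = 1
  · rwa [b2, e1, mul_one]
  obtain ⟨j, hj⟩ := h.α_mem hγ e1
  have := iso_inverts_pow d3 j
  rw [hj, e, inv_eq_of_mul_eq_one_right h.α2, mul_eq_right] at this
  exact (h.hz.ne this).elim

theorem no_two (hb : b ∈ S) (b2 : b * b = 1) (e : b * α * b⁻¹ = z * α) (ha : a ∈ h.D) :
    b * a * α * (b * a * α) ≠ 1 := fun e1 => by
  have bi := inv_eq_of_mul_eq_one_right b2
  have e0 : b * α * b = z * α := by rwa [bi] at e
  obtain ⟨k, hk, b4⟩ := h.hh_eq (h.hh_conj hb h.hhy)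
  obtain ⟨f, hf, ef⟩ := h.exists_f hII
  have h1 : ¬ ∃ u ∈ zpowers ρ, k = u * u := by
    rintro ⟨u, hu, rfl⟩
    obtain ⟨p, hp⟩ := h.exists_OF h.hy
    have h2 := h.fix_conj (h.α_R hu).symm.inv_left fun p hp => (mem_Ps.1 h.hα).2 p (Or.inl hp)
    rw [inv_inv, h.conj_sq h.hhy hu, ← b4] at h2
    have h3 := h2 _ (h.smul_OF b hp)
    rw [← mul_smul, ← inv_smul_eq_iff, ← mul_smul, ← mul_assoc, bi, e0,
      mul_smul, (mem_Ps.1 h.hα).2 p (Or.inl hp)] at h3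
    exact h.mv' h.hhy hp h3
  have h2 : b * k * b⁻¹ = k⁻¹ := by
    have : b * (b * y * b⁻¹) * b⁻¹ = y := by
      rw [show b * (b * y * b⁻¹) * b⁻¹ = b * b * y * (b * b)⁻¹ by group, b2]; simp
    rw [b4, ← conj_mul, b4, mul_assoc, mul_eq_left] at this
    exact eq_inv_of_mul_eq_one_right this
  have h3 : ∀ r ∈ zpowers ρ, b * r * b⁻¹ = r⁻¹ := fun r hr => by
    obtain ⟨j, hj⟩ := hk
    obtain ⟨m, hm⟩ := exists_orderOf_eq_pow_of_mem h.pg (h.RS (mem_zpowers ρ))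
    rw [← GT.PG.zpowers_zpow_eq_of_odd hm (k := j) (Int.not_even_iff_odd.1 fun ⟨i, hi⟩ =>
      h1 ⟨ρ ^ i, zpow_mem (mem_zpowers ρ) i, by rw [← hj, hi]; exact zpow_add ρ i i⟩)] at hr
    obtain ⟨i, rfl⟩ := hr
    simp only at hj ⊢
    rw [hj, ← conj_zpow, h2, inv_zpow]
  have h4 : b * a * b⁻¹ * (z * a) = 1 := by
    rw [← e1, show b * a * α * (b * a * α) = b * a * b⁻¹ * (b * α * b) * (a * α) by group,
      ← (h.α_D ha).eq, e0, mul_assoc _ (z * α),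
      mul_assoc z, ← mul_assoc α, h.α2, one_mul]
  rcases h.D_cases ha with hd | hd
  · rw [h3 a hd, ← (h.zc a (h.RS hd)).eq, inv_mul_cancel_left] at h4
    exact h.hz.ne h4
  · obtain ⟨r, hr, rfl⟩ := h.hh_eq hd
    refine h1 ⟨r * f, mul_mem hr hf, ?_⟩
    rw [← conj_mul, b4, h3 r hr, ← (h.zc _ hd.1).eq, mul_eq_one_iff_eq_inv,
      inv_eq_of_mul_eq_one_right (h.hh_z hd).2.1.sq, mul_assoc, mul_assoc y,
      mul_left_cancel_iff, mul_inv_eq_iff_eq_mul] at h4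
    rw [h4, (R_comm hf hr).mul_mul_mul_comm, ef, mul_assoc, mul_assoc, (h.zc r (h.RS hr)).eq]

theorem caseII (hS : ¬ 2 ∣ S.index) (hG : commutator G = ⊤) : False := by
  have hN : (h.D.subgroupOf S).Normal := ⟨fun a ha s => h.D_conj s.2 ha⟩
  set π := QuotientGroup.mk' (h.D.subgroupOf S)
  have p1 : ∀ a : S, π a = 1 ↔ (a : G) ∈ h.D := fun a => QuotientGroup.eq_one_iff a
  set Y := ((Ps O S z y).subgroupOf S).map π
  have p2 : ∀ s : S, Commute (s : G) α → π s ∈ Y := fun s hs => by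
    obtain ⟨d, hd, ψ, hψ, e⟩ := h.star hII s.2 hs
    refine ⟨⟨ψ, (mem_Ps.1 hψ).1⟩, hψ, ?_⟩
    rw [show s = ⟨d, h.D_le hd⟩ * ⟨ψ, (mem_Ps.1 hψ).1⟩ from Subtype.ext e, map_mul,
      (p1 ⟨d, h.D_le hd⟩).2 hd, one_mul]
  have p3 : ∀ s : S, π s ∉ Y → s * α * (s : G)⁻¹ = z * α := fun s hs =>
    (h.conj_α s.2).resolve_left fun e => hs (p2 s (mul_inv_eq_iff_eq_mul.1 e))
  have hY : ∀ x x', x ∉ Y → x' ∉ Y → x * x' ∈ Y := fun x x' h1 h2 => by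
    obtain ⟨x, rfl⟩ := QuotientGroup.mk'_surjective _ x
    obtain ⟨x', rfl⟩ := QuotientGroup.mk'_surjective _ x'
    refine map_mul π x x' ▸ p2 _ (mul_inv_eq_iff_eq_mul.1 ?_)
    rw [show (x * x' : S) * α * ((x * x' : S) : G)⁻¹ = x * (x' * α * (x' : G)⁻¹) * (x : G)⁻¹ by
      push_cast; group, p3 x' h2, ← conj_mul, p3 x h1, (h.zc x x.2).eq, mul_inv_cancel_right,
      ← mul_assoc, h.hz.sq, one_mul]
  have c1 : ∀ a ∈ Y, ∀ x, Commute a x := by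
    rintro _ ⟨a, ha, rfl⟩ x
    by_cases hx : x ∈ Y
    · obtain ⟨b, hb, rfl⟩ := hx
      exact Commute.map (show a * b = b * a from Subtype.ext (h.ps_ps ha hb)) π
    · obtain ⟨x, rfl⟩ := QuotientGroup.mk'_surjective _ x
      rw [← commutatorElement_eq_one_iff_commute, ← map_commutatorElement]
      exact (p1 _).2 (Or.inl (h.key hII x.2 (p3 x hx) ha))
  let _ : CommGroup (S ⧸ h.D.subgroupOf S) :=
    { (inferInstance : Group (S ⧸ h.D.subgroupOf S)) with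
      mul_comm := fun a b => by
        by_cases ha : a ∈ Y
        · exact c1 a ha b
        by_cases hb : b ∈ Y
        · exact (c1 b hb a).symm
        have := (Commute.refl a).mul_right (c1 _ (hY a⁻¹ b (by simpa using ha) hb) a).symm
        rwa [mul_inv_cancel_left] at this }
  obtain ⟨N, n1, n2⟩ := exists_quot Y hY (a := π ⟨α, h.αS⟩) (p2 _ (Commute.refl α))
    (by rw [← map_mul, show (⟨α, h.αS⟩ : S) * ⟨α, h.αS⟩ = 1 from Subtype.ext h.α2, map_one])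
    (by
      rintro _ ⟨a, ha, rfl⟩ e
      have h1 := h.D_Ps ((p1 _).1 ((map_mul π a a).trans e)) (mul_mem ha ha)
      by_cases e1 : a = 1
      · exact Or.inl (e1 ▸ map_one π)
      · exact Or.inr (congrArg π (Subtype.ext (h.ps_invol ha h.hα h1 (by simpa using e1) h.α2
          h.α1))))
    {x | ∃ b : S, π b = x ∧ (b : G) * b = 1 ∧ (b : G) ≠ 1 ∧ ¬ IsH I (b : G)}
    (fun ⟨b, e, b2, b1, hb⟩ => hb (h.D_isH ((p1 b).1 e) b2 b1)) (by
      rintro _ ⟨b, rfl, b2, -⟩ hb ⟨b', e, b2', -⟩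
      have h1 : (b : G)⁻¹ * b' * α⁻¹ ∈ h.D := (p1 (b⁻¹ * b' * (⟨α, h.αS⟩ : S)⁻¹)).1 (by
        rw [map_mul, map_mul, e, map_inv, map_inv]; group)
      refine h.no_two hII b.2 b2 (p3 b hb) h1 ?_
      simpa [mul_assoc] using b2')
  obtain ⟨t, h1, h2, -⟩ := GT.Tr.thompson_transfer ((QuotientGroup.mk' N).comp π) hS n2 (y := α)
    (by rw [sq, h.α2]) (GT.Tr.transfer_eq_one_of_mem_commutator _ (hG ▸ mem_top α)) (C := ⊥)
    IsPGroup.of_bot (by simp)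
  exact n1 _ ⟨⟨_, h1⟩, rfl, by simpa using iso_conj_mul_self h.α2 t⁻¹,
    fun e => h.α1 (conj_eq_one_iff.1 (show t⁻¹ * α * t⁻¹⁻¹ = 1 by rwa [inv_inv])),
    fun hH => h.not_isH (by simpa [mul_assoc] using hH.conj h.toAct t)⟩
    ((QuotientGroup.eq_one_iff _).1 h2)

end Cg

theorem Cf.self_cent {z y : G} {S : Sylow 2 G} [Finite P] [Finite L] [Finite G]
    (h : Cf I n O (S : Subgroup G) z y) (hG : commutator G = ⊤)
    (hiso : ∀ t : G, ¬ IsIsolatedInvolution t) {g : G} (hg : g ∈ (S : Subgroup G))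
    (hc : Commute g y) : g = 1 ∨ g = z ∨ g = y ∨ g = y * z := by
  obtain ⟨v, hv, h1⟩ := h.dec hg hc
  obtain ⟨ρ, hρ⟩ := h.exists_rho
  have h2 : v * g = 1 := by
    by_contra hne
    obtain ⟨k, h3, h4⟩ := exists_invol h.pg (mem_Ps.1 h1).1 hne
    have H : Cg I n O (S : Subgroup G) z y ρ ((v * g) ^ k) := ⟨h, hρ, pow_mem h1 k, h3, h4⟩
    exact H.caseII (H.caseI S rfl hiso) S.not_dvd_index hG
  rw [eq_inv_of_mul_eq_one_right h2]
  rcases hv with rfl | rfl | rfl | rfl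
  exacts [Or.inl inv_one, Or.inr (Or.inl (inv_eq_of_mul_eq_one_right h.hz.sq)),
    Or.inr (Or.inr (Or.inl (inv_eq_of_mul_eq_one_right h.hy.sq))),
    Or.inr (Or.inr (Or.inr (inv_eq_of_mul_eq_one_right (h.hh_z h.hhy).2.1.sq)))]

end Cfsg.Agent.Perm.PG
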