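import Mathlib
import Cfsg.Agent.Perm.PairBlk
import Cfsg.Agent.FG.ClassCount
import Cfsg.Agent.FG.H93Cyc
import Cfsg.Agent.Loc.PLengthOne
import Cfsg.Agent.S4145

/-!
# Cyclic Sylow `p`-subgroups: any two elements of order `p` generate a `p`-solvable group
-/

set_option autoImplicit false
set_option linter.unusedSectionVars false

open Cfsg Subgroup Cfsg.Agent.Ch Cfsg.Agent.Blk Cfsg.Agent.Blk.PB Cfsg.Agent.Blk.PC
  Cfsg.Agent.Blk.AF
open scoped commutatorElement

namespace Cfsg.Agent.Perm.PS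

variable {p : ℕ} [hp : Fact p.Prime] {G : Type*} [Group G] [Finite G]

theorem relIndex_le {P : Sylow p G} (h : Hyp P) {x : G} (hx : x ∈ (P : Subgroup G)) (h1 : x ≠ 1)
    {T : Set G} (hT : ∀ n ∈ normalizer ((P : Subgroup G) : Set G), n * x * n⁻¹ ∈ T) :
    (centralizer ((P : Subgroup G) : Set G)).relIndex (normalizer ((P : Subgroup G) : Set G)) ≤
      T.ncard := by
  rw [← h.frob x hx h1, inf_relIndex_right, ← FG.ncard_conj_orbit_subgroup]
  refine Set.ncard_le_ncard ?_
  rintro _ ⟨n, hn, rfl⟩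
  exact hT n hn

theorem val_sing {P : Sylow p G} (h : Hyp P) {M : Ideal AlgInt} (hM : IsPModular p M)
    {χ : IrrCharacter G} (hχ : χ ∈ principalBlock M G) {g w y : G} (hw : IsPPart p g w)
    (hy : y ∈ (P : Subgroup G)) (h1 : y ≠ 1) (hc : IsConj w y) :
    (χ : G → ℂ) g = (χ : G → ℂ) y :=
  PB.apply_eq_of_isPPart hM (fun _ => mem_centralizer_singleton_iff)
    (h.nc_centralizer hy h1) hχ hw hc

theorem caseA [IsSimpleGroup G] (hG : ¬ IsMulCommutative G) {P : Sylow p G} (h : Hyp P)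
    (ht : Two p G) {x y : G} (hxP : x ∈ (P : Subgroup G)) (hx : orderOf x = p)
    (hyP : y ∈ (P : Subgroup G)) (hy : orderOf y = p) (hxy : ¬ IsConj y x) : False := by
  classical
  have := Fintype.ofFinite G
  obtain ⟨M, hM⟩ := exists_isPModular hp.out
  have hab := Ab.of_sylow P h.comm
  have hx1 : x ≠ 1 := fun e => hp.out.one_lt.ne (by rw [← hx, e, orderOf_one])
  have hy1 : y ≠ 1 := fun e => hp.out.one_lt.ne (by rw [← hy, e, orderOf_one])
  have hm : (centralizer ((P : Subgroup G) : Set G)).relIndex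
      (normalizer ((P : Subgroup G) : Set G)) + 1 < Nat.card (P : Subgroup G) := by
    have h1 := relIndex_le h hxP hx1 (T := ((P : Subgroup G) : Set G) \ {1, y}) fun n hn =>
      ⟨GT.Tr.conj_mem_of_mem_normalizer hn hxP, by
        rintro (e | e)
        · exact hx1 (by simpa using e)
        · exact hxy (isConj_iff.2 ⟨n, e⟩).symm⟩
    have h2 := Set.ncard_diff_add_ncard_of_subset (s := ({1, y} : Set G))
      (t := ((P : Subgroup G) : Set G)) (by
        rintro z (rfl | rfl)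
        · exact one_mem _
        · exact hyP)
    rw [Set.ncard_pair hy1.symm] at h2
    have h3 : ((P : Subgroup G) : Set G).ncard = Nat.card (P : Subgroup G) := rfl
    omega
  obtain ⟨D⟩ := h.exists_data hM rfl hm
  by_cases hX : ∃ χ ∈ D.X, χ ≠ irrOne G
  · obtain ⟨χ, hχ, hχ1⟩ := hX
    have e := sum_pairs_irr χ x⁻¹ y
    have e2 : ∀ a b : G, (χ : G → ℂ) (a * x⁻¹ * a⁻¹ * (b * y * b⁻¹)) = D.a χ := fun a b => by
      have ha := (orderOf_conj_eq x⁻¹ a).trans ((orderOf_inv x).trans hx)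
      have hb := (orderOf_conj_eq y b).trans hy
      have hd : p ∣ orderOf (a * x⁻¹ * a⁻¹ * (b * y * b⁻¹)) := by
        by_contra hr
        have := isConj_of_regular hab ha hb (ht _ _ ha hb) hr
        refine hxy (((isConj_iff.2 ⟨b, rfl⟩).trans this).trans (isConj_iff.2 ⟨a⁻¹, by group⟩))
      obtain ⟨w, hw⟩ := exists_isPPart hp.out (a * x⁻¹ * a⁻¹ * (b * y * b⁻¹))
      obtain ⟨z, hz, hwz⟩ := exists_conj_mem P hw.exists_orderOf
      have hz1 : z ≠ 1 := fun e => hw.ne_one_of_dvd hd (by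
        rw [e] at hwz; exact isConj_one_right.1 hwz.symm)
      rw [val_sing h hM (D.X_mem hχ) hw hz hz1 hwz, D.val_X χ hχ z hz hz1]
    simp only [e2, Finset.sum_const, Finset.card_univ, nsmul_eq_mul,
      ← Nat.card_eq_fintype_card] at e
    rw [D.val_X χ hχ y hyP hy1, D.val_X χ hχ _ (inv_mem hxP) (inv_ne_one.2 hx1)] at e
    refine apply_ne hχ1 hx1 ?_
    rw [D.val_X χ hχ x hxP hx1]
    have h0 : (D.a χ : ℂ) ≠ 0 := by exact_mod_cast D.a_ne χ hχ
    apply mul_left_cancel₀ (mul_ne_zero (pow_ne_zero 2 (natCard_ne_zero G)) h0)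
    linear_combination -e
  · push Not at hX
    obtain ⟨η, hη⟩ : D.Y.Nonempty := Finset.card_pos.1 (by have := D.two_le hm; omega)
    have e := D.rel_regular' hM (g := 1) (by rw [orderOf_one]; exact hp.out.not_dvd_one) hη
    rw [Finset.sum_eq_single_of_mem _ D.one_mem (fun χ hχ h1 => absurd (hX χ hχ) h1),
      D.a_one (by omega), ← η.2.coe_charDegree] at e
    have e2 : ((D.Y.card : ℤ) * D.d - D.δ) * charDegree (η : G → ℂ) + 1 = 0 := by
      simp only [coe_irrOne, Int.cast_one, mul_one] at e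
      exact_mod_cast e
    have e3 : charDegree (η : G → ℂ) = 1 := by
      have : (charDegree (η : G → ℂ) : ℤ) ∣ 1 := ⟨-((D.Y.card : ℤ) * D.d - D.δ), by
        linear_combination e2⟩
      exact Nat.dvd_one.1 (by exact_mod_cast this)
    have hη1 : η ≠ irrOne G := fun e => Finset.disjoint_left.1 D.disj D.one_mem (e ▸ hη)
    have e4 := η.isCharacter.commutator_le_charKer_of_apply_one (by
      rw [← η.2.coe_charDegree, e3, Nat.cast_one])
    refine hG ⟨⟨fun a b => ?_⟩⟩
    by_contra hne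
    refine apply_ne hη1 (x := ⁅a, b⁆) (fun e => hne (commutatorElement_eq_one_iff_mul_comm.1 e)) ?_
    exact apply_eq_of_mem_charKer (e4 (commutator_mem_commutator (mem_top a) (mem_top b)))

theorem sum_Ico_pow {x : ℂ} {N : ℕ} (hN : 0 < N) (h : x ^ N = 1) (h1 : x ≠ 1) :
    ∑ l ∈ Finset.Ico 1 N, x ^ l = -1 := by
  have := geom_sum_eq h1 N
  rw [h, sub_self, zero_div, Finset.range_eq_Ico, Finset.sum_eq_sum_Ico_succ_bot hN] at this
  simp only [pow_zero, zero_add] at this
  linear_combination this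

theorem caseB [IsSimpleGroup G] {P : Sylow p G} (hP : IsCyclic (P : Subgroup G)) (h : Hyp P)
    (ht : Two p G) (hp2 : p ≠ 2) {x y : G} (hxP : x ∈ (P : Subgroup G)) (hx : orderOf x = p)
    (hc : ∀ z ∈ (P : Subgroup G), orderOf z = p → IsConj z x)
    (hyP : y ∈ (P : Subgroup G)) (hy1 : y ≠ 1) (hy : orderOf y ≠ p) : False := by
  classical
  have := Fintype.ofFinite G
  have hp3 : 3 ≤ p := by have := hp.out.two_le; omega
  obtain ⟨M, hM⟩ := exists_isPModular hp.out
  have hab := Ab.of_sylow P h.comm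
  have hx1 : x ≠ 1 := fun e => hp.out.one_lt.ne (by rw [← hx, e, orderOf_one])
  have hzp : ∀ z ∈ (P : Subgroup G), ∀ w ∈ (P : Subgroup G), orderOf z = p → orderOf w = p →
      z ∈ zpowers w := fun z hz w hw h1 h2 =>
    FG.H93.mem_zpowers_of_orderOf_dvd_of_mem hz hw (by rw [h1, h2])
  set m := (centralizer ((P : Subgroup G) : Set G)).relIndex
      (normalizer ((P : Subgroup G) : Set G)) with hmdef
  have hm1 : m + 1 ≤ p := by
    have h1 := relIndex_le h hxP hx1 (T := (zpowers x : Set G) \ {1}) fun n hn =>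
      ⟨hzp _ (GT.Tr.conj_mem_of_mem_normalizer hn hxP) x hxP ((orderOf_conj_eq x n).trans hx) hx,
        fun e => hx1 (by simpa using e)⟩
    have h2 := Set.ncard_diff_singleton_add_one (s := (zpowers x : Set G)) (one_mem _)
    have h3 : (zpowers x : Set G).ncard = p := by rw [← hx, ← Nat.card_zpowers]; rfl
    omega
  have hyp : y ^ p ≠ 1 := fun e => hy (orderOf_eq_prime e hy1)
  have hq : p ^ 2 ≤ Nat.card (P : Subgroup G) := by
    obtain ⟨k, hk⟩ := pelt_of_mem P.isPGroup' hyP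
    refine Nat.le_of_dvd Nat.card_pos (dvd_trans (pow_dvd_pow p (n := k) ?_)
      (hk ▸ orderOf_dvd_natCard _ hyP))
    by_contra hlt
    have : k = 0 ∨ k = 1 := by omega
    rcases this with rfl | rfl
    · exact hy1 (orderOf_eq_one_iff.1 (by simpa using hk))
    · exact hy (by simpa using hk)
  have hm : m + 1 < Nat.card (P : Subgroup G) := by nlinarith
  obtain ⟨D⟩ := h.exists_data hM hmdef.symm hm
  have hd : D.d = 0 := by
    by_contra hd
    have k1 := (one_le_sq_iff_one_le_abs _).2 (Int.one_le_abs hd)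
    have k2 := D.norm
    have k3 := D.card_X_le
    have k4 : (1 : ℤ) ≤ D.X.card := by exact_mod_cast Finset.card_pos.2 ⟨_, D.one_mem⟩
    have k5 : p + 1 ≤ D.Y.card := by
      have := D.card
      by_contra hlt
      have : D.Y.card ≤ p := by omega
      nlinarith
    have k6 : (p : ℤ) + 1 ≤ D.Y.card := by exact_mod_cast k5
    have k7 : (m : ℤ) + 1 ≤ p := by exact_mod_cast hm1
    nlinarith [sq_nonneg (D.d - D.δ)]
  obtain ⟨ψ, hψ⟩ := exists_monoidHom_units_ne_one_of_comm h.comm' (g := ⟨x, hxP⟩)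
    fun e => hx1 (congrArg Subtype.val e)
  obtain ⟨ψ₀, hψ₀⟩ := exists_monoidHom_units_ne_one_of_comm h.comm' (g := ⟨y, hyP⟩ ^ p)
    fun e => hyp (congrArg Subtype.val e)
  have hψ1 : ψ ≠ 1 := fun e => hψ (by rw [e]; rfl)
  have hψ' : ψ₀ ^ p ≠ 1 := fun e => hψ₀ (by
    rw [map_pow, ← MonoidHom.pow_apply, e]; rfl)
  have hη := D.ζ_mem ψ hψ1
  have hη' := D.ζ_mem _ hψ'
  set η := D.ζ ψ with hηdef
  set η' := D.ζ (ψ₀ ^ p) with hη'def
  have hpow : ∀ j ∈ Finset.Ico 1 p, orderOf (x ^ j) = p := fun j hj => by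
    rw [Finset.mem_Ico] at hj
    rw [Nat.Coprime.orderOf_pow (by
      rw [hx]; exact Nat.coprime_of_lt_prime (by omega) hj.2 hp.out), hx]
  have hcl : ∀ χ : IrrCharacter G, ∀ j ∈ Finset.Ico 1 p,
      (χ : G → ℂ) (x ^ j) = (χ : G → ℂ) x := fun χ j hj => by
    obtain ⟨g, hg⟩ := isConj_iff.1 (hc _ (pow_mem hxP j) (hpow j hj))
    conv_rhs => rw [← hg]
    rw [χ.isCharacter.isClassFunction]
  have hpre : ∀ {φ φ' : (P : Subgroup G) →* ℂˣ}, φ' ∈ orb (P : Subgroup G) φ →
      ∃ w : (P : Subgroup G), orderOf (w : G) = p ∧ φ' ⟨x, hxP⟩ = φ w := fun {φ φ'} hφ => by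
    obtain ⟨n, hn, e⟩ := mem_orb.1 hφ
    refine ⟨⟨n⁻¹ * x * n⁻¹⁻¹, GT.Tr.conj_mem_of_mem_normalizer (inv_mem hn) hxP⟩,
      (orderOf_conj_eq x n⁻¹).trans hx, e _ _ (by simp [mul_assoc])⟩
  have v' : (η' : G → ℂ) x = D.δ * m := by
    rw [D.val_Y _ hψ' ⟨x, hxP⟩ (fun e => hx1 (congrArg Subtype.val e)), hd, Int.cast_zero,
      zero_add, Finset.sum_congr rfl (g := fun _ => (1 : ℂ)), Finset.sum_const, h.card_orb hψ',
      nsmul_eq_mul, mul_one]
    intro φ hφ
    obtain ⟨w, hw, e⟩ := hpre hφ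
    have : w ^ p = 1 := Subtype.ext
      (orderOf_dvd_iff_pow_eq_one.1 hw.dvd :)
    rw [e, MonoidHom.pow_apply, ← map_pow, this, map_one, Units.val_one]
  have v : ((p - 1 : ℕ) : ℂ) * (η : G → ℂ) x = -(D.δ * m) := by
    have e1 : ∑ j ∈ Finset.Ico 1 p, (η : G → ℂ) (x ^ j) = ((p - 1 : ℕ) : ℂ) * (η : G → ℂ) x := by
      rw [Finset.sum_congr rfl (hcl η), Finset.sum_const, Nat.card_Ico, nsmul_eq_mul]
    have e2 : ∀ j ∈ Finset.Ico 1 p, (η : G → ℂ) (x ^ j) =
        D.δ * ∑ φ ∈ orb (P : Subgroup G) ψ, (φ ⟨x, hxP⟩ : ℂ) ^ j := fun j hj => by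
      have := D.val_Y _ hψ1 (⟨x, hxP⟩ ^ j) (fun e => hp.out.one_lt.ne (by
        rw [← hpow j hj, show x ^ j = 1 from congrArg Subtype.val e, orderOf_one]))
      rw [hd, Int.cast_zero, zero_add] at this
      simp only [map_pow, Units.val_pow_eq_pow_val] at this
      exact this
    rw [← e1, Finset.sum_congr rfl e2, ← Finset.mul_sum, Finset.sum_comm,
      Finset.sum_congr rfl (g := fun _ => (-1 : ℂ)), Finset.sum_const, h.card_orb hψ1,
      nsmul_eq_mul]
    · ring
    intro φ hφ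
    refine sum_Ico_pow hp.out.pos ?_ ?_
    · have : (⟨x, hxP⟩ : (P : Subgroup G)) ^ p = 1 := Subtype.ext
        (orderOf_dvd_iff_pow_eq_one.1 hx.dvd :)
      rw [← Units.val_pow_eq_pow_val, ← map_pow, this, map_one, Units.val_one]
    · obtain ⟨w, hw, e⟩ := hpre hφ
      intro e1
      obtain ⟨k, hk⟩ := hzp x hxP w w.2 hx hw
      have : (⟨x, hxP⟩ : (P : Subgroup G)) = w ^ k := Subtype.ext hk.symm
      refine hψ ?_
      rw [this, map_zpow, ← e, Units.val_eq_one.1 e1, one_zpow]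
  have hreg1 : ¬ p ∣ orderOf (1 : G) := by rw [orderOf_one]; exact hp.out.not_dvd_one
  obtain ⟨N, hN, e⟩ := count hab ht hx (fun g => (η : G → ℂ) g - (η' : G → ℂ) g)
    ((η : G → ℂ) x - (η' : G → ℂ) x) (fun g hg => by rw [D.Y_regular hM hg hη hη', sub_self])
    (fun g w hw hw1 => by
      obtain ⟨z, hz, hwz⟩ := exists_conj_mem P hw.exists_orderOf
      have hz1 : orderOf z = p := by
        obtain ⟨c, rfl⟩ := isConj_iff.1 hwz
        rw [orderOf_conj_eq, hw1]
      have := hwz.trans (hc z hz hz1)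
      rw [val_sing h hM (D.Y_mem hη) hw hxP hx1 this, val_sing h hM (D.Y_mem hη') hw hxP hx1 this])
  have e2 : ∀ j ∈ Finset.Ico 1 p, (η' : G → ℂ) 1 * ∑ a : G, ∑ b : G,
      ((η : G → ℂ) (a * x * a⁻¹ * (b * x ^ j * b⁻¹)) -
        (η' : G → ℂ) (a * x * a⁻¹ * (b * x ^ j * b⁻¹))) =
      (Nat.card G : ℂ) ^ 2 * ((η : G → ℂ) x ^ 2 - (η' : G → ℂ) x ^ 2) := fun j hj => by
    have e3 := sum_pairs_irr η x (x ^ j)
    have e4 := sum_pairs_irr η' x (x ^ j)
    rw [hcl _ j hj] at e3 e4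
    rw [D.Y_regular hM hreg1 hη hη'] at e3
    simp only [Finset.sum_sub_distrib]
    linear_combination e3 - e4
  have e5 := congrArg ((η' : G → ℂ) 1 * ·) e
  rw [Finset.mul_sum, Finset.sum_congr rfl e2, Finset.sum_const, Nat.card_Ico, nsmul_eq_mul] at e5
  obtain ⟨r, rfl⟩ : ∃ r, p = r + 3 := ⟨p - 3, by omega⟩
  rw [show r + 3 - 1 = r + 2 by omega] at e5 v
  rw [show r + 3 - 2 = r + 1 by omega] at hN
  have hm0 : (m : ℂ) ≠ 0 := by
    exact_mod_cast (index_ne_zero_of_finite : m ≠ 0)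
  have hne : (η : G → ℂ) x - (η' : G → ℂ) x ≠ 0 := fun e0 => by
    have : ((r + 3 : ℕ) : ℂ) * (D.δ * m) = 0 := by
      push_cast at v ⊢
      linear_combination v - (r + 2) * e0 - (r + 2) * v'
    rcases mul_eq_zero.1 this with k | k
    · exact absurd (Nat.cast_eq_zero.1 k) (by omega)
    · exact mul_ne_zero D.δ_ne hm0 k
  have e6 : (Nat.card G : ℂ) ^ 2 * ((r + 1) * (D.δ * m)) = charDegree (η' : G → ℂ) * N := by
    apply mul_right_cancel₀ hne
    rw [η'.2.coe_charDegree]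
    push_cast at v e5
    linear_combination e5 - (Nat.card G : ℂ) ^ 2 * ((η : G → ℂ) x - (η' : G → ℂ) x) *
      (v + (r + 2) * v')
  have e7 : (Nat.card G : ℤ) ^ 2 * ((r + 1) * (D.δ * m)) = charDegree (η' : G → ℂ) * N := by
    exact_mod_cast e6
  have hη1 : η' ≠ irrOne G := fun e => Finset.disjoint_left.1 D.disj D.one_mem (e ▸ hη')
  have e8 := apply_ne hη1 hx1
  have e9 := η'.isCharacter.norm_le x
  rw [v', ← η'.2.coe_charDegree] at e8
  rw [v', ← Int.cast_natCast, ← Int.cast_mul, Complex.norm_intCast] at e9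
  have k1 : D.δ * m ≠ (charDegree (η' : G → ℂ) : ℤ) := by exact_mod_cast e8
  have k2 : |D.δ * m| ≤ (charDegree (η' : G → ℂ) : ℤ) := by exact_mod_cast e9
  have k3 := le_abs_self (D.δ * m)
  have k4 : D.δ * m < (charDegree (η' : G → ℂ) : ℤ) := lt_of_le_of_ne (k3.trans k2) k1
  have k5 : ((r : ℤ) + 1) * (Nat.card G : ℤ) ^ 2 ≤ N := by exact_mod_cast hN
  have k6 : (0 : ℤ) < ((r : ℤ) + 1) * (Nat.card G : ℤ) ^ 2 :=
    mul_pos (by omega) (pow_pos (by exact_mod_cast Nat.card_pos) 2)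
  have k7 := mul_lt_mul_of_pos_left k4 k6
  have k8 := mul_le_mul_of_nonneg_left k5 (Int.natCast_nonneg (charDegree (η' : G → ℂ)))
  nlinarith

theorem nc_centralizer (P : Sylow p G) (hP : IsCyclic (P : Subgroup G)) {y : G}
    (hy : y ∈ (P : Subgroup G)) (h1 : y ≠ 1) :
    HasNormalPComplement p (centralizer ({y} : Set G)) := by
  set C := centralizer ({y} : Set G)
  have hle : (P : Subgroup G) ≤ C := fun z hz => mem_centralizer_singleton_iff.2
    (congrArg Subtype.val (mul_comm' (⟨z, hz⟩ : (P : Subgroup G)) ⟨y, hy⟩))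
  set Q := P.subtype hle
  have hQ := S4145.cyc_sub P hP C Q
  refine (GT.Tr.hasNormalPComplement_or_pResidual_eq_top Q hQ).resolve_right fun h => h1 ?_
  have h2 := GT.Tr.sylow_inf_pResidual_le_commutator Q
  have h3 := GT.Tr.sylow_inf_commutator_inf_center_le Q
  have h4 : ⁅(Q : Subgroup C), (Q : Subgroup C)⁆ = ⊥ := by
    rw [commutator_eq_bot_iff_le_centralizer]
    exact GT.PG.isMulCommutative_iff_le_centralizer.1 inferInstance
  rw [h, inf_top_eq] at h2
  rw [h4] at h3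
  have h5 : (⟨y, hle hy⟩ : C) ∈ (⊥ : Subgroup C) := by
    refine h3 ⟨⟨hy, h2 hy⟩, Subgroup.mem_center_iff.2 fun c => Subtype.ext ?_⟩
    exact mem_centralizer_singleton_iff.1 c.2
  exact congrArg Subtype.val (mem_bot.1 h5)

theorem simple_case [IsSimpleGroup G] (P : Sylow p G) (hP : IsCyclic (P : Subgroup G))
    (ht : Two p G) : IsPSolvable p G := by
  by_cases hG : IsMulCommutative G
  · exact GT.isPSolvable_of_isSolvable GT.isSolvable_of_isMulCommutative
  by_cases hd : p ∣ Nat.card G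
  swap
  · exact GT.isPSolvable_of_not_dvd hd
  by_cases hp2 : p = 2
  · subst hp2
    exact FG.H93.isPSolvable_of_hasNormalPComplement
      (GT.Tr.hasNormalPComplement_two_of_isCyclic P hP)
  exfalso
  have h := hyp_of_nc P (fun a ha b hb => congrArg Subtype.val
    (mul_comm' (⟨a, ha⟩ : (P : Subgroup G)) ⟨b, hb⟩)) fun y hy h1 => nc_centralizer P hP hy h1
  obtain ⟨x₀, hx₀⟩ := exists_prime_orderOf_dvd_card' p hd
  obtain ⟨x, hxP, hc⟩ := exists_conj_mem P (x := x₀) ⟨1, by rw [hx₀, pow_one]⟩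
  have hx : orderOf x = p := by
    obtain ⟨c, rfl⟩ := isConj_iff.1 hc
    rw [orderOf_conj_eq, hx₀]
  by_cases h1 : ∀ z ∈ (P : Subgroup G), orderOf z = p → IsConj z x
  · by_cases h2 : ∀ y ∈ (P : Subgroup G), y ≠ 1 → orderOf y = p
    · exact hp2 (one_class h ht hxP hx fun y hy hy1 => h1 y hy (h2 y hy hy1))
    · push Not at h2
      obtain ⟨y, hy, hy1, hy2⟩ := h2
      exact caseB hP h ht hp2 hxP hx h1 hy hy1 hy2
  · push Not at h1
    obtain ⟨y, hy, hy1, hy2⟩ := h1
    exact caseA hG h ht hxP hx hy hy1 hy2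

universe u

theorem cyc_main (G : Type u) [Group G] [Finite G] :
    ∀ P : Sylow p G, IsCyclic (P : Subgroup G) → Two p G → IsPSolvable p G := by
  refine GT.card_induction
    (P := fun G _ _ => ∀ P : Sylow p G, IsCyclic (P : Subgroup G) → Two p G → IsPSolvable p G) ?_ G
  intro G _ _ ih P hP ht
  rcases subsingleton_or_nontrivial G with hG | hG
  · exact GT.isPSolvable_of_isSolvable inferInstance
  by_cases hs : IsSimpleGroup G
  · exact simple_case P hP ht
  have : ∃ N : Subgroup G, N.Normal ∧ N ≠ ⊥ ∧ N ≠ ⊤ := by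
    by_contra hc
    push Not at hc
    exact hs ⟨fun N hN' => by
      by_cases hb : N = ⊥
      · exact Or.inl hb
      · exact Or.inr (hc N hN' hb)⟩
  obtain ⟨N, hn, hb, htop⟩ := this
  obtain ⟨Q⟩ : Nonempty (Sylow p N) := inferInstance
  have h1 : IsPSolvable p N := ih N (GT.card_lt_of_ne_top htop) Q (S4145.cyc_sub P hP N Q)
    fun x y hx hy => by
      have := ht x y (by rw [Subgroup.orderOf_coe, hx]) (by rw [Subgroup.orderOf_coe, hy])
      refine this.of_injective (f := (N.subtype.comp (closure ({x, y} : Set N)).subtype).codRestrict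
        _ fun z => ?_) ?_
      · have h3 : (closure ({x, y} : Set N)).map N.subtype = closure ({(x : G), (y : G)} : Set G) := by
          rw [MonoidHom.map_closure, Set.image_pair]; rfl
        exact h3 ▸ mem_map_of_mem _ z.2
      · intro a b hab
        have h3 := congrArg Subtype.val hab
        exact Subtype.ext (Subtype.ext h3)
  have := (Subgroup.nontrivial_iff_ne_bot N).2 hb
  rcases h1.pCore_ne_bot_or with h2 | h2
  · refine S4145.aux P hP ((pCore p N).map N.subtype) ((GT.isPGroup_pCore p).map _) ?_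
    exact fun e => h2 ((map_eq_bot_iff_of_injective _ N.subtype_injective).1 e)
  · set O := (pPrimeCore p N).map N.subtype
    have hO : (Nat.card O).Coprime p := by
      rw [card_map_of_injective N.subtype_injective]
      exact GT.coprime_card_pPrimeCore p
    have hO1 : O ≠ ⊥ := fun e => h2 ((map_eq_bot_iff_of_injective _ N.subtype_injective).1 e)
    refine IsPSolvable.extension O (GT.isPSolvable_of_coprime hO) ?_
    refine ih (G ⧸ O) (GT.card_quotient_lt hO1)
      (P.mapSurjective (QuotientGroup.mk'_surjective O)) ?_ fun x y hx hy => ?_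
    · rw [Sylow.coe_mapSurjective]
      exact isCyclic_of_surjective _ ((QuotientGroup.mk' O).subgroupMap_surjective _)
    · obtain ⟨x, hx', rfl⟩ := Loc.H78.exists_lift_orderOf hp.out O hO hx
      obtain ⟨y, hy', rfl⟩ := Loc.H78.exists_lift_orderOf hp.out O hO hy
      have := (ht x y hx' hy').map (QuotientGroup.mk' O)
      rwa [MonoidHom.map_closure, Set.image_pair] at this

end Cfsg.Agent.Perm.PS
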