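import Mathlib
import Cfsg.Agent.Inv.SE
import Cfsg.Agent.GT.PGroupRank
import Cfsg.Agent.GT.PGroupMaxClass
import Cfsg.Agent.GT.PGroupCyclicNormal

/-!
Transitive groups of odd degree in which every involution fixes exactly one point, or every
involution fixes exactly three points: a strongly embedded subgroup or 2-rank at most two.
-/

set_option autoImplicit false
set_option linter.style.haveILetI false

namespace Cfsg.Agent.Perm.TP

open Subgroup MulAction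
open scoped Pointwise

variable {G : Type*} [Group G] {Ω : Type*} [MulAction G Ω]

theorem se_of_fix [Finite G] [IsPretransitive G Ω] {Δ : Set Ω} (hne : Δ.Nonempty)
    (hu : Δ ≠ Set.univ) {u : G} (hu2 : orderOf u = 2) (huΔ : u ∈ stabilizer G Δ)
    (h : ∀ v ∈ stabilizer G Δ, orderOf v = 2 → fixedBy Ω v = Δ) :
    IsStronglyEmbedded (stabilizer G Δ) := by
  refine Inv.isStronglyEmbedded_iff.2 ⟨fun e => hu ?_, ?_, fun t ht ht2 g hg => ?_⟩
  · obtain ⟨a, ha⟩ := hne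
    refine Set.eq_univ_of_forall fun b => ?_
    obtain ⟨g, rfl⟩ := exists_smul_eq G a b
    have hg : g ∈ stabilizer G Δ := e ▸ mem_top g
    rw [← mem_stabilizer_iff.1 hg]
    exact Set.smul_mem_smul_set ha
  · rw [even_iff_two_dvd, ← hu2]
    exact Subgroup.orderOf_dvd_natCard _ huΔ
  · have h1 := h _ hg (by rw [← ht2]; exact (MulAut.conj g).orderOf_eq t)
    rw [mem_stabilizer_iff]
    nth_rw 1 [← h t ht ht2]
    rw [smul_fixedBy, h1]

theorem eq_of_three {S : Set Ω} (h3 : S.ncard = 3) {a b c d : Ω} (ha : a ∈ S) (hb : b ∈ S)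
    (hc : c ∈ S) (hd : d ∈ S) (hab : a ≠ b) (hca : c ≠ a) (hcb : c ≠ b) (hda : d ≠ a)
    (hdb : d ≠ b) : c = d := by
  obtain ⟨x, y, z, -, -, -, rfl⟩ := Set.ncard_eq_three.1 h3
  simp only [Set.mem_insert_iff, Set.mem_singleton_iff] at ha hb hc hd
  grind

theorem smul_mem_fixedBy {u w : G} (h : Commute w u) {a : Ω} (ha : a ∈ fixedBy Ω u) :
    w • a ∈ fixedBy Ω u := by
  rw [mem_fixedBy] at ha ⊢
  rw [smul_smul, ← h.eq, mul_smul, ha]

theorem fix_of_two {S : Set Ω} (h3 : S.ncard = 3) {w : G} (hw : ∀ c ∈ S, w • c ∈ S) {a b : Ω}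
    (ha : a ∈ S) (hb : b ∈ S) (hab : a ≠ b) (hwa : w • a = a) (hwb : w • b = b) {c : Ω}
    (hc : c ∈ S) : w • c = c := by
  by_cases hca : c = a
  · rw [hca, hwa]
  by_cases hcb : c = b
  · rw [hcb, hwb]
  refine eq_of_three h3 ha hb (hw c hc) hc hab (fun e => hca ?_) (fun e => hcb ?_) hca hcb
  · exact smul_left_cancel w (e.trans hwa.symm)
  · exact smul_left_cancel w (e.trans hwb.symm)

theorem exists_ne_of_three {S : Set Ω} (h3 : S.ncard = 3) (a : Ω) : ∃ b ∈ S, b ≠ a :=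
  Set.exists_ne_of_one_lt_ncard (by omega) a

/-- A group preserving two triples and fixing a common point of them: if it has more than four
elements, a non-trivial element fixes both pointwise. -/
theorem exists_fix_two {A : Subgroup G} (hA : 4 < Nat.card A) {S T : Set Ω} (hS : S.ncard = 3)
    (hT : T.ncard = 3) (hAS : ∀ w ∈ A, ∀ c ∈ S, w • c ∈ S) (hAT : ∀ w ∈ A, ∀ c ∈ T, w • c ∈ T)
    {a : Ω} (haS : a ∈ S) (haT : a ∈ T) (ha : ∀ w ∈ A, w • a = a) :
    ∃ w ∈ A, w ≠ 1 ∧ (∀ c ∈ S, w • c = c) ∧ ∀ c ∈ T, w • c = c := by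
  obtain ⟨b, hb, hba⟩ := exists_ne_of_three hS a
  obtain ⟨d, hd, hda⟩ := exists_ne_of_three hT a
  have hne : ∀ w ∈ A, ∀ c, c ≠ a → w • c ≠ a := fun w hw c hc e =>
    hc (smul_left_cancel w (e.trans (ha w hw).symm))
  let f : A → ↥(S \ {a}) × ↥(T \ {a}) := fun w =>
    (⟨w.1 • b, hAS _ w.2 b hb, hne _ w.2 b hba⟩, ⟨w.1 • d, hAT _ w.2 d hd, hne _ w.2 d hda⟩)
  have hSf : S.Finite := Set.finite_of_ncard_ne_zero (by omega)
  have hTf : T.Finite := Set.finite_of_ncard_ne_zero (by omega)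
  haveI : Finite ↥(S \ {a}) := (hSf.subset Set.sdiff_subset).to_subtype
  haveI : Finite ↥(T \ {a}) := (hTf.subset Set.sdiff_subset).to_subtype
  have hf : ¬ Function.Injective f := fun hf => by
    have := Nat.card_le_card_of_injective f hf
    rw [Nat.card_prod, Nat.card_coe_set_eq, Nat.card_coe_set_eq,
      Set.ncard_sdiff_singleton_of_mem haS, Set.ncard_sdiff_singleton_of_mem haT, hS, hT] at this
    omega
  obtain ⟨x, y, hxy, hne⟩ := Function.not_injective_iff.1 hf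
  have h1 : x.1 • b = y.1 • b := congrArg (fun p => p.1.1) hxy
  have h2 : x.1 • d = y.1 • d := congrArg (fun p => p.2.1) hxy
  have hw : y.1⁻¹ * x.1 ∈ A := mul_mem (inv_mem y.2) x.2
  refine ⟨_, hw, fun e => hne (Subtype.ext (inv_mul_eq_one.1 e).symm), fun c hc => ?_,
    fun c hc => ?_⟩
  · exact fix_of_two hS (hAS _ hw) haS hb hba.symm (ha _ hw)
      (by rw [mul_smul, h1, inv_smul_smul]) hc
  · exact fix_of_two hT (hAT _ hw) haT hd hda.symm (ha _ hw)
      (by rw [mul_smul, h2, inv_smul_smul]) hc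

theorem exists_fixed_of_odd [Finite G] {Q : Subgroup G} (hQ : IsPGroup 2 Q) {S : Set Ω}
    (hS : Odd S.ncard) (hQS : ∀ w ∈ Q, ∀ c ∈ S, w • c ∈ S) : ∃ a ∈ S, ∀ w ∈ Q, w • a = a := by
  haveI : Fact (Nat.Prime 2) := ⟨Nat.prime_two⟩
  let X : SubMulAction Q Ω := ⟨S, fun w c hc => hQS w w.2 c hc⟩
  haveI : Finite X := (Set.finite_of_ncard_ne_zero (s := S) (by rintro h; simp [h] at hS)).to_subtype
  obtain ⟨a, ha⟩ := hQ.nonempty_fixed_point_of_prime_not_dvd_card X (by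
    change ¬ 2 ∣ Nat.card S
    rw [Nat.card_coe_set_eq]
    exact hS.not_two_dvd_nat)
  exact ⟨a.1, a.2, fun w hw => congrArg Subtype.val (ha ⟨w, hw⟩)⟩

theorem exists_invol_pow [Finite G] {w : G} (hw : w ≠ 1) {k : ℕ} (hk : w ^ 2 ^ k = 1) :
    ∃ j : ℕ, orderOf (w ^ j) = 2 := by
  haveI : Fact (Nat.Prime 2) := ⟨Nat.prime_two⟩
  obtain ⟨i, -, hi⟩ := (Nat.dvd_prime_pow Nat.prime_two).1 (orderOf_dvd_of_pow_eq_one hk)
  rcases i with _ | i
  · exact absurd (orderOf_eq_one_iff.1 hi) hw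
  exact ⟨2 ^ i, by rw [orderOf_pow, hi, pow_succ, Nat.gcd_mul_right_left,
    Nat.mul_div_cancel_left _ (by positivity)]⟩

theorem se_or_rank [Finite G] [Finite Ω] [IsPretransitive G Ω] (hΩ : Odd (Nat.card Ω))
    (h3 : 3 < Nat.card Ω) {u : G} (hu : orderOf u = 2)
    (hf : (∀ v : G, orderOf v = 2 → (fixedBy Ω v).ncard = 1) ∨
      ∀ v : G, orderOf v = 2 → (fixedBy Ω v).ncard = 3) :
    (∃ M : Subgroup G, IsStronglyEmbedded M) ∨ PRankLE 2 2 G := by
  haveI : Fact (Nat.Prime 2) := ⟨Nat.prime_two⟩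
  have hstab : ∀ w v : G, Commute w v → w ∈ stabilizer G (fixedBy Ω v) := fun w v h => by
    rw [mem_stabilizer_iff, smul_fixedBy, h.eq, mul_inv_cancel_right]
  have hpres : ∀ {Δ : Set Ω}, ∀ w ∈ stabilizer G Δ, ∀ c ∈ Δ, w • c ∈ Δ := fun w hw c hc => by
    rw [← mem_stabilizer_iff.1 hw]
    exact Set.smul_mem_smul_set hc
  rcases hf with hf | hf
  · left
    obtain ⟨a, ha⟩ := Set.ncard_eq_one.1 (hf u hu)
    refine ⟨_, se_of_fix (Δ := fixedBy Ω u) (ha ▸ Set.singleton_nonempty a) (fun e => ?_) hu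
      (hstab u u (Commute.refl u)) fun v hv hv2 => ?_⟩
    · have := hf u hu
      rw [e, Set.ncard_univ] at this
      omega
    · refine (Set.eq_of_subset_of_ncard_le ?_ (by rw [hf v hv2, hf u hu])).symm
      rw [ha] at hv ⊢
      exact Set.singleton_subset_iff.2 (hpres v hv a rfl)
  by_cases hr : PRankLE 2 2 G
  · exact Or.inr hr
  left
  obtain ⟨A, hAc, hA2, hA⟩ : ∃ A : Subgroup G, IsMulCommutative A ∧ (∀ a ∈ A, a ^ 2 = 1) ∧
      4 < Nat.card A := by
    by_contra h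
    push Not at h
    exact hr h
  have hAp : IsPGroup 2 A := fun a => ⟨1, Subtype.ext (by simpa using hA2 a a.2)⟩
  have hcomm : ∀ a ∈ A, ∀ b ∈ A, Commute a b := fun a ha b hb =>
    congrArg Subtype.val (hAc.is_comm.comm (⟨a, ha⟩ : A) ⟨b, hb⟩)
  have hord : ∀ a ∈ A, a ≠ 1 → orderOf a = 2 := fun a ha h1 => orderOf_eq_prime (hA2 a ha) h1
  obtain ⟨a₀, -, ha₀⟩ := exists_fixed_of_odd (S := (Set.univ : Set Ω)) hAp
    (by rwa [Set.ncard_univ]) fun _ _ _ _ => Set.mem_univ _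
  have hsub : ∀ {v w : G}, orderOf v = 2 → orderOf w = 2 → (∀ c ∈ fixedBy Ω v, w • c = c) →
      fixedBy Ω w = fixedBy Ω v := fun hv hw h =>
    (Set.eq_of_subset_of_ncard_le (s := fixedBy Ω _) (t := fixedBy Ω _) (fun c hc => h c hc)
      (by rw [hf _ hv, hf _ hw])).symm
  obtain ⟨z, hz, hz1⟩ : ∃ z ∈ A, z ≠ 1 := by
    by_contra h
    push Not at h
    rw [(eq_bot_iff_forall A).2 h, card_bot] at hA
    omega
  have hz2 := hord z hz hz1
  have hAΔ : A ≤ stabilizer G (fixedBy Ω z) := fun w hw => hstab w z (hcomm w hw z hz)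
  refine ⟨_, se_of_fix (Δ := fixedBy Ω z) ⟨a₀, ha₀ z hz⟩ (fun e => ?_) hz2 (hAΔ hz)
    fun v hv hv2 => ?_⟩
  · have := hf z hz2
    rw [e, Set.ncard_univ] at this
    omega
  by_contra hvΔ
  set M := stabilizer G (fixedBy Ω z) with hM
  have hvp : IsPGroup 2 (zpowers (⟨v, hv⟩ : M)) :=
    IsPGroup.of_card (n := 1) (by rw [Nat.card_zpowers, ← Subgroup.orderOf_coe, hv2, pow_one])
  obtain ⟨Q, hQ⟩ := hvp.exists_le_sylow
  have hvQ : (⟨v, hv⟩ : M) ∈ (Q : Subgroup M) := hQ (mem_zpowers _)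
  have hrM : ¬ PRankLE 2 2 M := fun h => by
    have := h (A.subgroupOf M) (by
      refine ⟨⟨fun a b => Subtype.ext (Subtype.ext ?_)⟩⟩
      exact hcomm _ a.2 _ b.2) fun a ha => Subtype.ext (hA2 _ ha)
    rw [Nat.card_congr (subgroupOfEquivOfLe hAΔ).toEquiv] at this
    omega
  have hrQ : ¬ PRankLE 2 2 Q := fun h => hrM ((GT.PG.pRankLE_sylow_iff Q).1 h)
  have hQ4 : 4 < Nat.card Q := by
    by_contra h
    exact hrQ fun B _ _ => (card_le_card_group B).trans (by omega)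
  have hC : 4 < Nat.card (centralizer ({⟨_, hvQ⟩} : Set Q)) := by
    by_contra h
    obtain ⟨m, a, b, hm⟩ := GT.PG.exists_maxTwo_of_card_centralizer_le Q.isPGroup' hQ4
      (not_lt.1 h)
    exact hrQ hm.pRankLE_two
  let φ : Q →* G := M.subtype.comp (Q : Subgroup M).subtype
  have hφ : Function.Injective φ := M.subtype_injective.comp (Q : Subgroup M).subtype_injective
  let B := (centralizer ({⟨_, hvQ⟩} : Set Q)).map φ
  have hB : 4 < Nat.card B := by rwa [card_map_of_injective hφ]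
  have hBp : IsPGroup 2 B := (Q.isPGroup'.to_subgroup _).map φ
  have hBM : B ≤ M := by
    rintro _ ⟨w, -, rfl⟩
    exact w.1.2
  have hBv : ∀ w ∈ B, Commute w v := by
    rintro _ ⟨w, hw, rfl⟩
    exact congrArg φ (mem_centralizer_singleton_iff.1 hw)
  have hvB : v ∈ B := ⟨⟨_, hvQ⟩, mem_centralizer_singleton_iff.2 rfl, rfl⟩
  obtain ⟨a, ha, haB⟩ := exists_fixed_of_odd (S := fixedBy Ω z) hBp (by rw [hf z hz2]; decide)
    fun w hw => hpres w (hBM hw)
  obtain ⟨w, hw, hw1, hwz, hwv⟩ := exists_fix_two hB (hf z hz2) (hf v hv2)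
    (fun w hw => hpres w (hBM hw)) (fun w hw c hc => smul_mem_fixedBy (hBv w hw) hc) ha
    (haB v hvB) haB
  obtain ⟨k, hk⟩ := hBp ⟨w, hw⟩
  obtain ⟨j, hj⟩ := exists_invol_pow hw1 (k := k) (congrArg Subtype.val hk)
  have hpow : ∀ c : Ω, w • c = c → w ^ j • c = c := fun c hc => (stabilizer G c).pow_mem hc j
  exact hvΔ ((hsub hv2 hj fun c hc => hpow c (hwv c hc)).symm.trans
    (hsub hz2 hj fun c hc => hpow c (hwz c hc)))

end Cfsg.Agent.Perm.TP
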