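import Mathlib
import Cfsg.Agent.Perm.ZassField
import Cfsg.Agent.Perm.ZassSharp
import Cfsg.Agent.Perm.ThreeTrans

/-!
Sharply triply transitive groups.
-/

set_option autoImplicit false

namespace Cfsg.Agent.Perm.Zass

open MulAction Cfsg.Agent.Ch

variable {G Ω : Type*} [Group G] [MulAction G Ω]

theorem isZT_of_sharp [Finite Ω] (h3 : IsMultiplyPretransitive G Ω 3)
    (hsharp : ∀ x : Fin 3 ↪ Ω, stabilizer G x = ⊥) (h : 3 ≤ Nat.card Ω) : IsZT G Ω := by
  have key : ∀ a b : Ω, ∃ c, c ≠ a ∧ c ≠ b := fun a b => by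
    by_contra hc
    push Not at hc
    have h1 : (Set.univ : Set Ω) ⊆ {a, b} := fun c _ => (eq_or_ne c a).imp id (hc c)
    have h2 := (Set.ncard_le_ncard h1).trans (Set.ncard_insert_le _ _)
    rw [Set.ncard_univ, Set.ncard_singleton] at h2
    omega
  refine ⟨fun {a b c d} hab hcd => ?_, fun h1 h2 h3 => sharp_three_iff.mp hsharp _ _ _ _ h1 h3 h2,
    key, (Nat.card_pos_iff.mp (by omega)).1⟩
  obtain ⟨x, h1, h2⟩ := key a b
  obtain ⟨y, h4, h5⟩ := key c d
  obtain ⟨g, e1, e2, -⟩ := three_pretransitive_iff.mp h3 a b x c d y hab h1.symm h2.symm hcd h4.symm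
    h5.symm
  exact ⟨g, e1, e2⟩

namespace IsKer

variable [Finite G] (hZ : IsZT G Ω) {a b : Ω} {H : Subgroup G} (hH : IsKer a H) (hab : a ≠ b)
include hZ hH hab

theorem card_of_three (h3 : IsMultiplyPretransitive G Ω 3) :
    Nat.card H - 1 = Nat.card ↥(stabilizer G a ⊓ stabilizer G b) := by
  have := hZ.finite_dom
  obtain ⟨c, hca, hcb⟩ := hZ.third a b
  have h1 := Nat.card_eq_of_bijective (fun k : ↥(stabilizer G a ⊓ stabilizer G b) =>
    (⟨(k : G) • c, by
      rintro (e | e)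
      · exact hca (smul_left_cancel (k : G) (e.trans k.2.1.symm))
      · exact hcb (smul_left_cancel (k : G) (e.trans k.2.2.symm))⟩ : ↥({a, b}ᶜ : Set Ω)))
    ⟨fun k l e => Subtype.ext (hZ.ext3 hab hcb.symm hca.symm (k.2.1.trans l.2.1.symm)
      (k.2.2.trans l.2.2.symm) (congrArg Subtype.val e)), fun d => by
      obtain ⟨g, h1, h2, h3⟩ := three_pretransitive_iff.mp h3 a b c a b d hab hca.symm hcb.symm hab
        (fun e => d.2 (Or.inl e.symm)) (fun e => d.2 (Or.inr e.symm))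
      exact ⟨⟨g, h1, h2⟩, Subtype.ext h3⟩⟩
  rw [h1, Nat.card_coe_set_eq, Set.ncard_compl, Set.ncard_pair hab, ← hH.card_add_one hZ]
  rfl

omit hab in
theorem isZT_of_le {M : Subgroup G} [hM : M.Normal] (h : H ≤ M) : IsZT M Ω := by
  refine ⟨fun {x y c d} hxy hcd => ?_, fun h1 h2 h3 e1 e2 e3 => Subtype.ext (hZ.three h1 h2 h3 e1 e2 e3),
    hZ.third, hZ.nonempty⟩
  obtain ⟨m, hm, e⟩ := hZ.normal_trans (M := M) (fun e => hH.ne_bot hZ (eq_bot_iff.mpr (e ▸ h))) x c
  obtain ⟨g, rfl⟩ := hZ.trans a c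
  obtain ⟨_, ⟨u, hu, rfl⟩, e'⟩ := (hH.conj g).trans hZ (b := m • y)
    (fun e' => hxy (smul_left_cancel m (e.trans e'.symm))) hcd.symm
  exact ⟨⟨_, M.mul_mem (hM.conj_mem u (h hu) g) hm⟩,
    (mul_smul _ _ _).trans (by rw [e]; exact (hH.conj g).smul_eq ⟨u, hu, rfl⟩),
    (mul_smul _ _ _).trans e'⟩

theorem index_mul_of_le {M : Subgroup G} [hM : M.Normal] (h : H ≤ M) :
    M.index * Nat.card ↥(stabilizer M a ⊓ stabilizer M b) =
      Nat.card ↥(stabilizer G a ⊓ stabilizer G b) := by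
  have h1 := hH.subgroupOf.card_eq (hH.isZT_of_le hZ h) hab.symm
  rw [Nat.card_congr (Subgroup.subgroupOfEquivOfLe h).toEquiv] at h1
  have h2 := M.index_mul_card
  rw [h1, hH.card_eq hZ hab.symm] at h2
  refine Nat.eq_of_mul_eq_mul_left (show 0 < (Nat.card H + 1) * Nat.card H from
    Nat.mul_pos (Nat.succ_pos _) Nat.card_pos) ?_
  linarith

variable (he : Nat.card H - 1 = Nat.card ↥(stabilizer G a ⊓ stabilizer G b))
  (hev : Even (Nat.card ↥(stabilizer G a ⊓ stabilizer G b)))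
include he hev

omit hab in
theorem odd_of_sharp : Odd (Nat.card H) := by
  have := (Subgroup.one_lt_card_iff_ne_bot H).mpr (hH.ne_bot hZ)
  rw [show Nat.card H = _ + 1 from (Nat.sub_add_cancel this.le).symm, he]
  exact hev.add_one

/-- A sharply triply transitive group of even degree has a subgroup of index two. -/
theorem exists_index_two : ∃ M : Subgroup G, M.index = 2 ∧ H ≤ M := by
  classical
  have := hZ.finite_dom
  have := Fintype.ofFinite Ω
  have hodd := hH.odd_of_sharp hZ he hev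
  have hcard := hH.card_add_one hZ
  by_cases h : ∃ s : G, Equiv.Perm.sign (toPermHom G Ω s) ≠ 1
  · obtain ⟨s, hs⟩ := h
    let f := Equiv.Perm.sign.comp (toPermHom G Ω)
    refine ⟨f.ker, ?_, fun u hu => ?_⟩
    · rw [Subgroup.index_ker, MonoidHom.range_eq_top.mpr fun y => ?_, Subgroup.card_top,
        Nat.card_eq_fintype_card, Fintype.card_units_int]
      rcases Int.units_eq_one_or y with rfl | rfl
      exacts [⟨1, f.map_one⟩, ⟨s, (Int.units_eq_one_or _).resolve_left hs⟩]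
    · obtain ⟨k, hk⟩ := exists_sq_eq_of_odd hodd (pow_card_eq_one_of_mem hu)
      rw [MonoidHom.mem_ker, ← hk, map_mul, Int.units_mul_self]
  push Not at h
  have key : ∀ s : G, s * s = 1 → Even ((Nat.card Ω - Nat.card (fixedBy Ω s)) / 2) := fun s hs => by
    have h1 := Equiv.Perm.sign_of_pow_two_eq_one (σ := toPermHom G Ω s)
      (by rw [← map_pow, sq, hs, map_one])
    rw [h, eq_comm, neg_one_pow_eq_one_iff_even (by decide), ← Nat.card_eq_fintype_card,
      ← Nat.card_eq_fintype_card] at h1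
    exact h1
  obtain ⟨χ, hχ, hχ1, hk, -⟩ := hH.exists_irr_of_sharp hZ hab he hev
  have := hχ.isCharacter.charKer_normal
  have hZ' := hH.isZT_of_le hZ hk
  have h1 := hH.index_mul_of_le hZ hab hk
  refine ⟨_, ?_, hk⟩
  obtain ⟨t, ht, hta, -⟩ := hZ'.exists_swap hab
  have ht1 : t ≠ 1 := fun e => hab (by rw [← hta, e, one_smul])
  obtain ⟨z, hz, hz1, hza, hzb⟩ := hZ.exists_invol_stab2 hab hev hab
  have h2 := key z hz
  have h3 := key t (congrArg Subtype.val ht)
  rw [hZ.card_fixedBy_eq_two hz1 hab hza hzb] at h2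
  obtain ⟨c, hc⟩ : ∃ c : Ω, t • c = c := by
    by_contra hc
    have : IsEmpty (fixedBy Ω (t : G)) := ⟨fun c => hc ⟨c, c.2⟩⟩
    rw [Nat.card_of_isEmpty (α := fixedBy Ω (t : G))] at h3
    obtain ⟨k, hk⟩ := hodd
    rw [Nat.even_iff] at h2 h3
    omega
  obtain ⟨d, hd, hd'⟩ := hZ'.exists_fixed_of_even (hcard ▸ hodd.add_one) ht hc
  have h4 := hZ'.card_le_of_even hab (by
    rw [hZ'.card_stab2_eq hab hd, even_iff_two_dvd, ← (orderOf_eq_two_iff'.mpr ⟨ht, ht1⟩)]
    exact Subgroup.orderOf_dvd_natCard _ ⟨hd', hc⟩)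
  have h5 : (charKer χ).index ≠ 1 := fun e => hχ1 (hχ.charKer_eq_top_iff.mp (Subgroup.index_eq_one.mp e))
  have h6 : (charKer χ).index ≠ 0 := Subgroup.index_ne_zero_of_finite
  have h7 : (charKer χ).index ≤ 2 := Nat.le_of_mul_le_mul_right (by rw [h1]; omega) Nat.card_pos
  omega

variable {M : Subgroup G} (hM : M.index = 2) (hHM : H ≤ M)
include hM hHM

omit he hH hHM in
theorem inverts_of_index_odd (hodd : Odd (Nat.card ↥(stabilizer M a ⊓ stabilizer M b))) :
    ∃ s : G, s * s = 1 ∧ s • a = b ∧ s • b = a ∧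
      ∀ x ∈ stabilizer G a ⊓ stabilizer G b, s * x * s⁻¹ = x⁻¹ := by
  have := hZ.finite_dom
  have hN := Subgroup.normal_of_index_eq_two hM
  obtain ⟨c, hca, hcb⟩ := hZ.third a b
  obtain ⟨s, hs, hsa, hsb, hsc⟩ := hZ.exists_swap_fix hab hev hca hcb
  have hs1 : s ≠ 1 := fun e => hab (by rw [← hsa, e, one_smul])
  have h0 : ∀ x ∈ stabilizer G a ⊓ stabilizer G b ⊓ M, x * x = 1 → x = 1 := fun x hx hxx => by
    by_contra hx1
    refine Nat.not_even_iff_odd.mpr hodd (even_iff_two_dvd.mpr ?_)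
    rw [← (orderOf_eq_two_iff' (s := (⟨x, hx.2⟩ : M))).mpr ⟨Subtype.ext hxx,
      fun e => hx1 (congrArg Subtype.val e)⟩]
    exact Subgroup.orderOf_dvd_natCard _ hx.1
  have h1 : ∀ x ∈ stabilizer G a ⊓ stabilizer G b ⊓ M, s * x * s⁻¹ = x⁻¹ := fun x hx =>
    conj_eq_inv_of_fpf (E := stabilizer G a ⊓ stabilizer G b ⊓ M) hs (fun y hy => ⟨swap_conj_mem hsa hsb hy.1, hN.conj_mem y hy.2 s⟩)
      (fun y hy e => h0 y hy (by
        have e1 : s • y • c = y • c := by rw [← mul_smul, e, mul_smul, hsc]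
        have e2 : s • y • y • c = y • y • c := by rw [← mul_smul, e, mul_smul, e1]
        refine hZ.three hab hcb.symm hca.symm (by rw [mul_smul, hy.1.1, hy.1.1])
          (by rw [mul_smul, hy.1.2, hy.1.2]) ?_
        rw [mul_smul]
        by_cases e3 : y • c = c
        · rw [e3, e3]
        · exact (hZ.eq_or_eq e3 hs1 e1 hsc e2).resolve_left fun e4 => e3 (smul_left_cancel y e4))) hx
  obtain ⟨z, hz, hz1, hza, hzb⟩ := hZ.exists_invol_stab2 hab hev hab
  have hF := hZ.hasFpfAction hab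
  have hsz : s * z * s⁻¹ = z := congrArg Subtype.val (hF.eq_of_mul_self_eq_one
    (s := ⟨_, swap_conj_mem hsa hsb ⟨hza, hzb⟩⟩) (t := ⟨z, hza, hzb⟩)
    (fun e => conj_ne_one hz1 (congrArg Subtype.val e)) (Subtype.ext (conj_mul_self hz))
    (fun e => hz1 (congrArg Subtype.val e)) (Subtype.ext hz))
  refine ⟨s, hs, hsa, hsb, fun x hx => ?_⟩
  by_cases hxM : x ∈ M
  · exact h1 x ⟨hx, hxM⟩
  have h2 := h1 (x * z) ⟨Subgroup.mul_mem _ hx ⟨hza, hzb⟩, (Subgroup.mul_mem_iff_of_index_two hM).mpr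
    ⟨fun h => absurd h hxM, fun h => absurd (h0 z ⟨⟨hza, hzb⟩, h⟩ hz) hz1⟩⟩
  have h3 : x⁻¹ * z = z * x⁻¹ := congrArg Subtype.val (Subgroup.mem_center_iff.mp
    (hF.mem_center_of_mul_self_eq_one (t := ⟨z, hza, hzb⟩) (Subtype.ext hz)) ⟨x⁻¹, inv_mem hx⟩)
  rw [mul_inv_rev, inv_eq_self_of_mul_self hz, ← h3, ← hsz] at h2
  nth_rw 1 [hsz] at h2
  apply mul_right_cancel (b := s * z * s⁻¹)
  rw [← h2]
  group

omit hev in
theorem inverts_of_index_even (hev' : Even (Nat.card ↥(stabilizer M a ⊓ stabilizer M b))) {s : M}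
    (hsa : s • a = b) (hsb : s • b = a) :
    ∀ x ∈ stabilizer M a ⊓ stabilizer M b, s * x * s⁻¹ = x⁻¹ := fun x hx => by
  have := hZ.finite_dom
  have hN := Subgroup.normal_of_index_eq_two hM
  have h1 := hH.index_mul_of_le hZ hab hHM
  have h2 := hH.card_add_one hZ
  exact (hH.isZT_of_le hZ hHM).inverts_of_even hab hev' (by rw [hM] at h1; omega) hsa hsb hx

theorem comm_of_index_two {x y : G} (hx : x ∈ stabilizer G a ⊓ stabilizer G b) (hxM : x ∈ M)
    (hy : y ∈ stabilizer G a ⊓ stabilizer G b) (hyM : y ∈ M) : x * y = y * x := by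
  have := hZ.finite_dom
  have hN := Subgroup.normal_of_index_eq_two hM
  rcases Nat.even_or_odd (Nat.card ↥(stabilizer M a ⊓ stabilizer M b)) with h | h
  · obtain ⟨t, -, hta, htb⟩ := (hH.isZT_of_le hZ hHM).exists_swap hab
    exact congrArg Subtype.val (mul_comm_of_conj_eq_inv (hH.inverts_of_index_even hZ hab he hM hHM h
      hta htb) (x := ⟨x, hxM⟩) (y := ⟨y, hyM⟩) hx hy)
  · obtain ⟨s, -, -, -, hs⟩ := inverts_of_index_odd hZ hab hev hM h
    exact mul_comm_of_conj_eq_inv hs hx hy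

omit hM hHM in
theorem inverts_of_odd_exp {p f : ℕ} [Fact p.Prime] (hf : Odd f) (hq : Nat.card H = p ^ f) :
    ∃ s : G, s * s = 1 ∧ s • a = b ∧ s • b = a ∧
      ∀ x ∈ stabilizer G a ⊓ stabilizer G b, s * x * s⁻¹ = x⁻¹ := by
  have := hZ.finite_dom
  obtain ⟨M, hM, hHM⟩ := hH.exists_index_two hZ hab he hev
  have hN := Subgroup.normal_of_index_eq_two hM
  rcases Nat.even_or_odd (Nat.card ↥(stabilizer M a ⊓ stabilizer M b)) with h | h
  swap
  · exact inverts_of_index_odd hZ hab hev hM h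
  have hZ' := hH.isZT_of_le hZ hHM
  have hH' : IsKer a (H.subgroupOf M) := hH.subgroupOf
  obtain ⟨t, ht, hta, htb⟩ := hZ'.exists_swap hab
  have hinv := hH.inverts_of_index_even hZ hab he hM hHM h hta htb
  have h1 := hH.index_mul_of_le hZ hab hHM
  have hc := Nat.card_congr (Subgroup.subgroupOfEquivOfLe hHM).toEquiv
  have hle : Nat.card (H.subgroupOf M) - 1 ≤ 2 * Nat.card ↥(stabilizer M a ⊓ stabilizer M b) := by
    rw [hM] at h1; omega
  obtain ⟨F, _, _, ι, ψ, hC⟩ := hH'.exists_coord hZ' hab hle fun k hk l hl =>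
    mul_comm_of_conj_eq_inv hinv hk hl
  obtain ⟨α, hα, hτ⟩ := hC.exists_smul_pt hH' hab hZ' hle ht hta htb hinv
  refine ⟨t, congrArg Subtype.val ht, hta, htb, fun k hk => ?_⟩
  choose κ hκ using fun x : F => hC.surj ⟨k * ι x * k⁻¹, hN.conj_mem _ (ι x).2 k⟩
    (hH.conj_mem hk.1 (hC.mem x))
  replace hκ : ∀ x, (ι (κ x) : G) = k * ι x * k⁻¹ := fun x => congrArg Subtype.val (hκ x)
  have hι : ∀ {x y}, (ι x : G) = ι y → x = y := fun e => hC.inj (Subtype.ext e)
  have hadd : ∀ x y, κ (x + y) = κ x + κ y := fun x y => hι (by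
    rw [hC.add, hκ, hC.add, Subgroup.coe_mul, Subgroup.coe_mul, hκ, hκ]; group)
  have hinj : Function.Injective κ := fun x y e => hι (by
    have := (hκ x).symm.trans ((congrArg (fun z => (ι z : G)) e).trans (hκ y))
    simpa using this)
  let κ' : F →+ F := AddMonoidHom.mk' κ hadd
  have h0 : κ 1 ≠ 0 := fun e => one_ne_zero (hinj (e.trans κ'.map_zero.symm))
  have hconj : ∀ (l : ↥(stabilizer M a ⊓ stabilizer M b)) x,
      (ι (ψ l * x) : G) = l * ι x * ((l : M) : G)⁻¹ := fun l x => by rw [← hC.conj]; rfl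
  have hsq : ∀ r x, κ (r * r * x) * κ 1 = κ (r * r) * κ x := fun r x => by
    by_cases hr : r = 0
    · rw [hr, zero_mul, zero_mul, show κ 0 = 0 from κ'.map_zero, zero_mul, zero_mul]
    obtain ⟨l, hl⟩ : Units.mk0 r hr * Units.mk0 r hr ∈ ψ.range := by
      rcases hC.index_cases hH' hab hZ' hle with e | e
      · rw [e]; trivial
      · rw [Subgroup.mul_mem_iff_of_index_two e]
    let l' : ↥(stabilizer M a ⊓ stabilizer M b) := ⟨⟨k * l * k⁻¹, hN.conj_mem _ l.1.2 k⟩,
      show k * l * k⁻¹ ∈ stabilizer G a ⊓ stabilizer G b from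
        mul_mem (mul_mem hk (show ((l : M) : G) ∈ stabilizer G a ⊓ stabilizer G b from l.2)) (inv_mem hk)⟩
    have e : ∀ y, κ (r * r * y) = ψ l' * κ y := fun y => hι (by
      rw [hκ, hconj, hκ, show r * r = ψ l by rw [hl]; rfl, hconj]
      simp only [l']
      group)
    rw [e x, ← mul_one (r * r), e 1]
    ring
  have hmul : ∀ y x, κ (y * x) * κ 1 = κ y * κ x := fun y x => by
    obtain ⟨r, s, hrs⟩ := FiniteField.exists_root_sum_quadratic (R := F) (f := Polynomial.X ^ 2)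
      (g := Polynomial.X ^ 2 - Polynomial.C y) (Polynomial.degree_X_pow 2)
      (Polynomial.degree_X_pow_sub_C two_pos y) (by
        rw [← Nat.card_eq_fintype_card, hC.card_eq, hc]
        exact Nat.odd_iff.mp (hH.odd_of_sharp hZ he hev))
    simp only [Polynomial.eval_pow, Polynomial.eval_X, Polynomial.eval_sub, Polynomial.eval_C] at hrs
    rw [show y = r * r + s * s by linear_combination -hrs, add_mul, hadd, hadd, add_mul, hsq, hsq,
      add_mul]
  let σ₀ : F →+* F :=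
    { toFun := fun x => κ x / κ 1
      map_one' := div_self h0
      map_mul' := fun x y => by field_simp; exact hmul x y
      map_zero' := by rw [show κ 0 = 0 from κ'.map_zero, zero_div]
      map_add' := fun x y => by rw [hadd, add_div] }
  let σ : F ≃+* F := RingEquiv.ofBijective σ₀ (Finite.injective_iff_bijective.mp σ₀.injective)
  have hσ : ∀ x, κ x = κ 1 * σ x := fun x => (mul_div_cancel₀ _ h0).symm
  have hkk : ∀ x, κ (κ x) = ψ ⟨⟨k * k, Subgroup.mul_self_mem_of_index_two hM k⟩,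
      show k * k ∈ stabilizer G a ⊓ stabilizer G b from mul_mem hk hk⟩ * x := fun x => hι (by
    rw [hκ, hκ, hconj]; group)
  have hσ2 : σ ^ 2 = 1 := RingEquiv.ext fun x => by
    have e1 := hkk x
    have e2 := hkk 1
    rw [hσ, hσ x, map_mul] at e1
    rw [hσ, mul_one] at e2
    rw [← e2, mul_assoc] at e1
    exact mul_left_cancel₀ ((map_ne_zero σ).mpr h0) (mul_left_cancel₀ h0 e1)
  have hσ1 : σ = 1 := by
    have hF : Nat.card F = p ^ f := by rw [hC.card_eq, hc, hq]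
    have : CharP F p := charP_of_card_eq_prime_pow (by rw [← Nat.card_eq_fintype_card, hF])
    let _ := ZMod.algebra F p
    let e : (F ≃+* F) →* (F ≃ₐ[ZMod p] F) := MonoidHom.mk' (fun τ => AlgEquiv.ofRingEquiv (f := τ)
      fun x => RingHom.congr_fun (RingHom.ext_zmod ((τ : F →+* F).comp (algebraMap _ _)) _) x)
      fun _ _ => rfl
    have e1 := orderOf_dvd_natCard (e σ)
    have e0 := (Module.natCard_eq_pow_finrank (K := ZMod p) (V := F)).symm.trans hF
    rw [Nat.card_zmod] at e0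
    rw [IsGalois.card_aut_eq_finrank, Nat.pow_right_injective (Fact.out : p.Prime).two_le e0] at e1
    have e2 : orderOf (e σ) ∣ 2 := orderOf_dvd_of_pow_eq_one (by rw [← map_pow, hσ2, map_one])
    have e3 := orderOf_eq_one_iff.mp (Nat.eq_one_of_dvd_coprimes (Nat.coprime_two_right.mpr hf) e1 e2)
    exact RingEquiv.ext fun x => DFunLike.congr_fun e3 x
  have hk' : ∀ x, k • ι x • b = ι (κ 1 * x) • b := fun x => by
    have := hσ x
    rw [hσ1] at this
    rw [← show κ x = κ 1 * x from this, Subgroup.smul_def, Subgroup.smul_def, hκ, mul_smul, mul_smul,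
      inv_smul_eq_iff.mpr hk.2.symm]
  have hti : (t : G)⁻¹ = t := inv_eq_self_of_mul_self (congrArg Subtype.val ht)
  rw [eq_inv_iff_mul_eq_one, hti]
  refine hZ.three hab (hC.pt_ne_right hH' hab one_ne_zero).symm (hC.pt_ne hH' hab 1).symm ?_ ?_ ?_
  · rw [mul_smul, mul_smul, mul_smul, hk.1, show (t : G) • a = b from hta, hk.2]; exact htb
  · rw [mul_smul, mul_smul, mul_smul, hk.2, show (t : G) • b = a from htb, hk.1]; exact hta
  · replace hτ : ∀ x, x ≠ 0 → (t : G) • ι x • b = ι (α * x⁻¹) • b := hτ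
    rw [mul_smul, mul_smul, mul_smul, hk', mul_one, hτ _ h0, hk', mul_left_comm, mul_inv_cancel₀ h0,
      mul_one, hτ _ hα, mul_inv_cancel₀ hα]

end IsKer

end Cfsg.Agent.Perm.Zass
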